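import Cfsg.Agent.TAB.F23.Dat
import Cfsg.Agent.TAB.Glue.Cert
import Cfsg.Agent.TAB.Sm1.Fin

/-!
# `Fi₂₃` : the rational character table (helper12, TAB; generated by `notes/TAB/F23/gen.py.txt`)
-/

set_option autoImplicit false
set_option maxRecDepth 100000

namespace Cfsg.Agent.TAB.F23

open Cfsg Cfsg.Agent.TAB.Eng Cfsg.Agent.TAB.Use Cfsg.Agent.TAB.Glue

/-- a row -/
def r0 : List ℤ := [.ofNat 1, .ofNat 1, .ofNat 1, .ofNat 1, .ofNat 1, .ofNat 1, .ofNat 1, .ofNat 1, .ofNat 1,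
    .ofNat 1, .ofNat 1, .ofNat 1, .ofNat 1, .ofNat 1, .ofNat 1, .ofNat 1, .ofNat 1, .ofNat 1, .ofNat 1,
    .ofNat 1, .ofNat 1, .ofNat 1, .ofNat 1, .ofNat 1, .ofNat 1, .ofNat 1, .ofNat 1, .ofNat 1, .ofNat 1,
    .ofNat 1, .ofNat 1, .ofNat 1, .ofNat 1, .ofNat 1, .ofNat 1, .ofNat 1, .ofNat 1, .ofNat 1, .ofNat 1,
    .ofNat 1, .ofNat 1, .ofNat 1, .ofNat 1, .ofNat 1, .ofNat 1, .ofNat 1, .ofNat 1, .ofNat 1, .ofNat 1,
    .ofNat 1, .ofNat 1, .ofNat 1, .ofNat 1, .ofNat 1, .ofNat 1, .ofNat 1, .ofNat 1, .ofNat 1, .ofNat 1,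
    .ofNat 1, .ofNat 1, .ofNat 1, .ofNat 1, .ofNat 1, .ofNat 1, .ofNat 1, .ofNat 1, .ofNat 1, .ofNat 1,
    .ofNat 1, .ofNat 1, .ofNat 1, .ofNat 1, .ofNat 1, .ofNat 1, .ofNat 1, .ofNat 1, .ofNat 1, .ofNat 1,
    .ofNat 1, .ofNat 1, .ofNat 1, .ofNat 1, .ofNat 1, .ofNat 1, .ofNat 1, .ofNat 1, .ofNat 1, .ofNat 1,
    .ofNat 1, .ofNat 1, .ofNat 1]

/-- a row -/
def r1 : List ℤ := [.ofNat 782, .ofNat 14, .ofNat 78, .ofNat 78, .negSucc 0, .ofNat 26, .ofNat 53, .negSucc 0,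
    .negSucc 1, .ofNat 6, .ofNat 14, .ofNat 6, .ofNat 7, .negSucc 2, .negSucc 0, .ofNat 5, .ofNat 2, .ofNat 6,
    .ofNat 5, .ofNat 2, .negSucc 0, .negSucc 2, .negSucc 2, .ofNat 5, .ofNat 14, .ofNat 15, .ofNat 15, .ofNat 5,
    .ofNat 2, .ofNat 2, .ofNat 2, .ofNat 2, .negSucc 0, .ofNat 8, .negSucc 0, .negSucc 0, .negSucc 0, .ofNat 3,
    .ofNat 3, .ofNat 1, .ofNat 1, .ofNat 0, .negSucc 1, .ofNat 0, .ofNat 2, .negSucc 0, .negSucc 0, .negSucc 0,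
    .ofNat 1, .ofNat 1, .ofNat 3, .ofNat 5, .ofNat 5, .ofNat 3, .negSucc 2, .ofNat 2, .ofNat 1, .ofNat 1,
    .ofNat 4, .ofNat 1, .ofNat 0, .ofNat 0, .ofNat 0, .ofNat 0, .negSucc 0, .ofNat 0, .ofNat 3, .ofNat 3,
    .negSucc 0, .negSucc 0, .ofNat 1, .ofNat 1, .negSucc 0, .ofNat 1, .ofNat 1, .ofNat 0, .negSucc 0,
    .negSucc 0, .negSucc 0, .ofNat 0, .negSucc 0, .negSucc 0, .ofNat 0, .ofNat 0, .negSucc 0, .ofNat 0,
    .ofNat 0, .negSucc 0, .negSucc 0, .ofNat 1, .negSucc 1, .ofNat 6]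

/-- a row -/
def r2 : List ℤ := [.ofNat 3588, .ofNat 4, .ofNat 196, .negSucc 571, .negSucc 2, .ofNat 51, .negSucc 56,
    .ofNat 78, .ofNat 4, .ofNat 4, .ofNat 20, .negSucc 27, .ofNat 13, .negSucc 4, .ofNat 1, .ofNat 7, .ofNat 1,
    .ofNat 7, .negSucc 4, .negSucc 4, .negSucc 1, .ofNat 7, .negSucc 4, .ofNat 7, .negSucc 10, .negSucc 1,
    .negSucc 49, .ofNat 4, .ofNat 4, .ofNat 0, .ofNat 0, .ofNat 3, .ofNat 6, .negSucc 2, .negSucc 2, .negSucc 2,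
    .negSucc 0, .ofNat 1, .ofNat 3, .ofNat 2, .ofNat 1, .ofNat 1, .ofNat 1, .negSucc 0, .negSucc 0, .ofNat 2,
    .ofNat 2, .negSucc 0, .ofNat 1, .negSucc 4, .negSucc 1, .negSucc 0, .negSucc 6, .negSucc 9, .negSucc 0,
    .ofNat 0, .ofNat 0, .ofNat 2, .negSucc 1, .ofNat 1, .ofNat 0, .ofNat 1, .ofNat 1, .ofNat 1, .negSucc 1,
    .ofNat 1, .negSucc 1, .negSucc 1, .ofNat 1, .ofNat 1, .negSucc 0, .negSucc 2, .ofNat 1, .negSucc 1,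
    .ofNat 0, .ofNat 0, .ofNat 0, .ofNat 0, .ofNat 1, .ofNat 0, .ofNat 0, .ofNat 0, .negSucc 1, .ofNat 0,
    .negSucc 0, .negSucc 0, .negSucc 0, .negSucc 0, .ofNat 0, .negSucc 0, .ofNat 0, .ofNat 13]

/-- a row -/
def r3 : List ℤ := [.ofNat 5083, .negSucc 36, .ofNat 155, .ofNat 923, .ofNat 7, .ofNat 34, .negSucc 19,
    .ofNat 169, .negSucc 4, .negSucc 4, .ofNat 11, .ofNat 27, .ofNat 8, .ofNat 5, .negSucc 0, .ofNat 5,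
    .negSucc 3, .ofNat 2, .ofNat 8, .ofNat 2, .negSucc 6, .ofNat 20, .ofNat 32, .negSucc 3, .negSucc 3,
    .negSucc 6, .ofNat 41, .ofNat 1, .ofNat 3, .negSucc 0, .negSucc 0, .ofNat 1, .ofNat 7, .negSucc 1,
    .negSucc 1, .ofNat 7, .negSucc 1, .ofNat 0, .negSucc 1, .ofNat 1, .ofNat 1, .negSucc 1, .ofNat 4, .ofNat 0,
    .ofNat 2, .ofNat 5, .ofNat 5, .negSucc 0, .negSucc 1, .ofNat 4, .ofNat 1, .negSucc 3, .ofNat 2, .ofNat 9,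
    .ofNat 0, .ofNat 0, .ofNat 1, .negSucc 0, .negSucc 0, .negSucc 0, .negSucc 0, .ofNat 0, .negSucc 0,
    .ofNat 2, .negSucc 0, .ofNat 2, .negSucc 0, .negSucc 0, .ofNat 2, .negSucc 0, .ofNat 0, .ofNat 2, .ofNat 1,
    .ofNat 1, .negSucc 0, .ofNat 0, .negSucc 0, .negSucc 0, .ofNat 0, .ofNat 0, .ofNat 1, .negSucc 0, .ofNat 3,
    .ofNat 1, .ofNat 1, .ofNat 1, .ofNat 0, .negSucc 0, .ofNat 0, .negSucc 0, .negSucc 0, .negSucc 3]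

/-- a row -/
def r4 : List ℤ := [.ofNat 25806, .negSucc 49, .ofNat 462, .negSucc 2353, .ofNat 21, .ofNat 75, .ofNat 291,
    .ofNat 183, .negSucc 1, .negSucc 9, .ofNat 30, .negSucc 41, .ofNat 6, .negSucc 4, .ofNat 1, .ofNat 7,
    .ofNat 1, .ofNat 3, .negSucc 4, .negSucc 4, .ofNat 7, .ofNat 3, .negSucc 4, .negSucc 28, .ofNat 25,
    .ofNat 39, .negSucc 40, .ofNat 4, .ofNat 2, .negSucc 1, .negSucc 1, .ofNat 0, .ofNat 3, .ofNat 12, .ofNat 3,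
    .negSucc 5, .ofNat 0, .ofNat 2, .negSucc 3, .ofNat 0, .ofNat 1, .negSucc 0, .ofNat 1, .negSucc 2, .ofNat 3,
    .ofNat 3, .ofNat 3, .ofNat 3, .negSucc 4, .negSucc 4, .negSucc 0, .ofNat 3, .ofNat 3, .negSucc 8, .ofNat 3,
    .ofNat 1, .ofNat 0, .negSucc 1, .ofNat 3, .ofNat 0, .ofNat 0, .ofNat 0, .negSucc 1, .ofNat 0, .ofNat 1,
    .negSucc 1, .ofNat 3, .ofNat 1, .ofNat 1, .negSucc 1, .ofNat 0, .negSucc 1, .ofNat 1, .ofNat 0, .ofNat 0,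
    .ofNat 0, .ofNat 1, .ofNat 1, .negSucc 0, .negSucc 0, .ofNat 0, .ofNat 0, .negSucc 0, .negSucc 0, .ofNat 0,
    .negSucc 0, .ofNat 0, .ofNat 0, .ofNat 1, .ofNat 1, .ofNat 1, .negSucc 22]

/-- a row -/
def r5 : List ℤ := [.ofNat 30888, .ofNat 168, .ofNat 616, .ofNat 3432, .ofNat 27, .ofNat 108, .ofNat 270,
    .ofNat 351, .ofNat 8, .ofNat 24, .ofNat 24, .ofNat 56, .ofNat 13, .ofNat 3, .ofNat 3, .ofNat 3, .ofNat 6,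
    .ofNat 4, .ofNat 6, .ofNat 12, .ofNat 15, .ofNat 22, .ofNat 30, .ofNat 30, .ofNat 30, .ofNat 31, .ofNat 111,
    .ofNat 4, .ofNat 0, .ofNat 4, .ofNat 4, .ofNat 0, .ofNat 9, .ofNat 9, .ofNat 0, .ofNat 0, .ofNat 3,
    .ofNat 1, .ofNat 7, .ofNat 0, .negSucc 0, .ofNat 0, .ofNat 2, .ofNat 2, .ofNat 0, .ofNat 3, .ofNat 3,
    .ofNat 3, .ofNat 2, .ofNat 2, .ofNat 3, .ofNat 6, .ofNat 6, .ofNat 11, .ofNat 2, .ofNat 0, .ofNat 0,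
    .ofNat 2, .ofNat 1, .negSucc 1, .ofNat 0, .negSucc 0, .ofNat 0, .ofNat 1, .ofNat 3, .ofNat 3, .ofNat 1,
    .ofNat 3, .ofNat 0, .ofNat 0, .negSucc 0, .ofNat 1, .ofNat 1, .ofNat 0, .ofNat 0, .negSucc 0, .ofNat 1,
    .ofNat 1, .ofNat 0, .ofNat 0, .ofNat 0, .ofNat 0, .ofNat 1, .ofNat 1, .ofNat 0, .negSucc 0, .negSucc 0,
    .ofNat 0, .ofNat 0, .negSucc 0, .ofNat 1, .ofNat 30]

/-- a row -/
def r6 : List ℤ := [.ofNat 60996, .ofNat 68, .ofNat 1156, .ofNat 1924, .ofNat 3, .ofNat 165, .negSucc 239,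
    .negSucc 77, .ofNat 4, .ofNat 4, .ofNat 52, .ofNat 36, .ofNat 21, .ofNat 7, .negSucc 0, .ofNat 11,
    .negSucc 0, .ofNat 13, .negSucc 3, .ofNat 5, .ofNat 2, .negSucc 31, .negSucc 19, .negSucc 15, .negSucc 24,
    .negSucc 13, .ofNat 34, .ofNat 5, .ofNat 4, .ofNat 0, .ofNat 0, .ofNat 3, .negSucc 5, .negSucc 5, .ofNat 3,
    .ofNat 3, .ofNat 3, .ofNat 1, .negSucc 0, .ofNat 1, .ofNat 1, .ofNat 1, .negSucc 4, .ofNat 3, .ofNat 1,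
    .negSucc 1, .negSucc 1, .ofNat 1, .negSucc 1, .ofNat 4, .negSucc 1, .negSucc 7, .negSucc 1, .ofNat 6,
    .ofNat 0, .ofNat 0, .ofNat 1, .negSucc 0, .negSucc 2, .ofNat 0, .ofNat 0, .ofNat 0, .ofNat 1, .negSucc 1,
    .ofNat 2, .negSucc 1, .negSucc 1, .negSucc 1, .negSucc 0, .negSucc 0, .negSucc 0, .ofNat 1, .negSucc 0,
    .ofNat 1, .negSucc 0, .ofNat 0, .ofNat 0, .ofNat 0, .negSucc 1, .ofNat 0, .ofNat 0, .ofNat 1, .ofNat 1,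
    .negSucc 0, .ofNat 0, .ofNat 0, .ofNat 0, .ofNat 1, .ofNat 0, .negSucc 0, .ofNat 1, .ofNat 7]

/-- a row -/
def r7 : List ℤ := [.ofNat 106743, .ofNat 247, .ofNat 791, .ofNat 10647, .ofNat 39, .ofNat 12, .ofNat 309,
    .ofNat 1092, .ofNat 7, .ofNat 11, .ofNat 15, .ofNat 91, .negSucc 6, .ofNat 9, .ofNat 7, .ofNat 1,
    .negSucc 1, .ofNat 8, .ofNat 13, .ofNat 4, .ofNat 28, .negSucc 18, .ofNat 117, .ofNat 37, .ofNat 10,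
    .ofNat 8, .ofNat 0, .ofNat 0, .negSucc 0, .negSucc 0, .ofNat 3, .ofNat 0, .ofNat 3, .ofNat 3, .ofNat 3,
    .ofNat 12, .negSucc 2, .ofNat 1, .negSucc 2, .negSucc 0, .ofNat 1, .ofNat 2, .negSucc 1, .ofNat 4, .ofNat 0,
    .ofNat 12, .ofNat 0, .ofNat 3, .ofNat 1, .ofNat 1, .ofNat 2, .negSucc 2, .negSucc 2, .negSucc 1, .ofNat 1,
    .ofNat 0, .ofNat 0, .ofNat 0, .ofNat 2, .ofNat 2, .negSucc 0, .ofNat 0, .ofNat 0, .negSucc 0, .ofNat 1,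
    .ofNat 3, .negSucc 0, .negSucc 2, .ofNat 1, .ofNat 4, .ofNat 1, .ofNat 1, .ofNat 0, .negSucc 0, .negSucc 0,
    .ofNat 0, .ofNat 2, .ofNat 0, .negSucc 0, .ofNat 0, .ofNat 0, .ofNat 0, .negSucc 1, .ofNat 0, .ofNat 0,
    .ofNat 0, .ofNat 1, .ofNat 0, .ofNat 0, .ofNat 0, .negSucc 1, .ofNat 18]

/-- a row -/
def r8 : List ℤ := [.ofNat 111826, .negSucc 45, .ofNat 946, .negSucc 11725, .ofNat 46, .ofNat 46, .ofNat 289,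
    .ofNat 1261, .negSucc 13, .ofNat 6, .ofNat 10, .negSucc 105, .ofNat 1, .negSucc 7, .ofNat 2, .negSucc 3,
    .ofNat 2, .ofNat 10, .ofNat 17, .negSucc 9, .ofNat 5, .ofNat 1, .negSucc 142, .negSucc 30, .ofNat 14,
    .ofNat 1, .negSucc 70, .ofNat 1, .negSucc 1, .ofNat 2, .negSucc 1, .ofNat 1, .ofNat 10, .ofNat 1, .ofNat 1,
    .ofNat 19, .negSucc 0, .ofNat 1, .negSucc 0, .ofNat 0, .negSucc 1, .ofNat 0, .negSucc 1, .negSucc 3,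
    .negSucc 1, .ofNat 13, .ofNat 1, .ofNat 4, .ofNat 1, .ofNat 1, .ofNat 3, .ofNat 1, .ofNat 1, .negSucc 0,
    .negSucc 6, .ofNat 0, .ofNat 1, .negSucc 0, .ofNat 1, .ofNat 1, .ofNat 0, .ofNat 0, .ofNat 1, .ofNat 1,
    .ofNat 2, .negSucc 4, .negSucc 1, .negSucc 1, .negSucc 0, .negSucc 0, .ofNat 1, .negSucc 0, .ofNat 1,
    .ofNat 0, .ofNat 0, .ofNat 0, .negSucc 0, .ofNat 1, .ofNat 1, .ofNat 0, .ofNat 1, .negSucc 0, .ofNat 1,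
    .negSucc 0, .negSucc 0, .ofNat 1, .negSucc 0, .ofNat 1, .ofNat 0, .negSucc 0, .negSucc 0, .negSucc 25]

/-- a row -/
def r9 : List ℤ := [.ofNat 274482, .ofNat 306, .ofNat 2738, .negSucc 77, .negSucc 26, .ofNat 216, .ofNat 1107,
    .negSucc 350, .ofNat 2, .ofNat 26, .ofNat 66, .negSucc 5, .ofNat 7, .ofNat 3, .negSucc 2, .ofNat 3,
    .ofNat 6, .ofNat 20, .ofNat 27, .ofNat 0, .negSucc 14, .ofNat 11, .ofNat 3, .ofNat 3, .ofNat 66, .ofNat 65,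
    .negSucc 14, .ofNat 5, .negSucc 1, .ofNat 2, .ofNat 2, .ofNat 0, .negSucc 8, .ofNat 18, .ofNat 0, .ofNat 0,
    .ofNat 1, .ofNat 3, .negSucc 2, .negSucc 0, .negSucc 0, .ofNat 2, .ofNat 2, .ofNat 0, .ofNat 0, .negSucc 2,
    .negSucc 2, .negSucc 2, .negSucc 0, .negSucc 0, .ofNat 5, .ofNat 3, .ofNat 3, .negSucc 2, .ofNat 3,
    .ofNat 0, .ofNat 1, .negSucc 0, .ofNat 4, .ofNat 1, .ofNat 0, .ofNat 0, .ofNat 0, .ofNat 2, .negSucc 2,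
    .ofNat 0, .negSucc 0, .negSucc 2, .ofNat 0, .ofNat 0, .ofNat 1, .negSucc 0, .negSucc 0, .negSucc 0,
    .negSucc 0, .ofNat 0, .negSucc 0, .negSucc 0, .ofNat 1, .ofNat 0, .ofNat 0, .ofNat 1, .ofNat 0, .ofNat 0,
    .ofNat 1, .ofNat 0, .ofNat 0, .ofNat 0, .ofNat 0, .negSucc 0, .ofNat 2, .negSucc 5]

/-- a row -/
def r10 : List ℤ := [.ofNat 279565, .negSucc 242, .ofNat 2189, .ofNat 5005, .negSucc 19, .ofNat 250,
    .ofNat 1087, .negSucc 181, .negSucc 2, .negSucc 10, .ofNat 61, .ofNat 21, .ofNat 15, .ofNat 10, .ofNat 0,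
    .ofNat 6, .negSucc 11, .ofNat 2, .negSucc 8, .negSucc 5, .negSucc 5, .negSucc 24, .negSucc 16, .ofNat 15,
    .ofNat 60, .ofNat 74, .ofNat 154, .ofNat 6, .ofNat 1, .negSucc 2, .negSucc 2, .ofNat 1, .negSucc 1,
    .ofNat 16, .negSucc 1, .ofNat 7, .negSucc 2, .negSucc 0, .ofNat 5, .ofNat 0, .ofNat 0, .negSucc 1, .ofNat 0,
    .ofNat 0, .negSucc 1, .negSucc 1, .negSucc 1, .negSucc 1, .ofNat 3, .ofNat 3, .negSucc 1, .ofNat 7,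
    .ofNat 7, .ofNat 6, .ofNat 3, .ofNat 0, .negSucc 1, .ofNat 0, .ofNat 3, .ofNat 0, .negSucc 0, .ofNat 0,
    .ofNat 1, .negSucc 3, .ofNat 0, .negSucc 1, .ofNat 2, .ofNat 4, .ofNat 0, .ofNat 3, .negSucc 0, .ofNat 1,
    .ofNat 0, .ofNat 0, .ofNat 0, .ofNat 0, .ofNat 0, .ofNat 0, .ofNat 1, .ofNat 0, .ofNat 1, .ofNat 0,
    .negSucc 0, .negSucc 0, .ofNat 0, .ofNat 1, .ofNat 0, .ofNat 1, .ofNat 0, .ofNat 0, .ofNat 1, .ofNat 28]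

/-- a row -/
def r11 : List ℤ := [.ofNat 752675, .ofNat 35, .ofNat 1155, .negSucc 48124, .ofNat 50, .negSucc 84,
    .negSucc 381, .ofNat 3290, .ofNat 19, .negSucc 24, .ofNat 11, .negSucc 104, .ofNat 0, .ofNat 16, .negSucc 9,
    .negSucc 3, .ofNat 5, .ofNat 3, .ofNat 26, .ofNat 11, .ofNat 2, .negSucc 5, .negSucc 253, .ofNat 50,
    .ofNat 5, .ofNat 30, .ofNat 70, .ofNat 0, .ofNat 3, .negSucc 0, .ofNat 3, .negSucc 0, .negSucc 3,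
    .negSucc 3, .ofNat 5, .ofNat 23, .ofNat 0, .ofNat 0, .ofNat 0, .ofNat 0, .negSucc 1, .negSucc 0, .ofNat 1,
    .negSucc 2, .negSucc 0, .ofNat 14, .ofNat 2, .negSucc 3, .negSucc 1, .negSucc 1, .negSucc 3, .ofNat 2,
    .ofNat 2, .ofNat 0, .negSucc 5, .ofNat 1, .ofNat 0, .ofNat 0, .ofNat 0, .ofNat 0, .negSucc 0, .ofNat 0,
    .ofNat 1, .ofNat 0, .ofNat 2, .negSucc 1, .ofNat 0, .negSucc 1, .negSucc 0, .negSucc 0, .ofNat 0, .ofNat 0,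
    .ofNat 0, .ofNat 0, .ofNat 0, .ofNat 0, .ofNat 2, .ofNat 0, .ofNat 0, .ofNat 1, .negSucc 0, .ofNat 0,
    .ofNat 0, .ofNat 0, .ofNat 0, .ofNat 0, .ofNat 0, .negSucc 0, .ofNat 1, .ofNat 0, .ofNat 0, .negSucc 10]

/-- a row -/
def r12 : List ℤ := [.ofNat 789360, .negSucc 143, .ofNat 5104, .negSucc 34319, .negSucc 38, .ofNat 474,
    .negSucc 875, .ofNat 1014, .negSucc 15, .ofNat 16, .ofNat 80, .negSucc 175, .ofNat 35, .negSucc 2,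
    .negSucc 2, .ofNat 9, .negSucc 5, .ofNat 10, .ofNat 0, .negSucc 5, .ofNat 6, .ofNat 28, .ofNat 24,
    .ofNat 36, .negSucc 53, .negSucc 25, .negSucc 425, .ofNat 5, .ofNat 0, .ofNat 0, .ofNat 0, .ofNat 0,
    .ofNat 6, .negSucc 2, .ofNat 6, .negSucc 11, .ofNat 1, .negSucc 0, .ofNat 5, .ofNat 0, .negSucc 0,
    .negSucc 1, .ofNat 2, .negSucc 1, .ofNat 2, .ofNat 2, .ofNat 2, .negSucc 0, .ofNat 2, .negSucc 3,
    .negSucc 1, .negSucc 3, .negSucc 9, .negSucc 25, .ofNat 4, .ofNat 0, .ofNat 1, .ofNat 1, .negSucc 0,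
    .negSucc 0, .ofNat 0, .negSucc 0, .ofNat 0, .ofNat 1, .ofNat 0, .ofNat 3, .negSucc 1, .ofNat 0, .ofNat 0,
    .ofNat 0, .ofNat 1, .negSucc 0, .negSucc 0, .ofNat 0, .ofNat 0, .ofNat 0, .ofNat 0, .ofNat 0, .ofNat 0,
    .ofNat 0, .ofNat 0, .negSucc 0, .negSucc 0, .negSucc 0, .ofNat 1, .ofNat 0, .ofNat 1, .ofNat 2, .ofNat 0,
    .ofNat 1, .negSucc 0, .ofNat 42]

/-- a row -/
def r13 : List ℤ := [.ofNat 812889, .ofNat 345, .ofNat 4697, .ofNat 44121, .negSucc 26, .ofNat 297,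
    .negSucc 674, .ofNat 2079, .negSucc 6, .ofNat 25, .ofNat 57, .ofNat 217, .ofNat 14, .ofNat 3, .negSucc 2,
    .ofNat 3, .ofNat 9, .ofNat 17, .negSucc 14, .ofNat 9, .ofNat 15, .ofNat 53, .ofNat 57, .negSucc 50,
    .negSucc 14, .negSucc 0, .ofNat 399, .ofNat 0, .ofNat 1, .ofNat 1, .ofNat 1, .ofNat 0, .ofNat 18,
    .negSucc 8, .ofNat 0, .ofNat 0, .ofNat 0, .ofNat 2, .negSucc 3, .ofNat 0, .negSucc 0, .ofNat 1, .ofNat 5,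
    .ofNat 1, .negSucc 2, .ofNat 3, .ofNat 3, .negSucc 2, .negSucc 0, .ofNat 5, .negSucc 4, .negSucc 2,
    .ofNat 3, .ofNat 19, .ofNat 1, .negSucc 0, .ofNat 0, .ofNat 0, .negSucc 0, .ofNat 2, .ofNat 1, .ofNat 0,
    .ofNat 0, .negSucc 0, .ofNat 0, .negSucc 2, .ofNat 2, .ofNat 0, .ofNat 0, .ofNat 0, .ofNat 0, .ofNat 2,
    .ofNat 0, .ofNat 0, .ofNat 0, .ofNat 0, .ofNat 1, .ofNat 1, .ofNat 1, .negSucc 0, .ofNat 0, .ofNat 0,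
    .negSucc 0, .negSucc 0, .ofNat 0, .ofNat 0, .ofNat 1, .ofNat 0, .negSucc 0, .ofNat 0, .negSucc 0,
    .negSucc 14]

/-- a row -/
def r14 : List ℤ := [.ofNat 1677390, .negSucc 177, .ofNat 4334, .negSucc 84369, .negSucc 38, .ofNat 285,
    .negSucc 38, .ofNat 4173, .ofNat 14, .ofNat 34, .negSucc 9, .negSucc 173, .ofNat 15, .ofNat 5, .ofNat 5,
    .negSucc 6, .negSucc 0, .ofNat 5, .ofNat 29, .negSucc 18, .ofNat 5, .ofNat 41, .negSucc 210, .negSucc 6,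
    .negSucc 24, .negSucc 30, .negSucc 390, .ofNat 1, .ofNat 2, .ofNat 2, .negSucc 1, .negSucc 2, .ofNat 15,
    .ofNat 6, .negSucc 2, .ofNat 15, .negSucc 2, .negSucc 0, .ofNat 5, .ofNat 0, .negSucc 0, .ofNat 1,
    .negSucc 0, .ofNat 3, .ofNat 5, .ofNat 5, .negSucc 6, .negSucc 0, .negSucc 0, .ofNat 5, .negSucc 4,
    .negSucc 6, .negSucc 0, .negSucc 8, .negSucc 2, .ofNat 0, .ofNat 1, .ofNat 1, .ofNat 3, .ofNat 0, .ofNat 0,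
    .ofNat 0, .negSucc 0, .ofNat 2, .negSucc 0, .ofNat 2, .negSucc 0, .negSucc 0, .negSucc 0, .negSucc 0,
    .negSucc 0, .ofNat 1, .ofNat 1, .ofNat 0, .ofNat 0, .ofNat 0, .negSucc 0, .ofNat 1, .negSucc 0, .ofNat 0,
    .ofNat 0, .ofNat 1, .negSucc 0, .negSucc 0, .ofNat 0, .ofNat 1, .ofNat 0, .negSucc 0, .ofNat 0, .ofNat 1,
    .ofNat 1, .ofNat 23]

/-- a row -/
def r15 : List ℤ := [.ofNat 1951872, .ofNat 128, .ofNat 8832, .negSucc 11647, .ofNat 42, .ofNat 636,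
    .negSucc 1847, .negSucc 1091, .ofNat 0, .ofNat 0, .ofNat 128, .ofNat 0, .ofNat 22, .ofNat 16, .ofNat 2,
    .ofNat 8, .ofNat 8, .ofNat 12, .negSucc 15, .negSucc 3, .negSucc 3, .negSucc 23, .ofNat 16, .ofNat 8,
    .negSucc 63, .ofNat 12, .negSucc 307, .ofNat 6, .ofNat 0, .ofNat 0, .ofNat 0, .ofNat 0, .negSucc 11,
    .negSucc 11, .negSucc 2, .ofNat 15, .negSucc 1, .ofNat 2, .ofNat 2, .negSucc 0, .ofNat 0, .ofNat 0,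
    .ofNat 0, .ofNat 0, .negSucc 3, .negSucc 3, .negSucc 3, .ofNat 2, .ofNat 0, .ofNat 0, .ofNat 0, .ofNat 8,
    .negSucc 15, .ofNat 0, .ofNat 0, .ofNat 0, .negSucc 1, .ofNat 0, .negSucc 1, .ofNat 1, .ofNat 0, .ofNat 0,
    .negSucc 1, .ofNat 0, .ofNat 2, .negSucc 1, .ofNat 0, .negSucc 1, .negSucc 0, .negSucc 0, .ofNat 0,
    .ofNat 0, .ofNat 0, .negSucc 0, .ofNat 1, .ofNat 0, .ofNat 0, .ofNat 0, .ofNat 0, .ofNat 0, .ofNat 0,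
    .ofNat 0, .ofNat 2, .ofNat 2, .ofNat 1, .ofNat 1, .ofNat 0, .negSucc 0, .ofNat 0, .ofNat 0, .ofNat 0,
    .ofNat 16]

/-- a row -/
def r16 : List ℤ := [.ofNat 2236520, .negSucc 919, .ofNat 4136, .ofNat 85800, .ofNat 29, .ofNat 272,
    .ofNat 1406, .ofNat 3107, .ofNat 8, .negSucc 39, .ofNat 24, .ofNat 120, .ofNat 20, .ofNat 21, .ofNat 1,
    .ofNat 1, .negSucc 1, .negSucc 3, .negSucc 1, .negSucc 7, .negSucc 28, .ofNat 86, .ofNat 102, .ofNat 46,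
    .ofNat 10, .negSucc 12, .ofNat 435, .negSucc 0, .ofNat 0, .negSucc 3, .negSucc 3, .ofNat 2, .ofNat 11,
    .ofNat 2, .ofNat 11, .ofNat 2, .ofNat 0, .negSucc 3, .ofNat 0, .ofNat 0, .negSucc 0, .ofNat 2, .ofNat 2,
    .ofNat 0, .ofNat 0, .ofNat 3, .ofNat 3, .ofNat 3, .ofNat 2, .ofNat 2, .negSucc 0, .ofNat 6, .ofNat 6,
    .ofNat 15, .negSucc 5, .ofNat 0, .negSucc 0, .ofNat 1, .ofNat 2, .ofNat 2, .ofNat 0, .ofNat 0, .ofNat 0,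
    .ofNat 2, .ofNat 1, .ofNat 0, .negSucc 0, .negSucc 2, .ofNat 1, .negSucc 1, .ofNat 0, .ofNat 0, .negSucc 0,
    .ofNat 0, .ofNat 0, .ofNat 0, .negSucc 0, .negSucc 0, .ofNat 0, .ofNat 0, .negSucc 0, .ofNat 1, .ofNat 2,
    .ofNat 0, .ofNat 0, .negSucc 0, .ofNat 0, .ofNat 0, .ofNat 0, .ofNat 1, .ofNat 0, .ofNat 66]

/-- a row -/
def r17 : List ℤ := [.ofNat 2322540, .ofNat 108, .ofNat 7084, .negSucc 74579, .negSucc 53, .ofNat 270,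
    .ofNat 2133, .ofNat 1728, .ofNat 12, .negSucc 35, .ofNat 60, .negSucc 195, .ofNat 15, .negSucc 5, .ofNat 6,
    .ofNat 6, .ofNat 0, .ofNat 10, .negSucc 26, .ofNat 6, .ofNat 0, .ofNat 37, .ofNat 21, .negSucc 74,
    .ofNat 60, .ofNat 64, .negSucc 383, .negSucc 3, .ofNat 4, .ofNat 0, .ofNat 0, .ofNat 0, .ofNat 9, .ofNat 9,
    .ofNat 0, .ofNat 0, .ofNat 3, .negSucc 0, .negSucc 4, .ofNat 0, .ofNat 0, .ofNat 0, .ofNat 0, .ofNat 2,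
    .negSucc 5, .ofNat 0, .ofNat 0, .ofNat 0, .negSucc 2, .negSucc 2, .ofNat 0, .negSucc 2, .negSucc 2,
    .negSucc 15, .negSucc 6, .negSucc 0, .ofNat 0, .negSucc 1, .ofNat 3, .ofNat 0, .ofNat 0, .ofNat 0, .ofNat 0,
    .ofNat 1, .ofNat 3, .ofNat 3, .ofNat 1, .ofNat 3, .ofNat 0, .ofNat 0, .negSucc 0, .negSucc 0, .negSucc 0,
    .ofNat 0, .ofNat 0, .ofNat 0, .ofNat 0, .ofNat 0, .ofNat 1, .ofNat 1, .ofNat 0, .ofNat 0, .negSucc 0,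
    .ofNat 1, .ofNat 0, .ofNat 1, .negSucc 0, .ofNat 0, .negSucc 0, .ofNat 1, .negSucc 0, .negSucc 59]

/-- a row -/
def r18 : List ℤ := [.ofNat 3913910, .negSucc 585, .ofNat 10934, .ofNat 70070, .negSucc 9, .ofNat 719,
    .negSucc 819, .negSucc 90, .ofNat 6, .negSucc 33, .ofNat 102, .ofNat 126, .ofNat 35, .negSucc 21, .ofNat 2,
    .ofNat 14, .negSucc 6, .negSucc 0, .ofNat 44, .negSucc 0, .ofNat 5, .negSucc 27, .negSucc 75, .negSucc 3,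
    .negSucc 30, .negSucc 90, .ofNat 581, .ofNat 0, .ofNat 2, .negSucc 1, .negSucc 1, .negSucc 0, .negSucc 0,
    .negSucc 9, .negSucc 0, .negSucc 9, .negSucc 0, .negSucc 0, .negSucc 4, .ofNat 0, .ofNat 0, .negSucc 0,
    .negSucc 2, .negSucc 2, .ofNat 3, .negSucc 2, .negSucc 2, .ofNat 0, .ofNat 0, .ofNat 0, .ofNat 5,
    .negSucc 11, .ofNat 12, .ofNat 21, .ofNat 0, .ofNat 0, .ofNat 0, .ofNat 0, .negSucc 0, .negSucc 0, .ofNat 0,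
    .ofNat 0, .negSucc 0, .ofNat 2, .negSucc 0, .ofNat 2, .negSucc 0, .negSucc 0, .negSucc 0, .ofNat 2,
    .ofNat 1, .ofNat 1, .ofNat 0, .ofNat 0, .ofNat 0, .ofNat 0, .ofNat 1, .ofNat 1, .ofNat 2, .ofNat 0,
    .negSucc 0, .ofNat 0, .negSucc 0, .ofNat 1, .negSucc 0, .ofNat 0, .ofNat 0, .ofNat 0, .ofNat 0, .ofNat 0,
    .ofNat 1, .negSucc 30]

/-- a row -/
def r19 : List ℤ := [.ofNat 5533110, .ofNat 1206, .ofNat 14454, .ofNat 115830, .ofNat 0, .ofNat 729,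
    .ofNat 2187, .ofNat 729, .ofNat 6, .ofNat 46, .ofNat 54, .ofNat 174, .ofNat 35, .ofNat 0, .ofNat 0,
    .ofNat 0, .ofNat 9, .ofNat 9, .negSucc 8, .ofNat 9, .ofNat 9, .negSucc 44, .negSucc 80, .ofNat 27,
    .ofNat 81, .ofNat 9, .ofNat 729, .negSucc 4, .ofNat 2, .ofNat 2, .ofNat 2, .ofNat 0, .ofNat 0, .ofNat 0,
    .ofNat 0, .ofNat 0, .ofNat 1, .negSucc 0, .ofNat 5, .ofNat 0, .ofNat 0, .ofNat 1, .negSucc 2, .negSucc 2,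
    .negSucc 2, .negSucc 2, .negSucc 2, .ofNat 0, .negSucc 2, .ofNat 3, .ofNat 1, .ofNat 3, .ofNat 9, .ofNat 9,
    .ofNat 3, .negSucc 1, .negSucc 0, .ofNat 1, .negSucc 0, .negSucc 0, .ofNat 0, .ofNat 1, .ofNat 0, .ofNat 0,
    .ofNat 0, .ofNat 0, .ofNat 0, .ofNat 0, .ofNat 0, .ofNat 0, .ofNat 1, .negSucc 0, .ofNat 1, .ofNat 0,
    .ofNat 0, .ofNat 0, .negSucc 0, .negSucc 0, .negSucc 0, .ofNat 0, .ofNat 0, .negSucc 0, .negSucc 0,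
    .negSucc 0, .ofNat 1, .ofNat 0, .ofNat 0, .ofNat 0, .ofNat 1, .ofNat 1, .negSucc 0, .ofNat 81]

/-- a row -/
def r20 : List ℤ := [.ofNat 6709560, .negSucc 711, .ofNat 6776, .negSucc 108679, .ofNat 6, .ofNat 330,
    .ofNat 4218, .ofNat 897, .ofNat 24, .negSucc 23, .ofNat 72, .negSucc 55, .negSucc 14, .ofNat 22, .ofNat 2,
    .ofNat 2, .ofNat 8, .negSucc 9, .negSucc 9, .ofNat 2, .ofNat 17, .ofNat 26, .ofNat 22, .negSucc 69,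
    .ofNat 20, .ofNat 161, .negSucc 238, .ofNat 4, .ofNat 0, .negSucc 3, .negSucc 3, .negSucc 2, .ofNat 6,
    .ofNat 15, .negSucc 2, .ofNat 6, .ofNat 3, .ofNat 1, .negSucc 4, .ofNat 0, .ofNat 0, .ofNat 0, .ofNat 0,
    .negSucc 1, .ofNat 6, .negSucc 2, .negSucc 2, .ofNat 0, .ofNat 0, .ofNat 6, .negSucc 2, .negSucc 5,
    .ofNat 0, .negSucc 10, .negSucc 1, .ofNat 0, .ofNat 0, .ofNat 2, .negSucc 2, .ofNat 0, .ofNat 0, .ofNat 0,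
    .ofNat 1, .negSucc 0, .ofNat 2, .ofNat 1, .ofNat 2, .negSucc 1, .negSucc 0, .ofNat 2, .ofNat 1, .negSucc 0,
    .ofNat 1, .ofNat 0, .ofNat 0, .ofNat 0, .negSucc 0, .negSucc 0, .ofNat 0, .ofNat 0, .ofNat 0, .ofNat 0,
    .ofNat 1, .ofNat 1, .ofNat 0, .negSucc 0, .ofNat 1, .ofNat 0, .ofNat 0, .negSucc 0, .negSucc 0, .negSucc 67]

/-- a row -/
def r21 : List ℤ := [.ofNat 7468032, .ofNat 1024, .ofNat 11264, .ofNat 146432, .negSucc 59, .ofNat 696,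
    .ofNat 3072, .ofNat 1560, .ofNat 0, .ofNat 64, .ofNat 0, .ofNat 64, .ofNat 7, .negSucc 15, .ofNat 4,
    .negSucc 7, .ofNat 4, .negSucc 3, .ofNat 16, .ofNat 16, .negSucc 7, .ofNat 32, .negSucc 15, .ofNat 64,
    .ofNat 64, .ofNat 104, .ofNat 776, .ofNat 5, .ofNat 0, .ofNat 0, .ofNat 0, .negSucc 2, .ofNat 3, .ofNat 3,
    .ofNat 3, .negSucc 5, .negSucc 0, .negSucc 0, .ofNat 7, .ofNat 0, .ofNat 0, .negSucc 1, .ofNat 0,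
    .negSucc 1, .ofNat 0, .ofNat 0, .ofNat 0, .ofNat 0, .ofNat 0, .ofNat 0, .ofNat 4, .ofNat 0, .ofNat 0,
    .ofNat 4, .negSucc 7, .ofNat 0, .ofNat 1, .negSucc 0, .negSucc 4, .ofNat 1, .ofNat 0, .ofNat 0, .negSucc 0,
    .negSucc 0, .ofNat 1, .negSucc 0, .negSucc 0, .ofNat 5, .ofNat 1, .negSucc 1, .negSucc 0, .negSucc 0,
    .negSucc 0, .ofNat 0, .ofNat 0, .ofNat 1, .ofNat 0, .ofNat 0, .ofNat 0, .ofNat 0, .ofNat 0, .ofNat 1,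
    .negSucc 0, .ofNat 1, .negSucc 0, .ofNat 0, .ofNat 1, .ofNat 0, .ofNat 0, .negSucc 0, .negSucc 0, .ofNat 56]

/-- a row -/
def r22 : List ℤ := [.ofNat 8783424, .ofNat 576, .ofNat 11584, .ofNat 326976, .negSucc 53, .negSucc 215,
    .ofNat 432, .ofNat 11934, .ofNat 0, .negSucc 15, .ofNat 0, .ofNat 496, .negSucc 0, .ofNat 6, .ofNat 6,
    .negSucc 5, .negSucc 11, .ofNat 28, .ofNat 0, .ofNat 0, .ofNat 30, .negSucc 79, .ofNat 384, .ofNat 48,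
    .negSucc 23, .negSucc 25, .ofNat 6, .negSucc 0, .ofNat 0, .ofNat 0, .ofNat 0, .ofNat 0, .ofNat 9, .ofNat 9,
    .ofNat 0, .ofNat 0, .ofNat 1, .negSucc 0, .ofNat 1, .ofNat 1, .ofNat 0, .ofNat 2, .ofNat 0, .negSucc 1,
    .ofNat 0, .ofNat 18, .negSucc 5, .ofNat 0, .ofNat 0, .ofNat 0, .ofNat 2, .ofNat 0, .ofNat 0, .negSucc 13,
    .negSucc 7, .ofNat 0, .negSucc 0, .negSucc 0, .negSucc 0, .negSucc 0, .ofNat 0, .ofNat 0, .ofNat 0,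
    .ofNat 1, .negSucc 2, .negSucc 2, .ofNat 1, .negSucc 2, .ofNat 0, .ofNat 0, .negSucc 0, .ofNat 1,
    .negSucc 0, .ofNat 1, .ofNat 1, .ofNat 0, .ofNat 0, .ofNat 0, .ofNat 0, .ofNat 0, .ofNat 0, .negSucc 0,
    .negSucc 0, .ofNat 1, .ofNat 1, .negSucc 0, .ofNat 1, .ofNat 0, .ofNat 0, .negSucc 0, .ofNat 1, .negSucc 47]

/-- a row -/
def r23 : List ℤ := [.ofNat 10567557, .negSucc 122, .ofNat 16709, .negSucc 3002, .ofNat 54, .ofNat 783,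
    .ofNat 6534, .negSucc 2456, .negSucc 26, .negSucc 10, .ofNat 117, .ofNat 21, .ofNat 7, .negSucc 5,
    .negSucc 5, .ofNat 6, .negSucc 2, .negSucc 12, .negSucc 5, .negSucc 8, .negSucc 8, .negSucc 57, .negSucc 5,
    .ofNat 6, .ofNat 105, .ofNat 167, .negSucc 104, .ofNat 0, .negSucc 2, .ofNat 1, .ofNat 1, .ofNat 0,
    .negSucc 8, .ofNat 18, .ofNat 0, .ofNat 0, .negSucc 2, .negSucc 0, .negSucc 2, .ofNat 0, .ofNat 0, .ofNat 1,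
    .negSucc 2, .ofNat 3, .ofNat 3, .ofNat 3, .ofNat 3, .ofNat 0, .ofNat 0, .negSucc 5, .negSucc 4, .ofNat 6,
    .ofNat 0, .ofNat 3, .negSucc 5, .ofNat 0, .ofNat 0, .ofNat 0, .negSucc 1, .negSucc 1, .ofNat 1, .ofNat 0,
    .ofNat 0, .ofNat 2, .negSucc 2, .ofNat 0, .negSucc 0, .negSucc 2, .ofNat 0, .ofNat 0, .negSucc 0, .ofNat 1,
    .ofNat 0, .ofNat 0, .ofNat 0, .ofNat 0, .ofNat 1, .ofNat 1, .ofNat 0, .ofNat 0, .ofNat 0, .ofNat 0,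
    .ofNat 2, .ofNat 0, .ofNat 0, .ofNat 0, .ofNat 0, .ofNat 0, .ofNat 0, .ofNat 0, .negSucc 1, .negSucc 14]

/-- a row -/
def r24 : List ℤ := [.ofNat 10674300, .negSucc 899, .ofNat 5180, .ofNat 336700, .negSucc 14, .ofNat 255,
    .negSucc 1175, .ofNat 10920, .ofNat 28, .negSucc 19, .ofNat 44, .ofNat 140, .ofNat 0, .negSucc 16,
    .negSucc 2, .ofNat 3, .negSucc 2, .negSucc 12, .ofNat 36, .negSucc 8, .negSucc 23, .ofNat 104, .ofNat 388,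
    .negSucc 23, .negSucc 14, .negSucc 39, .ofNat 280, .ofNat 0, .ofNat 4, .ofNat 0, .ofNat 0, .negSucc 2,
    .ofNat 3, .ofNat 3, .negSucc 5, .ofNat 12, .ofNat 0, .ofNat 0, .ofNat 0, .negSucc 0, .ofNat 1, .ofNat 1,
    .ofNat 1, .negSucc 0, .negSucc 0, .ofNat 8, .ofNat 8, .negSucc 0, .negSucc 1, .ofNat 4, .ofNat 4, .ofNat 8,
    .negSucc 9, .ofNat 20, .negSucc 3, .ofNat 0, .ofNat 0, .ofNat 0, .ofNat 0, .ofNat 0, .ofNat 0, .ofNat 0,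
    .ofNat 1, .negSucc 0, .negSucc 2, .ofNat 1, .negSucc 0, .ofNat 1, .ofNat 0, .ofNat 0, .ofNat 0, .ofNat 0,
    .ofNat 0, .negSucc 0, .ofNat 1, .ofNat 0, .ofNat 0, .ofNat 0, .negSucc 1, .ofNat 0, .ofNat 0, .ofNat 0,
    .ofNat 0, .ofNat 0, .ofNat 0, .ofNat 0, .negSucc 0, .ofNat 2, .ofNat 0, .ofNat 0, .ofNat 0, .negSucc 70]

/-- a row -/
def r25 : List ℤ := [.ofNat 12077208, .ofNat 2712, .ofNat 9240, .ofNat 380952, .ofNat 27, .ofNat 189,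
    .ofNat 594, .ofNat 11934, .negSucc 7, .ofNat 40, .negSucc 39, .ofNat 168, .ofNat 8, .ofNat 9, .ofNat 3,
    .ofNat 9, .ofNat 9, .negSucc 2, .ofNat 30, .negSucc 2, .ofNat 78, .ofNat 114, .ofNat 414, .ofNat 18,
    .ofNat 9, .ofNat 78, .ofNat 414, .negSucc 3, .ofNat 0, .ofNat 0, .ofNat 0, .ofNat 0, .ofNat 0, .ofNat 0,
    .ofNat 0, .ofNat 27, .ofNat 2, .ofNat 0, .ofNat 2, .ofNat 0, .ofNat 1, .ofNat 1, .ofNat 1, .negSucc 2,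
    .ofNat 5, .ofNat 2, .ofNat 2, .negSucc 0, .ofNat 4, .negSucc 1, .negSucc 1, .ofNat 2, .negSucc 3, .ofNat 6,
    .ofNat 6, .ofNat 0, .ofNat 0, .negSucc 1, .negSucc 0, .negSucc 0, .ofNat 0, .ofNat 0, .ofNat 0, .ofNat 0,
    .ofNat 0, .ofNat 0, .ofNat 0, .ofNat 0, .ofNat 0, .ofNat 3, .ofNat 0, .negSucc 1, .negSucc 0, .ofNat 0,
    .ofNat 0, .ofNat 0, .ofNat 0, .ofNat 0, .ofNat 0, .ofNat 0, .ofNat 0, .ofNat 0, .ofNat 3, .negSucc 0,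
    .negSucc 0, .ofNat 1, .ofNat 0, .negSucc 0, .ofNat 0, .ofNat 1, .ofNat 1, .ofNat 9]

/-- a row -/
def r26 : List ℤ := [.ofNat 15096510, .negSucc 65, .ofNat 17534, .negSucc 416129, .ofNat 54, .ofNat 864,
    .negSucc 350, .ofNat 10179, .negSucc 17, .ofNat 6, .ofNat 30, .negSucc 313, .ofNat 35, .negSucc 5,
    .negSucc 5, .ofNat 6, .ofNat 0, .negSucc 15, .negSucc 2, .ofNat 0, .ofNat 3, .ofNat 65, .negSucc 194,
    .ofNat 33, .ofNat 24, .negSucc 60, .negSucc 1148, .negSucc 4, .ofNat 2, .ofNat 2, .ofNat 2, .ofNat 0,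
    .ofNat 18, .negSucc 8, .ofNat 0, .ofNat 0, .negSucc 0, .negSucc 0, .negSucc 4, .ofNat 0, .ofNat 0, .ofNat 0,
    .ofNat 0, .ofNat 4, .ofNat 0, .ofNat 3, .ofNat 3, .ofNat 0, .ofNat 3, .negSucc 2, .ofNat 3, .ofNat 9,
    .ofNat 3, .negSucc 28, .ofNat 1, .ofNat 0, .negSucc 0, .negSucc 0, .negSucc 0, .negSucc 0, .ofNat 0,
    .ofNat 0, .ofNat 0, .negSucc 0, .ofNat 0, .negSucc 2, .ofNat 2, .ofNat 0, .ofNat 0, .ofNat 0, .ofNat 1,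
    .ofNat 1, .ofNat 1, .ofNat 0, .ofNat 0, .ofNat 0, .negSucc 0, .negSucc 0, .negSucc 0, .ofNat 0, .ofNat 0,
    .ofNat 1, .negSucc 0, .ofNat 1, .negSucc 0, .ofNat 0, .ofNat 1, .ofNat 0, .ofNat 0, .negSucc 0, .ofNat 1,
    .negSucc 23]

/-- a row -/
def r27 : List ℤ := [.ofNat 17892160, .negSucc 191, .ofNat 13376, .negSucc 594879, .ofNat 16, .negSucc 199,
    .negSucc 415, .ofNat 19942, .ofNat 0, .ofNat 16, .ofNat 0, .negSucc 495, .negSucc 14, .negSucc 15, .ofNat 0,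
    .ofNat 0, .negSucc 11, .ofNat 20, .ofNat 24, .ofNat 0, .ofNat 6, .negSucc 15, .negSucc 663, .ofNat 0,
    .ofNat 0, .negSucc 33, .negSucc 33, .negSucc 0, .ofNat 0, .ofNat 0, .ofNat 0, .ofNat 1, .ofNat 7, .ofNat 7,
    .negSucc 1, .ofNat 16, .ofNat 3, .ofNat 1, .negSucc 4, .ofNat 0, .ofNat 0, .negSucc 1, .ofNat 0, .ofNat 2,
    .ofNat 0, .ofNat 18, .negSucc 5, .ofNat 0, .ofNat 0, .ofNat 0, .negSucc 1, .ofNat 0, .ofNat 0, .ofNat 14,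
    .ofNat 8, .ofNat 0, .negSucc 0, .ofNat 1, .negSucc 2, .ofNat 0, .ofNat 0, .ofNat 0, .negSucc 0, .negSucc 0,
    .negSucc 2, .negSucc 0, .negSucc 0, .ofNat 5, .ofNat 0, .ofNat 0, .ofNat 1, .negSucc 0, .negSucc 0,
    .ofNat 0, .ofNat 0, .ofNat 0, .ofNat 0, .ofNat 0, .ofNat 0, .ofNat 0, .ofNat 1, .ofNat 1, .ofNat 1,
    .ofNat 1, .ofNat 0, .negSucc 0, .negSucc 0, .ofNat 0, .ofNat 0, .ofNat 1, .negSucc 0, .ofNat 56]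

/-- a row -/
def r28 : List ℤ := [.ofNat 18812574, .ofNat 414, .ofNat 26334, .ofNat 279774, .ofNat 0, .ofNat 729,
    .negSucc 4373, .ofNat 729, .negSucc 17, .negSucc 25, .ofNat 126, .ofNat 294, .negSucc 0, .ofNat 0, .ofNat 0,
    .ofNat 0, .negSucc 8, .ofNat 9, .negSucc 17, .ofNat 9, .ofNat 9, .ofNat 90, .negSucc 161, .negSucc 53,
    .negSucc 80, .ofNat 9, .ofNat 729, .ofNat 4, .negSucc 5, .ofNat 2, .ofNat 2, .ofNat 0, .ofNat 0, .ofNat 0,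
    .ofNat 0, .ofNat 0, .negSucc 0, .negSucc 0, .negSucc 0, .ofNat 0, .ofNat 0, .ofNat 1, .ofNat 3, .ofNat 3,
    .negSucc 2, .negSucc 2, .negSucc 2, .ofNat 0, .ofNat 0, .ofNat 6, .ofNat 1, .negSucc 5, .ofNat 0, .ofNat 9,
    .ofNat 6, .ofNat 1, .ofNat 0, .negSucc 1, .negSucc 0, .negSucc 0, .ofNat 0, .ofNat 0, .ofNat 0, .ofNat 0,
    .ofNat 0, .ofNat 0, .ofNat 0, .ofNat 0, .ofNat 0, .ofNat 0, .negSucc 0, .negSucc 0, .ofNat 1, .ofNat 0,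
    .ofNat 0, .ofNat 0, .negSucc 0, .negSucc 0, .ofNat 0, .ofNat 1, .ofNat 0, .ofNat 0, .negSucc 0, .negSucc 0,
    .negSucc 0, .negSucc 0, .ofNat 0, .ofNat 0, .ofNat 1, .ofNat 1, .negSucc 0, .negSucc 80]

/-- a row -/
def r29 : List ℤ := [.ofNat 20322225, .ofNat 945, .ofNat 6545, .ofNat 548625, .ofNat 135, .negSucc 674,
    .ofNat 621, .ofNat 15120, .negSucc 30, .ofNat 5, .ofNat 57, .ofNat 245, .ofNat 0, .negSucc 14, .ofNat 3,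
    .negSucc 2, .ofNat 3, .negSucc 6, .ofNat 9, .negSucc 26, .ofNat 24, .negSucc 42, .ofNat 417, .negSucc 2,
    .ofNat 15, .ofNat 20, .negSucc 419, .ofNat 0, .ofNat 1, .negSucc 2, .ofNat 1, .ofNat 0, .negSucc 8,
    .negSucc 8, .ofNat 0, .ofNat 0, .ofNat 0, .ofNat 0, .ofNat 0, .ofNat 0, .negSucc 0, .negSucc 0, .negSucc 0,
    .ofNat 5, .negSucc 2, .ofNat 12, .ofNat 0, .negSucc 2, .negSucc 0, .ofNat 5, .ofNat 2, .negSucc 2, .ofNat 3,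
    .negSucc 9, .negSucc 6, .ofNat 1, .ofNat 0, .ofNat 0, .ofNat 0, .ofNat 0, .ofNat 1, .ofNat 0, .ofNat 0,
    .negSucc 0, .ofNat 3, .ofNat 3, .negSucc 0, .ofNat 3, .ofNat 0, .ofNat 0, .ofNat 0, .ofNat 0, .ofNat 0,
    .ofNat 0, .ofNat 0, .ofNat 0, .ofNat 0, .negSucc 1, .ofNat 1, .negSucc 0, .ofNat 0, .ofNat 0, .ofNat 0,
    .ofNat 0, .ofNat 0, .ofNat 0, .negSucc 0, .ofNat 0, .ofNat 1, .ofNat 0, .ofNat 0, .ofNat 39]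

/-- a row -/
def r30 : List ℤ := [.ofNat 21135114, .ofNat 522, .ofNat 11242, .negSucc 294293, .negSucc 53, .ofNat 999,
    .negSucc 2240, .ofNat 2457, .ofNat 42, .negSucc 9, .negSucc 29, .ofNat 70, .ofNat 14, .ofNat 6, .ofNat 6,
    .negSucc 5, .negSucc 2, .negSucc 16, .ofNat 27, .negSucc 8, .negSucc 14, .negSucc 16, .negSucc 20,
    .negSucc 32, .negSucc 50, .ofNat 37, .negSucc 1154, .ofNat 0, .negSucc 1, .negSucc 1, .ofNat 2, .ofNat 0,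
    .ofNat 9, .ofNat 9, .ofNat 0, .ofNat 0, .ofNat 2, .ofNat 2, .ofNat 6, .ofNat 0, .ofNat 0, .negSucc 0,
    .negSucc 2, .ofNat 1, .negSucc 8, .negSucc 2, .ofNat 9, .ofNat 0, .negSucc 2, .ofNat 3, .negSucc 0,
    .negSucc 8, .negSucc 2, .negSucc 4, .ofNat 7, .ofNat 0, .ofNat 0, .ofNat 0, .ofNat 2, .negSucc 0, .ofNat 0,
    .ofNat 0, .ofNat 0, .ofNat 1, .negSucc 2, .negSucc 2, .ofNat 1, .negSucc 2, .ofNat 0, .ofNat 0, .ofNat 0,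
    .ofNat 0, .ofNat 0, .ofNat 0, .ofNat 0, .ofNat 0, .ofNat 1, .negSucc 0, .ofNat 1, .ofNat 0, .ofNat 0,
    .ofNat 0, .ofNat 2, .ofNat 0, .negSucc 0, .ofNat 0, .ofNat 1, .ofNat 0, .ofNat 0, .ofNat 0, .ofNat 0,
    .ofNat 141]

/-- a row -/
def r31 : List ℤ := [.ofNat 21348600, .ofNat 760, .ofNat 32760, .negSucc 200199, .ofNat 24, .ofNat 1185,
    .negSucc 3809, .negSucc 2729, .ofNat 24, .ofNat 40, .ofNat 152, .negSucc 279, .ofNat 0, .negSucc 21,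
    .ofNat 4, .negSucc 1, .ofNat 7, .ofNat 9, .negSucc 13, .ofNat 1, .negSucc 25, .negSucc 17, .ofNat 194,
    .negSucc 1, .negSucc 64, .negSucc 89, .negSucc 489, .ofNat 0, .ofNat 0, .ofNat 0, .ofNat 0, .ofNat 0,
    .negSucc 11, .negSucc 2, .negSucc 2, .negSucc 2, .ofNat 0, .ofNat 0, .ofNat 0, .negSucc 1, .ofNat 0,
    .ofNat 1, .ofNat 3, .negSucc 0, .ofNat 5, .ofNat 2, .ofNat 2, .ofNat 2, .ofNat 0, .negSucc 5, .negSucc 1,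
    .negSucc 9, .ofNat 8, .negSucc 9, .negSucc 9, .ofNat 0, .ofNat 0, .ofNat 0, .ofNat 0, .ofNat 0, .ofNat 0,
    .ofNat 0, .ofNat 2, .negSucc 2, .negSucc 1, .negSucc 0, .ofNat 0, .ofNat 2, .ofNat 1, .ofNat 1, .ofNat 0,
    .ofNat 0, .ofNat 0, .ofNat 2, .ofNat 0, .ofNat 0, .ofNat 0, .ofNat 0, .ofNat 0, .ofNat 0, .ofNat 0,
    .ofNat 0, .ofNat 0, .ofNat 0, .ofNat 0, .ofNat 0, .negSucc 0, .negSucc 0, .ofNat 0, .ofNat 0, .ofNat 0,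
    .ofNat 95]

/-- a row -/
def r32 : List ℤ := [.ofNat 22644765, .negSucc 482, .ofNat 13629, .negSucc 624194, .ofNat 81, .negSucc 404,
    .ofNat 2754, .ofNat 16848, .ofNat 13, .negSucc 30, .ofNat 21, .negSucc 398, .ofNat 15, .negSucc 8,
    .negSucc 2, .ofNat 3, .ofNat 9, .ofNat 3, .negSucc 5, .ofNat 27, .ofNat 24, .negSucc 5, .negSucc 413,
    .negSucc 77, .negSucc 14, .ofNat 84, .negSucc 35, .negSucc 3, .negSucc 2, .negSucc 2, .ofNat 1, .ofNat 0,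
    .ofNat 0, .ofNat 0, .ofNat 0, .ofNat 0, .negSucc 2, .negSucc 0, .ofNat 5, .ofNat 0, .ofNat 1, .negSucc 0,
    .ofNat 1, .negSucc 2, .ofNat 3, .ofNat 12, .ofNat 0, .ofNat 3, .negSucc 1, .negSucc 1, .ofNat 2, .negSucc 5,
    .negSucc 5, .ofNat 6, .ofNat 6, .ofNat 0, .ofNat 0, .ofNat 2, .ofNat 3, .ofNat 0, .ofNat 1, .ofNat 0,
    .ofNat 0, .ofNat 0, .ofNat 0, .ofNat 0, .ofNat 0, .ofNat 0, .ofNat 0, .ofNat 0, .negSucc 0, .ofNat 1,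
    .negSucc 0, .ofNat 0, .ofNat 0, .ofNat 0, .ofNat 0, .negSucc 1, .ofNat 0, .ofNat 0, .ofNat 0, .ofNat 0,
    .negSucc 0, .negSucc 0, .ofNat 0, .ofNat 1, .ofNat 0, .ofNat 0, .ofNat 0, .negSucc 0, .ofNat 1, .negSucc 62]

/-- a row -/
def r33 : List ℤ := [.ofNat 26838240, .ofNat 2784, .ofNat 25696, .ofNat 205920, .ofNat 132, .negSucc 83,
    .ofNat 5208, .negSucc 2378, .ofNat 0, .ofNat 24, .ofNat 64, .ofNat 216, .negSucc 34, .ofNat 18, .ofNat 0,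
    .ofNat 6, .ofNat 0, .ofNat 28, .ofNat 48, .ofNat 12, .negSucc 2, .negSucc 7, .negSucc 143, .ofNat 24,
    .ofNat 24, .ofNat 1, .negSucc 278, .negSucc 4, .ofNat 0, .negSucc 3, .ofNat 4, .ofNat 0, .ofNat 6, .ofNat 6,
    .ofNat 6, .negSucc 2, .negSucc 0, .ofNat 1, .negSucc 4, .ofNat 0, .ofNat 0, .ofNat 0, .ofNat 0, .ofNat 0,
    .ofNat 4, .negSucc 10, .ofNat 1, .negSucc 1, .ofNat 0, .ofNat 0, .ofNat 3, .negSucc 7, .negSucc 7,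
    .negSucc 8, .ofNat 0, .ofNat 0, .negSucc 0, .ofNat 1, .ofNat 1, .ofNat 1, .ofNat 0, .ofNat 0, .ofNat 0,
    .negSucc 1, .ofNat 0, .ofNat 0, .negSucc 1, .ofNat 0, .ofNat 0, .negSucc 2, .negSucc 0, .ofNat 1, .ofNat 1,
    .ofNat 0, .ofNat 0, .ofNat 0, .negSucc 0, .ofNat 1, .ofNat 0, .ofNat 0, .ofNat 0, .negSucc 0, .ofNat 1,
    .ofNat 1, .negSucc 0, .ofNat 0, .ofNat 0, .ofNat 1, .ofNat 0, .ofNat 1, .ofNat 1, .ofNat 72]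

/-- a row -/
def r34 : List ℤ := [.ofNat 28464800, .ofNat 160, .ofNat 30240, .negSucc 363999, .ofNat 50, .ofNat 320,
    .ofNat 4640, .ofNat 455, .ofNat 0, .ofNat 40, .ofNat 0, .negSucc 279, .ofNat 0, .ofNat 14, .negSucc 1,
    .negSucc 13, .ofNat 4, .ofNat 36, .ofNat 16, .negSucc 7, .negSucc 16, .ofNat 0, .ofNat 176, .negSucc 31,
    .ofNat 40, .negSucc 44, .negSucc 804, .ofNat 0, .ofNat 0, .ofNat 4, .negSucc 3, .negSucc 0, .ofNat 5,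
    .ofNat 5, .ofNat 5, .negSucc 3, .ofNat 0, .ofNat 0, .ofNat 0, .ofNat 1, .ofNat 0, .negSucc 1, .ofNat 0,
    .ofNat 2, .ofNat 0, .negSucc 8, .ofNat 3, .ofNat 0, .ofNat 0, .ofNat 0, .ofNat 1, .ofNat 0, .ofNat 0,
    .ofNat 5, .ofNat 8, .ofNat 0, .ofNat 0, .ofNat 0, .ofNat 0, .ofNat 0, .ofNat 0, .ofNat 0, .negSucc 0,
    .negSucc 2, .ofNat 1, .negSucc 0, .negSucc 2, .negSucc 6, .ofNat 1, .ofNat 4, .ofNat 0, .ofNat 0, .ofNat 0,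
    .ofNat 1, .ofNat 1, .ofNat 0, .ofNat 1, .negSucc 0, .ofNat 0, .ofNat 0, .negSucc 0, .ofNat 0, .ofNat 0,
    .ofNat 0, .ofNat 0, .ofNat 0, .negSucc 0, .ofNat 0, .ofNat 0, .ofNat 0, .ofNat 0, .negSucc 111]

/-- a row -/
def r35 : List ℤ := [.ofNat 29354325, .ofNat 2645, .ofNat 32725, .ofNat 525525, .ofNat 33, .ofNat 60,
    .negSucc 2504, .ofNat 5460, .ofNat 37, .ofNat 45, .ofNat 37, .ofNat 525, .ofNat 0, .negSucc 2, .negSucc 6,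
    .negSucc 18, .ofNat 14, .ofNat 28, .negSucc 36, .negSucc 3, .ofNat 20, .ofNat 55, .negSucc 164, .negSucc 72,
    .negSucc 9, .ofNat 100, .ofNat 420, .ofNat 0, .ofNat 1, .negSucc 2, .negSucc 2, .ofNat 0, .negSucc 2,
    .negSucc 11, .negSucc 2, .negSucc 20, .ofNat 0, .ofNat 0, .ofNat 0, .ofNat 0, .ofNat 1, .ofNat 0,
    .negSucc 1, .ofNat 6, .ofNat 4, .ofNat 4, .ofNat 4, .ofNat 1, .ofNat 1, .negSucc 4, .ofNat 0, .ofNat 7,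
    .ofNat 1, .ofNat 0, .ofNat 3, .ofNat 0, .ofNat 0, .ofNat 0, .ofNat 0, .ofNat 0, .negSucc 0, .ofNat 0,
    .ofNat 0, .ofNat 4, .negSucc 0, .ofNat 0, .ofNat 1, .ofNat 3, .negSucc 0, .negSucc 0, .ofNat 0, .ofNat 0,
    .ofNat 0, .ofNat 0, .ofNat 0, .ofNat 0, .ofNat 0, .ofNat 0, .ofNat 1, .ofNat 0, .ofNat 0, .ofNat 0,
    .ofNat 0, .ofNat 0, .ofNat 0, .ofNat 0, .ofNat 0, .ofNat 1, .ofNat 0, .ofNat 0, .ofNat 0, .ofNat 6]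

/-- a row -/
def r36 : List ℤ := [.ofNat 35225190, .negSucc 665, .ofNat 24486, .negSucc 330329, .negSucc 8, .negSucc 8,
    .negSucc 5192, .negSucc 818, .negSucc 9, .ofNat 14, .ofNat 70, .negSucc 433, .negSucc 34, .negSucc 38,
    .ofNat 3, .negSucc 2, .ofNat 3, .ofNat 15, .negSucc 8, .negSucc 8, .negSucc 2, .negSucc 56, .ofNat 231,
    .ofNat 87, .negSucc 20, .ofNat 141, .ofNat 861, .ofNat 0, .ofNat 2, .ofNat 2, .ofNat 2, .ofNat 0, .ofNat 0,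
    .negSucc 8, .ofNat 0, .negSucc 8, .negSucc 0, .ofNat 1, .negSucc 4, .ofNat 0, .negSucc 0, .negSucc 0,
    .negSucc 0, .negSucc 4, .negSucc 4, .ofNat 1, .ofNat 1, .ofNat 1, .negSucc 0, .negSucc 0, .negSucc 6,
    .ofNat 7, .ofNat 7, .ofNat 1, .ofNat 7, .ofNat 0, .ofNat 0, .ofNat 0, .ofNat 1, .ofNat 1, .ofNat 0,
    .ofNat 0, .ofNat 0, .ofNat 3, .ofNat 0, .ofNat 3, .ofNat 0, .ofNat 0, .ofNat 0, .ofNat 3, .negSucc 0,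
    .ofNat 1, .ofNat 0, .ofNat 0, .ofNat 0, .ofNat 0, .negSucc 0, .negSucc 0, .negSucc 0, .ofNat 0, .ofNat 0,
    .ofNat 0, .ofNat 1, .ofNat 1, .negSucc 0, .ofNat 0, .ofNat 1, .ofNat 1, .ofNat 0, .ofNat 0, .ofNat 1,
    .negSucc 20]

/-- a row -/
def r37 : List ℤ := [.ofNat 37573536, .ofNat 3488, .negSucc 7391, .ofNat 544544, .ofNat 120, .ofNat 336,
    .ofNat 3792, .ofNat 8463, .ofNat 0, .ofNat 40, .ofNat 0, .negSucc 279, .negSucc 13, .ofNat 8, .ofNat 8,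
    .ofNat 8, .negSucc 3, .negSucc 11, .ofNat 32, .ofNat 8, .ofNat 23, .negSucc 47, .ofNat 224, .ofNat 80,
    .negSucc 63, .ofNat 123, .ofNat 35, .ofNat 0, .ofNat 0, .ofNat 4, .negSucc 3, .ofNat 0, .ofNat 3, .ofNat 3,
    .ofNat 3, .ofNat 12, .negSucc 1, .negSucc 1, .negSucc 5, .ofNat 0, .ofNat 0, .negSucc 1, .ofNat 0, .ofNat 2,
    .ofNat 0, .negSucc 8, .ofNat 3, .ofNat 0, .ofNat 0, .ofNat 0, .ofNat 1, .ofNat 0, .ofNat 0, .ofNat 5,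
    .ofNat 8, .ofNat 0, .ofNat 0, .ofNat 0, .negSucc 1, .ofNat 1, .ofNat 0, .ofNat 0, .ofNat 2, .ofNat 3,
    .negSucc 0, .negSucc 0, .ofNat 3, .negSucc 0, .negSucc 0, .negSucc 3, .ofNat 0, .ofNat 0, .ofNat 0,
    .ofNat 0, .ofNat 0, .ofNat 0, .ofNat 1, .negSucc 0, .ofNat 0, .ofNat 0, .ofNat 0, .ofNat 0, .negSucc 1,
    .ofNat 0, .ofNat 1, .ofNat 0, .negSucc 0, .ofNat 0, .ofNat 0, .ofNat 0, .ofNat 0, .ofNat 8]

/-- a row -/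
def r38 : List ℤ := [.ofNat 40840800, .ofNat 1120, .negSucc 12319, .negSucc 800799, .ofNat 168, .ofNat 60,
    .negSucc 695, .ofNat 17745, .ofNat 0, .negSucc 39, .ofNat 64, .ofNat 280, .ofNat 0, .negSucc 33, .ofNat 4,
    .negSucc 13, .ofNat 4, .negSucc 7, .ofNat 40, .ofNat 4, .negSucc 22, .negSucc 7, .negSucc 519, .ofNat 40,
    .ofNat 40, .negSucc 34, .ofNat 245, .ofNat 0, .ofNat 0, .ofNat 4, .negSucc 3, .ofNat 3, .negSucc 2,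
    .negSucc 2, .negSucc 2, .ofNat 33, .ofNat 0, .ofNat 0, .ofNat 0, .ofNat 0, .ofNat 0, .ofNat 2, .ofNat 0,
    .negSucc 1, .ofNat 4, .negSucc 10, .ofNat 1, .negSucc 1, .ofNat 0, .ofNat 0, .negSucc 0, .negSucc 7,
    .negSucc 7, .negSucc 4, .negSucc 7, .ofNat 0, .ofNat 0, .ofNat 0, .ofNat 0, .ofNat 0, .ofNat 0, .ofNat 0,
    .negSucc 0, .ofNat 1, .ofNat 1, .negSucc 0, .ofNat 1, .ofNat 5, .ofNat 1, .ofNat 1, .ofNat 0, .ofNat 0,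
    .ofNat 0, .ofNat 0, .ofNat 0, .negSucc 0, .ofNat 1, .negSucc 0, .ofNat 0, .ofNat 0, .ofNat 0, .ofNat 0,
    .ofNat 0, .ofNat 0, .ofNat 0, .ofNat 0, .ofNat 1, .ofNat 1, .ofNat 0, .ofNat 0, .ofNat 0, .negSucc 15]

/-- a row -/
def r39 : List ℤ := [.ofNat 42270228, .negSucc 491, .ofNat 22484, .ofNat 948948, .ofNat 54, .ofNat 621,
    .negSucc 2294, .ofNat 19656, .negSucc 11, .ofNat 20, .negSucc 59, .ofNat 308, .ofNat 28, .ofNat 6,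
    .negSucc 5, .negSucc 5, .negSucc 14, .negSucc 6, .ofNat 21, .ofNat 21, .negSucc 23, .negSucc 6, .ofNat 357,
    .negSucc 86, .ofNat 21, .ofNat 56, .ofNat 1176, .ofNat 0, .negSucc 3, .ofNat 0, .ofNat 0, .ofNat 0,
    .ofNat 18, .negSucc 8, .ofNat 0, .ofNat 0, .negSucc 1, .ofNat 4, .negSucc 1, .ofNat 0, .ofNat 0, .negSucc 0,
    .negSucc 2, .negSucc 0, .negSucc 2, .ofNat 0, .ofNat 0, .ofNat 0, .ofNat 3, .negSucc 2, .negSucc 3,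
    .negSucc 14, .ofNat 3, .negSucc 3, .negSucc 6, .ofNat 0, .ofNat 0, .ofNat 0, .ofNat 1, .ofNat 1, .ofNat 0,
    .ofNat 0, .ofNat 0, .negSucc 0, .ofNat 0, .ofNat 3, .ofNat 2, .ofNat 0, .ofNat 0, .ofNat 0, .ofNat 0,
    .negSucc 1, .ofNat 0, .ofNat 0, .ofNat 0, .ofNat 0, .ofNat 0, .ofNat 0, .negSucc 0, .ofNat 0, .ofNat 0,
    .ofNat 0, .ofNat 1, .ofNat 1, .ofNat 1, .ofNat 0, .negSucc 0, .ofNat 0, .ofNat 0, .ofNat 0, .ofNat 1,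
    .negSucc 2]

/-- a row -/
def r40 : List ℤ := [.ofNat 48034350, .negSucc 209, .ofNat 35630, .negSucc 887249, .negSucc 26, .ofNat 540,
    .negSucc 5291, .ofNat 12285, .negSucc 1, .negSucc 9, .ofNat 30, .negSucc 489, .ofNat 0, .negSucc 2,
    .negSucc 2, .negSucc 2, .ofNat 6, .ofNat 8, .negSucc 47, .negSucc 11, .negSucc 2, .ofNat 44, .ofNat 24,
    .ofNat 132, .negSucc 29, .ofNat 125, .negSucc 1154, .ofNat 0, .negSucc 5, .negSucc 1, .negSucc 1, .ofNat 0,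
    .ofNat 18, .negSucc 8, .ofNat 0, .ofNat 0, .ofNat 0, .ofNat 0, .ofNat 0, .ofNat 1, .ofNat 1, .ofNat 2,
    .negSucc 1, .negSucc 3, .ofNat 0, .negSucc 2, .negSucc 2, .negSucc 2, .negSucc 1, .ofNat 4, .ofNat 5,
    .ofNat 12, .negSucc 5, .ofNat 5, .negSucc 3, .ofNat 0, .ofNat 0, .ofNat 0, .ofNat 0, .ofNat 0, .ofNat 0,
    .ofNat 0, .ofNat 0, .negSucc 0, .ofNat 0, .ofNat 3, .ofNat 2, .ofNat 0, .ofNat 0, .ofNat 0, .ofNat 0,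
    .ofNat 0, .ofNat 0, .ofNat 1, .negSucc 0, .ofNat 0, .ofNat 1, .ofNat 1, .ofNat 0, .ofNat 0, .ofNat 0,
    .ofNat 0, .ofNat 0, .ofNat 0, .ofNat 0, .ofNat 0, .negSucc 0, .ofNat 0, .ofNat 0, .ofNat 0, .ofNat 0,
    .ofNat 42]

/-- a row -/
def r41 : List ℤ := [.ofNat 48308832, .ofNat 96, .negSucc 1055, .negSucc 947231, .ofNat 108, .ofNat 756,
    .ofNat 2376, .ofNat 19305, .ofNat 0, .ofNat 24, .negSucc 63, .ofNat 216, .ofNat 7, .negSucc 17, .ofNat 0,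
    .negSucc 5, .ofNat 0, .negSucc 11, .ofNat 24, .negSucc 11, .negSucc 14, .ofNat 24, .negSucc 503,
    .negSucc 23, .negSucc 23, .ofNat 69, .negSucc 530, .ofNat 5, .ofNat 0, .negSucc 3, .ofNat 4, .ofNat 0,
    .ofNat 0, .ofNat 0, .ofNat 0, .ofNat 27, .ofNat 1, .negSucc 0, .negSucc 6, .ofNat 0, .ofNat 0, .ofNat 0,
    .ofNat 0, .ofNat 0, .negSucc 3, .negSucc 6, .ofNat 5, .ofNat 2, .ofNat 0, .ofNat 0, .ofNat 3, .ofNat 8,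
    .ofNat 8, .negSucc 8, .ofNat 0, .ofNat 0, .ofNat 1, .ofNat 1, .negSucc 4, .ofNat 1, .ofNat 0, .ofNat 0,
    .ofNat 0, .ofNat 0, .ofNat 0, .ofNat 0, .ofNat 0, .ofNat 0, .ofNat 0, .ofNat 3, .negSucc 0, .ofNat 1,
    .negSucc 0, .ofNat 0, .ofNat 0, .ofNat 0, .negSucc 0, .ofNat 1, .ofNat 0, .ofNat 0, .ofNat 0, .negSucc 0,
    .negSucc 0, .negSucc 0, .ofNat 1, .ofNat 0, .ofNat 0, .negSucc 0, .ofNat 0, .ofNat 1, .ofNat 1, .negSucc 71]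

/-- a row -/
def r42 : List ℤ := [.ofNat 55740960, .ofNat 1056, .ofNat 30624, .negSucc 205919, .ofNat 162, .negSucc 1295,
    .negSucc 1295, .negSucc 4940, .ofNat 0, .negSucc 23, .ofNat 0, .negSucc 215, .ofNat 35, .negSucc 17,
    .ofNat 6, .negSucc 5, .ofNat 0, .ofNat 24, .ofNat 48, .ofNat 0, .negSucc 20, .negSucc 47, .ofNat 144,
    .ofNat 48, .negSucc 23, .ofNat 159, .ofNat 279, .negSucc 4, .ofNat 0, .negSucc 3, .ofNat 4, .ofNat 0,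
    .ofNat 0, .ofNat 0, .ofNat 0, .ofNat 0, .ofNat 1, .negSucc 0, .ofNat 5, .ofNat 0, .ofNat 0, .ofNat 0,
    .ofNat 0, .ofNat 0, .ofNat 0, .negSucc 8, .ofNat 3, .ofNat 0, .ofNat 0, .ofNat 0, .negSucc 2, .ofNat 0,
    .ofNat 0, .ofNat 9, .ofNat 0, .ofNat 2, .negSucc 0, .negSucc 0, .negSucc 0, .negSucc 0, .ofNat 0, .ofNat 0,
    .ofNat 0, .ofNat 0, .ofNat 0, .ofNat 0, .ofNat 0, .ofNat 0, .ofNat 0, .ofNat 0, .ofNat 1, .negSucc 0,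
    .ofNat 1, .ofNat 0, .ofNat 0, .ofNat 0, .negSucc 0, .ofNat 1, .ofNat 0, .ofNat 0, .ofNat 0, .ofNat 1,
    .negSucc 0, .negSucc 0, .ofNat 1, .ofNat 0, .ofNat 0, .ofNat 0, .negSucc 0, .negSucc 0, .negSucc 0,
    .negSucc 71]

/-- a row -/
def r43 : List ℤ := [.ofNat 56360304, .ofNat 368, .ofNat 33264, .ofNat 624624, .negSucc 143, .ofNat 180,
    .ofNat 10062, .ofNat 1638, .negSucc 15, .ofNat 16, .ofNat 80, .ofNat 336, .negSucc 20, .negSucc 47,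
    .negSucc 3, .negSucc 3, .negSucc 9, .ofNat 0, .negSucc 9, .negSucc 3, .negSucc 9, .ofNat 54, .negSucc 209,
    .ofNat 158, .ofNat 50, .ofNat 54, .ofNat 294, .ofNat 0, .ofNat 0, .ofNat 0, .ofNat 0, .ofNat 0, .ofNat 0,
    .ofNat 0, .negSucc 8, .negSucc 8, .ofNat 3, .negSucc 0, .negSucc 0, .ofNat 0, .ofNat 2, .negSucc 1,
    .ofNat 2, .ofNat 0, .negSucc 3, .ofNat 2, .ofNat 2, .ofNat 2, .ofNat 2, .ofNat 2, .negSucc 1, .negSucc 9,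
    .negSucc 9, .ofNat 6, .negSucc 5, .ofNat 0, .ofNat 0, .ofNat 0, .ofNat 3, .ofNat 0, .ofNat 0, .ofNat 0,
    .ofNat 0, .ofNat 0, .ofNat 2, .ofNat 0, .ofNat 0, .negSucc 5, .negSucc 0, .negSucc 0, .ofNat 1, .ofNat 1,
    .ofNat 0, .ofNat 0, .ofNat 0, .ofNat 0, .ofNat 0, .ofNat 0, .ofNat 0, .ofNat 0, .ofNat 0, .ofNat 0,
    .negSucc 0, .negSucc 0, .ofNat 0, .ofNat 0, .ofNat 0, .negSucc 0, .ofNat 0, .ofNat 0, .ofNat 1, .ofNat 42]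

/-- a row -/
def r44 : List ℤ := [.ofNat 56360304, .ofNat 368, .ofNat 33264, .ofNat 624624, .negSucc 62, .ofNat 990,
    .negSucc 7433, .ofNat 1638, .negSucc 15, .ofNat 16, .ofNat 80, .ofNat 336, .negSucc 20, .ofNat 33, .ofNat 5,
    .ofNat 5, .ofNat 8, .negSucc 17, .negSucc 9, .ofNat 14, .negSucc 9, .negSucc 161, .negSucc 209, .negSucc 57,
    .negSucc 39, .ofNat 54, .ofNat 294, .ofNat 0, .ofNat 0, .ofNat 0, .ofNat 0, .ofNat 0, .ofNat 9, .ofNat 0,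
    .ofNat 0, .negSucc 8, .ofNat 3, .negSucc 0, .negSucc 0, .ofNat 0, .negSucc 0, .negSucc 1, .negSucc 3,
    .ofNat 0, .ofNat 2, .ofNat 2, .ofNat 2, .negSucc 0, .ofNat 2, .ofNat 2, .negSucc 1, .ofNat 14, .negSucc 9,
    .ofNat 6, .negSucc 5, .ofNat 0, .ofNat 0, .ofNat 0, .ofNat 3, .ofNat 0, .ofNat 0, .ofNat 0, .ofNat 0,
    .ofNat 0, .negSucc 0, .ofNat 0, .negSucc 2, .ofNat 3, .ofNat 2, .negSucc 0, .ofNat 1, .ofNat 1, .ofNat 0,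
    .ofNat 0, .ofNat 0, .ofNat 0, .ofNat 0, .ofNat 0, .ofNat 0, .ofNat 0, .ofNat 0, .ofNat 0, .negSucc 0,
    .negSucc 0, .ofNat 0, .ofNat 0, .ofNat 0, .negSucc 0, .ofNat 0, .ofNat 0, .ofNat 1, .negSucc 119]

/-- a row -/
def r45 : List ℤ := [.ofNat 57254912, .negSucc 3071, .ofNat 11264, .ofNat 146432, .ofNat 224, .ofNat 872,
    .ofNat 8000, .negSucc 3015, .ofNat 0, .negSucc 63, .ofNat 0, .negSucc 63, .negSucc 12, .negSucc 15,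
    .ofNat 0, .ofNat 0, .negSucc 11, .negSucc 3, .negSucc 47, .ofNat 0, .ofNat 24, .ofNat 32, .negSucc 15,
    .ofNat 0, .ofNat 0, .ofNat 104, .ofNat 776, .ofNat 1, .ofNat 0, .ofNat 0, .ofNat 0, .negSucc 0, .negSucc 0,
    .negSucc 0, .ofNat 8, .ofNat 8, .ofNat 3, .negSucc 0, .ofNat 7, .ofNat 0, .ofNat 0, .ofNat 2, .ofNat 0,
    .ofNat 2, .ofNat 0, .ofNat 0, .ofNat 0, .ofNat 0, .ofNat 0, .ofNat 0, .negSucc 3, .ofNat 0, .ofNat 0,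
    .negSucc 3, .ofNat 8, .ofNat 0, .ofNat 1, .negSucc 0, .negSucc 0, .ofNat 2, .ofNat 0, .ofNat 0, .negSucc 0,
    .negSucc 0, .negSucc 2, .negSucc 0, .negSucc 0, .ofNat 5, .ofNat 0, .ofNat 0, .ofNat 1, .ofNat 1, .ofNat 1,
    .ofNat 0, .ofNat 0, .ofNat 0, .ofNat 0, .ofNat 0, .ofNat 0, .ofNat 0, .negSucc 0, .negSucc 0, .negSucc 0,
    .ofNat 1, .ofNat 0, .ofNat 1, .negSucc 0, .ofNat 0, .ofNat 0, .negSucc 0, .ofNat 1, .ofNat 56]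

/-- a row -/
def r46 : List ℤ := [.ofNat 58708650, .negSucc 1109, .ofNat 40810, .negSucc 550549, .negSucc 68, .ofNat 660,
    .ofNat 9570, .negSucc 1364, .ofNat 26, .negSucc 29, .ofNat 74, .negSucc 349, .ofNat 0, .ofNat 7, .ofNat 3,
    .negSucc 8, .negSucc 5, .ofNat 4, .ofNat 42, .negSucc 11, .ofNat 27, .negSucc 13, .ofNat 250, .negSucc 125,
    .ofNat 90, .negSucc 4, .negSucc 244, .ofNat 0, .negSucc 1, .negSucc 1, .negSucc 1, .ofNat 3, .negSucc 5,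
    .negSucc 14, .negSucc 5, .negSucc 14, .ofNat 0, .ofNat 0, .ofNat 0, .ofNat 0, .negSucc 0, .ofNat 0,
    .ofNat 2, .negSucc 1, .negSucc 3, .negSucc 0, .negSucc 0, .negSucc 0, .ofNat 2, .ofNat 2, .ofNat 3,
    .ofNat 2, .ofNat 2, .negSucc 4, .ofNat 10, .ofNat 0, .ofNat 0, .ofNat 0, .ofNat 0, .ofNat 0, .ofNat 0,
    .ofNat 0, .ofNat 1, .ofNat 1, .ofNat 0, .ofNat 1, .negSucc 1, .ofNat 4, .ofNat 0, .negSucc 2, .ofNat 0,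
    .ofNat 0, .ofNat 0, .ofNat 0, .ofNat 0, .ofNat 0, .ofNat 1, .ofNat 1, .negSucc 1, .ofNat 0, .ofNat 0,
    .ofNat 0, .ofNat 0, .ofNat 0, .ofNat 0, .ofNat 0, .ofNat 1, .negSucc 0, .ofNat 0, .ofNat 0, .ofNat 0,
    .negSucc 37]

/-- a row -/
def r47 : List ℤ := [.ofNat 58708650, .ofNat 4010, .ofNat 3850, .ofNat 250250, .ofNat 174, .ofNat 660,
    .ofNat 3009, .negSucc 1364, .ofNat 42, .ofNat 30, .negSucc 29, .negSucc 209, .ofNat 0, .ofNat 14, .ofNat 2,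
    .ofNat 2, .negSucc 3, .negSucc 19, .ofNat 41, .ofNat 20, .negSucc 12, .ofNat 97, .ofNat 41, .ofNat 65,
    .ofNat 20, .negSucc 64, .ofNat 455, .ofNat 0, .negSucc 1, .ofNat 2, .negSucc 1, .ofNat 3, .negSucc 14,
    .negSucc 5, .ofNat 3, .negSucc 41, .ofNat 0, .ofNat 0, .ofNat 0, .ofNat 0, .ofNat 0, .ofNat 0, .ofNat 0,
    .ofNat 0, .ofNat 0, .ofNat 15, .ofNat 3, .ofNat 0, .negSucc 2, .ofNat 9, .negSucc 2, .ofNat 9, .negSucc 2,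
    .negSucc 14, .negSucc 2, .ofNat 0, .ofNat 0, .ofNat 0, .ofNat 0, .ofNat 0, .ofNat 0, .ofNat 0, .negSucc 0,
    .negSucc 1, .negSucc 0, .ofNat 2, .ofNat 1, .negSucc 0, .negSucc 0, .ofNat 2, .ofNat 0, .ofNat 0, .ofNat 0,
    .ofNat 0, .ofNat 0, .ofNat 0, .negSucc 0, .ofNat 1, .ofNat 1, .ofNat 0, .ofNat 0, .ofNat 0, .ofNat 0,
    .ofNat 0, .ofNat 0, .ofNat 0, .ofNat 0, .ofNat 0, .ofNat 0, .ofNat 0, .ofNat 0, .negSucc 75]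

/-- a row -/
def r48 : List ℤ := [.ofNat 65875680, .negSucc 3359, .negSucc 8735, .ofNat 1029600, .ofNat 81, .negSucc 161,
    .ofNat 3240, .ofNat 16848, .ofNat 32, .ofNat 0, .ofNat 96, .ofNat 0, .negSucc 19, .ofNat 9, .negSucc 2,
    .negSucc 2, .ofNat 6, .negSucc 5, .negSucc 11, .ofNat 6, .negSucc 47, .negSucc 95, .ofNat 252, .ofNat 24,
    .negSucc 29, .ofNat 48, .negSucc 719, .negSucc 3, .ofNat 0, .ofNat 0, .ofNat 0, .ofNat 0, .ofNat 0,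
    .ofNat 0, .ofNat 0, .ofNat 0, .ofNat 0, .ofNat 4, .ofNat 0, .ofNat 2, .negSucc 0, .ofNat 0, .ofNat 2,
    .ofNat 0, .ofNat 6, .ofNat 0, .ofNat 0, .ofNat 3, .ofNat 2, .ofNat 8, .ofNat 0, .ofNat 0, .ofNat 6,
    .ofNat 0, .ofNat 0, .ofNat 0, .ofNat 0, .negSucc 1, .negSucc 1, .negSucc 1, .ofNat 0, .ofNat 0, .ofNat 0,
    .ofNat 0, .ofNat 0, .ofNat 0, .ofNat 0, .ofNat 0, .ofNat 0, .ofNat 0, .ofNat 0, .ofNat 0, .negSucc 0,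
    .negSucc 1, .ofNat 0, .ofNat 0, .ofNat 0, .ofNat 0, .ofNat 0, .ofNat 0, .ofNat 0, .ofNat 0, .negSucc 1,
    .ofNat 0, .ofNat 0, .ofNat 1, .ofNat 0, .ofNat 0, .ofNat 0, .ofNat 1, .ofNat 0, .ofNat 90]

/-- a row -/
def r49 : List ℤ := [.ofNat 73531392, .ofNat 0, .ofNat 0, .ofNat 1441792, .ofNat 24, .negSucc 191, .ofNat 1536,
    .ofNat 29184, .ofNat 0, .ofNat 0, .ofNat 0, .ofNat 0, .negSucc 7, .negSucc 7, .ofNat 0, .ofNat 0, .ofNat 0,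
    .ofNat 0, .ofNat 0, .ofNat 0, .ofNat 0, .ofNat 0, .ofNat 640, .ofNat 0, .ofNat 0, .ofNat 0, .negSucc 511,
    .ofNat 4, .ofNat 0, .ofNat 0, .ofNat 0, .ofNat 0, .negSucc 11, .negSucc 11, .ofNat 6, .ofNat 24, .ofNat 0,
    .ofNat 0, .negSucc 7, .ofNat 0, .ofNat 0, .ofNat 0, .ofNat 0, .ofNat 0, .ofNat 0, .ofNat 0, .ofNat 0,
    .ofNat 0, .ofNat 0, .ofNat 0, .ofNat 0, .ofNat 0, .ofNat 0, .ofNat 0, .ofNat 0, .negSucc 0, .ofNat 0,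
    .ofNat 2, .ofNat 4, .negSucc 1, .ofNat 0, .ofNat 0, .negSucc 1, .ofNat 0, .ofNat 0, .negSucc 1, .ofNat 0,
    .ofNat 4, .ofNat 0, .ofNat 0, .ofNat 0, .ofNat 0, .ofNat 1, .ofNat 0, .ofNat 0, .ofNat 1, .ofNat 0,
    .ofNat 0, .ofNat 0, .ofNat 1, .ofNat 0, .ofNat 0, .ofNat 0, .negSucc 1, .ofNat 0, .negSucc 0, .ofNat 0,
    .ofNat 0, .negSucc 0, .negSucc 0, .ofNat 0, .ofNat 64]

/-- a row -/
def r50 : List ℤ := [.ofNat 73531392, .ofNat 0, .ofNat 0, .negSucc 1441791, .ofNat 24, .negSucc 191,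
    .ofNat 1536, .ofNat 29184, .ofNat 0, .ofNat 0, .ofNat 0, .ofNat 0, .negSucc 7, .ofNat 8, .ofNat 0, .ofNat 0,
    .ofNat 0, .ofNat 0, .ofNat 0, .ofNat 0, .ofNat 0, .ofNat 0, .negSucc 639, .ofNat 0, .ofNat 0, .ofNat 0,
    .ofNat 512, .ofNat 4, .ofNat 0, .ofNat 0, .ofNat 0, .ofNat 0, .negSucc 11, .negSucc 11, .ofNat 6, .ofNat 24,
    .ofNat 0, .ofNat 0, .ofNat 8, .ofNat 0, .ofNat 0, .ofNat 0, .ofNat 0, .ofNat 0, .ofNat 0, .ofNat 0,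
    .ofNat 0, .ofNat 0, .ofNat 0, .ofNat 0, .ofNat 0, .ofNat 0, .ofNat 0, .ofNat 0, .ofNat 0, .negSucc 0,
    .ofNat 0, .negSucc 1, .ofNat 4, .negSucc 1, .ofNat 0, .ofNat 0, .ofNat 2, .ofNat 0, .ofNat 0, .ofNat 2,
    .ofNat 0, .negSucc 3, .ofNat 0, .ofNat 0, .ofNat 0, .ofNat 0, .ofNat 1, .ofNat 0, .ofNat 0, .ofNat 1,
    .ofNat 0, .ofNat 0, .ofNat 0, .negSucc 0, .ofNat 0, .ofNat 0, .ofNat 0, .ofNat 2, .ofNat 0, .negSucc 0,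
    .ofNat 0, .ofNat 0, .negSucc 0, .ofNat 1, .ofNat 0, .negSucc 63]

/-- a row -/
def r51 : List ℤ := [.ofNat 78278200, .negSucc 4039, .ofNat 21560, .ofNat 1401400, .ofNat 151, .ofNat 745,
    .ofNat 2554, .ofNat 22750, .negSucc 39, .negSucc 39, .negSucc 39, .ofNat 280, .ofNat 0, .ofNat 19, .ofNat 7,
    .negSucc 4, .ofNat 7, .ofNat 5, .negSucc 25, .ofNat 1, .negSucc 49, .ofNat 122, .ofNat 262, .ofNat 58,
    .negSucc 4, .negSucc 129, .ofNat 910, .ofNat 0, .ofNat 0, .ofNat 0, .ofNat 0, .ofNat 1, .ofNat 7, .ofNat 7,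
    .negSucc 1, .negSucc 10, .ofNat 0, .ofNat 0, .ofNat 0, .ofNat 0, .negSucc 0, .negSucc 0, .negSucc 0,
    .ofNat 1, .ofNat 5, .ofNat 2, .ofNat 2, .negSucc 0, .negSucc 3, .negSucc 9, .ofNat 2, .ofNat 2, .negSucc 3,
    .ofNat 10, .ofNat 10, .ofNat 0, .ofNat 0, .ofNat 0, .ofNat 0, .ofNat 0, .ofNat 0, .ofNat 0, .ofNat 1,
    .negSucc 0, .ofNat 1, .ofNat 1, .negSucc 0, .ofNat 1, .negSucc 1, .ofNat 1, .ofNat 0, .ofNat 0, .ofNat 0,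
    .ofNat 0, .ofNat 0, .ofNat 0, .ofNat 0, .ofNat 0, .ofNat 0, .ofNat 0, .ofNat 1, .ofNat 0, .ofNat 0,
    .ofNat 0, .ofNat 0, .ofNat 0, .ofNat 1, .negSucc 0, .ofNat 0, .ofNat 0, .ofNat 0, .ofNat 19]

/-- a row -/
def r52 : List ℤ := [.ofNat 93933840, .ofNat 1296, .ofNat 16016, .negSucc 1521519, .ofNat 111, .negSucc 23,
    .negSucc 725, .ofNat 22386, .ofNat 16, .negSucc 15, .ofNat 48, .negSucc 335, .negSucc 34, .ofNat 11,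
    .ofNat 3, .ofNat 15, .negSucc 5, .negSucc 3, .negSucc 17, .ofNat 0, .negSucc 29, .negSucc 21, .negSucc 177,
    .ofNat 42, .ofNat 6, .negSucc 93, .ofNat 434, .ofNat 0, .ofNat 0, .ofNat 0, .ofNat 0, .negSucc 2, .ofNat 3,
    .negSucc 5, .negSucc 5, .negSucc 23, .ofNat 1, .ofNat 1, .ofNat 5, .ofNat 0, .ofNat 1, .ofNat 2, .negSucc 1,
    .ofNat 0, .ofNat 0, .ofNat 6, .ofNat 6, .negSucc 2, .ofNat 4, .negSucc 1, .ofNat 2, .negSucc 5, .ofNat 12,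
    .negSucc 5, .ofNat 6, .ofNat 0, .ofNat 0, .ofNat 0, .ofNat 1, .ofNat 1, .ofNat 0, .ofNat 0, .negSucc 0,
    .ofNat 2, .ofNat 3, .negSucc 3, .negSucc 0, .negSucc 0, .ofNat 0, .ofNat 0, .negSucc 0, .negSucc 0,
    .ofNat 0, .ofNat 0, .ofNat 0, .ofNat 0, .ofNat 0, .ofNat 0, .ofNat 0, .ofNat 0, .ofNat 0, .ofNat 0,
    .ofNat 1, .negSucc 0, .ofNat 1, .ofNat 0, .ofNat 0, .ofNat 0, .ofNat 0, .ofNat 0, .negSucc 0, .negSucc 33]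

/-- a row -/
def r53 : List ℤ := [.ofNat 97976320, .ofNat 0, .ofNat 65536, .ofNat 0, .ofNat 16, .ofNat 1312, .negSucc 1279,
    .negSucc 11647, .ofNat 0, .ofNat 0, .ofNat 0, .ofNat 0, .ofNat 20, .ofNat 0, .ofNat 0, .ofNat 0, .ofNat 0,
    .ofNat 16, .ofNat 0, .ofNat 0, .ofNat 0, .negSucc 127, .ofNat 0, .ofNat 0, .ofNat 0, .negSucc 127, .ofNat 0,
    .negSucc 5, .ofNat 0, .ofNat 0, .ofNat 0, .negSucc 1, .negSucc 19, .negSucc 1, .negSucc 1, .ofNat 16,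
    .ofNat 0, .negSucc 3, .ofNat 0, .ofNat 2, .ofNat 0, .ofNat 0, .ofNat 0, .ofNat 0, .ofNat 0, .ofNat 0,
    .ofNat 0, .ofNat 0, .ofNat 0, .ofNat 0, .ofNat 0, .ofNat 0, .ofNat 0, .ofNat 0, .ofNat 0, .ofNat 0,
    .ofNat 2, .ofNat 0, .ofNat 2, .ofNat 2, .ofNat 0, .negSucc 0, .ofNat 0, .negSucc 1, .ofNat 0, .ofNat 0,
    .ofNat 4, .ofNat 0, .ofNat 0, .ofNat 0, .ofNat 0, .ofNat 0, .ofNat 0, .negSucc 1, .ofNat 0, .ofNat 0,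
    .ofNat 0, .ofNat 0, .ofNat 0, .ofNat 0, .ofNat 1, .ofNat 0, .ofNat 2, .ofNat 0, .ofNat 0, .negSucc 0,
    .ofNat 0, .ofNat 0, .ofNat 0, .ofNat 0, .ofNat 0, .ofNat 0]

/-- a row -/
def r54 : List ℤ := [.ofNat 133398252, .negSucc 3347, .ofNat 26028, .ofNat 972972, .ofNat 0, .ofNat 0,
    .ofNat 6561, .ofNat 0, .ofNat 12, .negSucc 35, .negSucc 35, .ofNat 252, .ofNat 27, .ofNat 0, .ofNat 0,
    .ofNat 0, .ofNat 0, .ofNat 0, .negSucc 26, .ofNat 0, .ofNat 0, .negSucc 134, .negSucc 242, .ofNat 81,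
    .ofNat 0, .ofNat 0, .ofNat 0, .negSucc 5, .ofNat 4, .ofNat 0, .ofNat 0, .ofNat 0, .ofNat 0, .ofNat 0,
    .ofNat 0, .ofNat 0, .negSucc 2, .ofNat 3, .negSucc 2, .negSucc 1, .ofNat 0, .ofNat 0, .ofNat 0, .ofNat 0,
    .ofNat 0, .ofNat 0, .ofNat 0, .ofNat 0, .ofNat 3, .ofNat 9, .ofNat 0, .ofNat 9, .negSucc 8, .ofNat 0,
    .ofNat 9, .ofNat 0, .ofNat 2, .ofNat 0, .ofNat 0, .ofNat 0, .ofNat 0, .ofNat 0, .ofNat 0, .ofNat 0,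
    .ofNat 0, .ofNat 0, .ofNat 0, .ofNat 0, .ofNat 0, .ofNat 0, .negSucc 0, .negSucc 2, .ofNat 0, .ofNat 2,
    .ofNat 0, .ofNat 0, .ofNat 0, .ofNat 0, .ofNat 1, .ofNat 0, .ofNat 0, .ofNat 0, .ofNat 0, .ofNat 0,
    .ofNat 0, .negSucc 0, .ofNat 0, .ofNat 0, .ofNat 0, .ofNat 0, .ofNat 0, .ofNat 0]

/-- a row -/
def r55 : List ℤ := [.ofNat 166559744, .ofNat 0, .ofNat 32768, .negSucc 2555903, .negSucc 231, .negSucc 879,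
    .negSucc 2175, .ofNat 34112, .ofNat 0, .ofNat 0, .ofNat 0, .negSucc 511, .negSucc 5, .ofNat 24, .ofNat 0,
    .ofNat 0, .ofNat 0, .ofNat 8, .ofNat 0, .ofNat 0, .ofNat 0, .negSucc 63, .negSucc 191, .ofNat 0, .ofNat 0,
    .negSucc 63, .ofNat 384, .ofNat 1, .ofNat 0, .ofNat 0, .ofNat 0, .ofNat 2, .ofNat 2, .ofNat 11, .ofNat 2,
    .negSucc 15, .ofNat 0, .negSucc 1, .negSucc 3, .negSucc 0, .ofNat 0, .ofNat 0, .ofNat 0, .ofNat 4, .ofNat 0,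
    .ofNat 0, .ofNat 0, .ofNat 0, .ofNat 0, .ofNat 0, .ofNat 0, .ofNat 0, .ofNat 0, .ofNat 16, .negSucc 7,
    .ofNat 0, .ofNat 1, .negSucc 0, .negSucc 2, .ofNat 0, .ofNat 0, .ofNat 0, .ofNat 0, .negSucc 0, .ofNat 0,
    .ofNat 3, .ofNat 2, .ofNat 0, .ofNat 0, .ofNat 0, .ofNat 0, .negSucc 1, .ofNat 1, .negSucc 0, .ofNat 1,
    .ofNat 0, .ofNat 0, .ofNat 0, .ofNat 0, .ofNat 0, .negSucc 0, .negSucc 0, .ofNat 1, .negSucc 0, .ofNat 0,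
    .ofNat 1, .ofNat 1, .ofNat 0, .ofNat 0, .negSucc 0, .ofNat 1, .ofNat 96]

/-- a row -/
def r56 : List ℤ := [.ofNat 166559744, .ofNat 0, .ofNat 32768, .ofNat 2555904, .negSucc 231, .negSucc 879,
    .negSucc 2175, .ofNat 34112, .ofNat 0, .ofNat 0, .ofNat 0, .ofNat 512, .negSucc 5, .negSucc 23, .ofNat 0,
    .ofNat 0, .ofNat 0, .ofNat 8, .ofNat 0, .ofNat 0, .ofNat 0, .negSucc 63, .ofNat 192, .ofNat 0, .ofNat 0,
    .negSucc 63, .negSucc 383, .ofNat 1, .ofNat 0, .ofNat 0, .ofNat 0, .ofNat 2, .ofNat 2, .ofNat 11, .ofNat 2,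
    .negSucc 15, .ofNat 0, .negSucc 1, .ofNat 4, .negSucc 0, .ofNat 0, .ofNat 0, .ofNat 0, .negSucc 3, .ofNat 0,
    .ofNat 0, .ofNat 0, .ofNat 0, .ofNat 0, .ofNat 0, .ofNat 0, .ofNat 0, .ofNat 0, .negSucc 15, .ofNat 8,
    .ofNat 0, .ofNat 1, .ofNat 1, .negSucc 2, .ofNat 0, .ofNat 0, .ofNat 0, .ofNat 0, .negSucc 0, .ofNat 0,
    .negSucc 2, .ofNat 2, .ofNat 0, .ofNat 0, .ofNat 0, .ofNat 0, .ofNat 2, .ofNat 1, .negSucc 0, .negSucc 0,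
    .ofNat 0, .ofNat 0, .ofNat 0, .ofNat 0, .ofNat 0, .negSucc 0, .ofNat 1, .ofNat 1, .ofNat 1, .ofNat 0,
    .ofNat 1, .negSucc 0, .ofNat 0, .ofNat 0, .ofNat 1, .negSucc 0, .negSucc 95]

/-- a row -/
def r57 : List ℤ := [.ofNat 176125950, .ofNat 1790, .ofNat 11550, .ofNat 750750, .ofNat 117, .ofNat 360,
    .negSucc 8468, .negSucc 4094, .negSucc 1, .negSucc 29, .ofNat 6, .ofNat 210, .ofNat 0, .negSucc 38,
    .ofNat 5, .negSucc 6, .negSucc 3, .negSucc 23, .negSucc 0, .ofNat 8, .negSucc 6, .negSucc 140, .negSucc 200,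
    .negSucc 132, .ofNat 20, .ofNat 165, .negSucc 1154, .ofNat 0, .ofNat 2, .ofNat 2, .negSucc 1, .ofNat 0,
    .ofNat 0, .ofNat 0, .ofNat 9, .negSucc 17, .ofNat 0, .ofNat 0, .ofNat 0, .ofNat 0, .ofNat 1, .ofNat 0,
    .ofNat 4, .ofNat 0, .ofNat 0, .ofNat 9, .negSucc 2, .negSucc 2, .ofNat 1, .negSucc 4, .ofNat 3, .ofNat 3,
    .negSucc 2, .ofNat 15, .ofNat 3, .ofNat 0, .ofNat 0, .ofNat 0, .ofNat 0, .ofNat 0, .ofNat 0, .ofNat 0,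
    .ofNat 0, .ofNat 0, .ofNat 2, .ofNat 0, .ofNat 0, .negSucc 5, .negSucc 0, .ofNat 2, .ofNat 0, .ofNat 0,
    .ofNat 0, .ofNat 0, .ofNat 0, .ofNat 0, .negSucc 0, .ofNat 1, .negSucc 0, .ofNat 0, .ofNat 0, .ofNat 0,
    .ofNat 0, .ofNat 0, .ofNat 0, .ofNat 0, .ofNat 0, .ofNat 0, .ofNat 0, .ofNat 0, .ofNat 0, .ofNat 132]

/-- a row -/
def r58 : List ℤ := [.ofNat 176125950, .ofNat 1790, .ofNat 11550, .ofNat 750750, .ofNat 36, .negSucc 449,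
    .ofNat 9027, .negSucc 4094, .negSucc 1, .negSucc 29, .ofNat 6, .ofNat 210, .ofNat 0, .ofNat 42, .negSucc 3,
    .ofNat 2, .ofNat 14, .negSucc 5, .negSucc 0, .negSucc 9, .negSucc 6, .ofNat 75, .negSucc 200, .ofNat 83,
    .negSucc 69, .ofNat 165, .negSucc 1154, .ofNat 0, .ofNat 2, .ofNat 2, .negSucc 1, .ofNat 0, .negSucc 8,
    .ofNat 0, .ofNat 0, .negSucc 17, .ofNat 0, .ofNat 0, .ofNat 0, .ofNat 0, .negSucc 1, .ofNat 0, .negSucc 1,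
    .ofNat 0, .negSucc 5, .ofNat 9, .negSucc 2, .ofNat 0, .ofNat 1, .negSucc 4, .ofNat 3, .negSucc 20,
    .negSucc 2, .ofNat 15, .ofNat 3, .ofNat 0, .ofNat 0, .ofNat 0, .ofNat 0, .ofNat 0, .ofNat 0, .ofNat 0,
    .ofNat 0, .ofNat 0, .negSucc 0, .ofNat 0, .ofNat 3, .ofNat 3, .ofNat 2, .ofNat 2, .ofNat 0, .ofNat 0,
    .ofNat 0, .ofNat 0, .ofNat 0, .ofNat 0, .negSucc 0, .ofNat 1, .negSucc 0, .ofNat 0, .ofNat 0, .ofNat 0,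
    .ofNat 0, .ofNat 0, .ofNat 0, .ofNat 0, .ofNat 0, .ofNat 0, .ofNat 0, .ofNat 0, .ofNat 0, .negSucc 29]

/-- a row -/
def r59 : List ℤ := [.ofNat 203802885, .negSucc 2042, .ofNat 27621, .negSucc 1911194, .ofNat 0, .ofNat 0,
    .ofNat 5103, .ofNat 9477, .negSucc 26, .negSucc 38, .negSucc 2, .negSucc 278, .negSucc 14, .ofNat 0,
    .ofNat 0, .ofNat 0, .ofNat 0, .ofNat 0, .negSucc 44, .ofNat 0, .ofNat 45, .negSucc 80, .ofNat 243,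
    .negSucc 80, .ofNat 0, .ofNat 81, .ofNat 729, .negSucc 0, .ofNat 1, .ofNat 5, .ofNat 1, .ofNat 0, .ofNat 0,
    .ofNat 0, .ofNat 0, .ofNat 0, .negSucc 2, .ofNat 1, .ofNat 5, .ofNat 0, .ofNat 0, .ofNat 0, .ofNat 0,
    .ofNat 0, .ofNat 0, .negSucc 2, .ofNat 9, .ofNat 0, .negSucc 2, .ofNat 3, .ofNat 3, .negSucc 8, .negSucc 2,
    .negSucc 8, .negSucc 8, .ofNat 0, .negSucc 0, .ofNat 1, .negSucc 2, .ofNat 0, .negSucc 0, .ofNat 0,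
    .ofNat 0, .ofNat 0, .ofNat 0, .ofNat 0, .ofNat 0, .ofNat 0, .ofNat 0, .ofNat 0, .ofNat 1, .ofNat 1,
    .negSucc 0, .ofNat 0, .ofNat 0, .ofNat 0, .negSucc 0, .ofNat 1, .ofNat 1, .ofNat 0, .ofNat 0, .ofNat 1,
    .ofNat 1, .negSucc 0, .ofNat 0, .negSucc 0, .ofNat 0, .ofNat 0, .ofNat 0, .ofNat 1, .ofNat 1, .ofNat 0]

/-- a row -/
def r60 : List ℤ := [.ofNat 207793431, .negSucc 2024, .ofNat 26487, .negSucc 2368520, .ofNat 0, .ofNat 0,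
    .ofNat 0, .ofNat 19683, .negSucc 8, .ofNat 75, .negSucc 80, .ofNat 27, .ofNat 6, .ofNat 0, .ofNat 0,
    .ofNat 0, .ofNat 0, .ofNat 0, .ofNat 0, .ofNat 0, .ofNat 27, .ofNat 0, .ofNat 0, .ofNat 0, .ofNat 0,
    .negSucc 80, .negSucc 728, .negSucc 0, .ofNat 3, .negSucc 0, .negSucc 4, .ofNat 0, .ofNat 0, .ofNat 0,
    .ofNat 0, .ofNat 0, .ofNat 0, .ofNat 2, .ofNat 4, .negSucc 0, .ofNat 0, .ofNat 0, .ofNat 0, .ofNat 0,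
    .ofNat 0, .negSucc 8, .ofNat 3, .ofNat 0, .ofNat 0, .ofNat 0, .negSucc 2, .ofNat 0, .ofNat 0, .ofNat 9,
    .ofNat 0, .ofNat 1, .negSucc 0, .negSucc 0, .ofNat 3, .ofNat 0, .ofNat 1, .ofNat 0, .ofNat 0, .ofNat 0,
    .ofNat 0, .ofNat 0, .ofNat 0, .ofNat 0, .ofNat 0, .ofNat 0, .ofNat 0, .ofNat 2, .negSucc 0, .negSucc 0,
    .negSucc 0, .ofNat 0, .negSucc 0, .ofNat 1, .ofNat 0, .ofNat 1, .ofNat 0, .negSucc 0, .negSucc 0, .ofNat 1,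
    .ofNat 0, .negSucc 0, .ofNat 0, .ofNat 0, .ofNat 1, .negSucc 0, .negSucc 0, .ofNat 0]

/-- a row -/
def r61 : List ℤ := [.ofNat 211351140, .negSucc 923, .ofNat 23716, .negSucc 1021019, .negSucc 134, .ofNat 351,
    .negSucc 7100, .negSucc 4913, .negSucc 27, .negSucc 75, .ofNat 84, .ofNat 84, .negSucc 34, .negSucc 14,
    .negSucc 2, .negSucc 2, .ofNat 3, .negSucc 16, .ofNat 75, .ofNat 15, .ofNat 30, .ofNat 91, .ofNat 147,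
    .ofNat 51, .ofNat 51, .ofNat 46, .negSucc 545, .ofNat 0, .ofNat 4, .ofNat 0, .ofNat 0, .ofNat 0, .ofNat 9,
    .negSucc 17, .ofNat 0, .ofNat 0, .ofNat 1, .ofNat 1, .ofNat 5, .ofNat 0, .negSucc 0, .negSucc 0, .negSucc 0,
    .ofNat 3, .ofNat 3, .negSucc 5, .negSucc 5, .ofNat 3, .negSucc 0, .negSucc 0, .ofNat 2, .ofNat 3, .ofNat 3,
    .negSucc 5, .ofNat 3, .ofNat 0, .ofNat 0, .ofNat 0, .ofNat 1, .ofNat 1, .ofNat 0, .ofNat 0, .ofNat 0,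
    .negSucc 1, .negSucc 2, .ofNat 0, .ofNat 1, .negSucc 2, .ofNat 0, .ofNat 0, .negSucc 0, .negSucc 0,
    .ofNat 0, .ofNat 0, .ofNat 0, .ofNat 0, .ofNat 0, .ofNat 0, .ofNat 1, .ofNat 0, .ofNat 0, .ofNat 0,
    .ofNat 1, .negSucc 0, .ofNat 1, .ofNat 0, .ofNat 0, .ofNat 0, .ofNat 0, .ofNat 0, .negSucc 0, .ofNat 3]

/-- a row -/
def r62 : List ℤ := [.ofNat 216154575, .ofNat 4815, .negSucc 61424, .negSucc 61424, .ofNat 0, .ofNat 1215,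
    .ofNat 2430, .ofNat 0, .negSucc 0, .negSucc 104, .ofNat 15, .negSucc 104, .ofNat 0, .ofNat 54, .ofNat 0,
    .negSucc 17, .negSucc 8, .ofNat 27, .negSucc 17, .negSucc 8, .ofNat 0, .ofNat 54, .ofNat 54, .negSucc 17,
    .negSucc 44, .ofNat 0, .ofNat 0, .ofNat 0, .ofNat 3, .ofNat 3, .ofNat 3, .ofNat 0, .ofNat 0, .ofNat 0,
    .ofNat 0, .ofNat 0, .ofNat 0, .ofNat 0, .ofNat 0, .negSucc 0, .ofNat 2, .negSucc 2, .negSucc 0, .negSucc 2,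
    .ofNat 3, .ofNat 0, .ofNat 0, .ofNat 0, .ofNat 2, .ofNat 2, .ofNat 0, .ofNat 6, .ofNat 6, .ofNat 0,
    .negSucc 5, .ofNat 0, .ofNat 0, .ofNat 0, .ofNat 0, .ofNat 0, .ofNat 1, .ofNat 0, .ofNat 0, .ofNat 0,
    .ofNat 0, .ofNat 0, .ofNat 0, .ofNat 0, .ofNat 0, .ofNat 0, .ofNat 0, .ofNat 0, .ofNat 0, .negSucc 0,
    .negSucc 0, .ofNat 0, .ofNat 0, .ofNat 0, .ofNat 0, .ofNat 0, .ofNat 0, .ofNat 0, .ofNat 0, .ofNat 0,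
    .ofNat 0, .ofNat 0, .ofNat 0, .ofNat 0, .ofNat 0, .ofNat 0, .ofNat 0, .ofNat 27]

/-- a row -/
def r63 : List ℤ := [.ofNat 216770400, .ofNat 4960, .ofNat 36960, .ofNat 2402400, .ofNat 63, .ofNat 630,
    .ofNat 3708, .ofNat 17640, .ofNat 32, .ofNat 0, .negSucc 31, .ofNat 0, .ofNat 0, .ofNat 21, .negSucc 4,
    .ofNat 1, .negSucc 1, .negSucc 29, .negSucc 43, .negSucc 1, .ofNat 40, .negSucc 83, .negSucc 59, .ofNat 28,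
    .ofNat 10, .negSucc 119, .ofNat 840, .ofNat 0, .ofNat 0, .ofNat 0, .ofNat 0, .ofNat 0, .ofNat 9, .ofNat 0,
    .negSucc 8, .ofNat 9, .ofNat 0, .ofNat 0, .ofNat 0, .ofNat 0, .negSucc 0, .ofNat 0, .ofNat 2, .ofNat 0,
    .negSucc 1, .negSucc 7, .negSucc 7, .ofNat 1, .negSucc 3, .negSucc 3, .ofNat 0, .ofNat 4, .ofNat 4,
    .ofNat 0, .ofNat 0, .ofNat 2, .ofNat 0, .ofNat 0, .ofNat 0, .ofNat 0, .ofNat 0, .ofNat 0, .ofNat 0,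
    .ofNat 0, .ofNat 1, .ofNat 0, .negSucc 2, .negSucc 2, .ofNat 1, .ofNat 1, .ofNat 0, .ofNat 0, .ofNat 0,
    .ofNat 0, .ofNat 0, .ofNat 0, .ofNat 0, .ofNat 0, .ofNat 0, .ofNat 0, .ofNat 0, .ofNat 0, .ofNat 0,
    .ofNat 0, .ofNat 0, .ofNat 0, .ofNat 0, .ofNat 1, .negSucc 0, .ofNat 0, .ofNat 0, .ofNat 66]

/-- a row -/
def r64 : List ℤ := [.ofNat 244563462, .ofNat 774, .negSucc 56825, .negSucc 1552121, .ofNat 0, .ofNat 729,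
    .ofNat 2187, .ofNat 9477, .negSucc 41, .ofNat 46, .ofNat 54, .ofNat 462, .negSucc 12, .ofNat 0, .ofNat 0,
    .ofNat 0, .negSucc 8, .ofNat 9, .negSucc 8, .ofNat 9, .negSucc 26, .negSucc 44, .negSucc 80, .ofNat 27,
    .negSucc 80, .ofNat 117, .ofNat 405, .negSucc 3, .ofNat 2, .negSucc 1, .negSucc 1, .ofNat 0, .ofNat 0,
    .ofNat 0, .ofNat 0, .ofNat 0, .negSucc 0, .negSucc 0, .ofNat 3, .ofNat 0, .ofNat 0, .ofNat 1, .ofNat 3,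
    .ofNat 3, .negSucc 2, .negSucc 2, .negSucc 2, .ofNat 0, .negSucc 2, .ofNat 3, .ofNat 1, .ofNat 3, .ofNat 9,
    .negSucc 14, .ofNat 3, .ofNat 0, .ofNat 0, .ofNat 2, .ofNat 2, .negSucc 0, .ofNat 0, .ofNat 0, .ofNat 0,
    .ofNat 0, .ofNat 0, .ofNat 0, .ofNat 0, .ofNat 0, .ofNat 0, .ofNat 0, .ofNat 1, .negSucc 2, .negSucc 0,
    .ofNat 0, .ofNat 0, .ofNat 0, .ofNat 1, .ofNat 1, .negSucc 0, .ofNat 0, .ofNat 0, .ofNat 0, .ofNat 2,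
    .ofNat 0, .negSucc 0, .ofNat 1, .ofNat 0, .ofNat 0, .ofNat 0, .negSucc 0, .ofNat 0, .negSucc 80]

/-- a row -/
def r65 : List ℤ := [.ofNat 263376036, .negSucc 3419, .negSucc 30491, .ofNat 1920996, .ofNat 0, .ofNat 1458,
    .negSucc 2186, .ofNat 10206, .ofNat 36, .ofNat 20, .negSucc 107, .negSucc 587, .negSucc 13, .ofNat 0,
    .ofNat 0, .ofNat 0, .ofNat 0, .ofNat 18, .ofNat 9, .ofNat 18, .negSucc 17, .ofNat 45, .ofNat 81,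
    .negSucc 26, .ofNat 0, .ofNat 126, .ofNat 1134, .ofNat 0, .ofNat 4, .ofNat 0, .ofNat 0, .ofNat 0, .ofNat 0,
    .ofNat 0, .ofNat 0, .ofNat 0, .ofNat 0, .negSucc 1, .negSucc 3, .ofNat 0, .ofNat 0, .ofNat 2, .ofNat 0,
    .ofNat 0, .negSucc 5, .negSucc 5, .negSucc 5, .ofNat 0, .ofNat 3, .negSucc 2, .ofNat 2, .negSucc 2,
    .negSucc 8, .negSucc 5, .negSucc 2, .ofNat 1, .ofNat 0, .ofNat 0, .ofNat 1, .negSucc 1, .ofNat 0, .ofNat 0,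
    .ofNat 0, .ofNat 0, .ofNat 0, .ofNat 0, .ofNat 0, .ofNat 0, .ofNat 0, .ofNat 0, .ofNat 0, .ofNat 2,
    .ofNat 0, .ofNat 0, .ofNat 0, .ofNat 0, .ofNat 0, .ofNat 0, .ofNat 1, .negSucc 0, .ofNat 0, .ofNat 0,
    .ofNat 1, .negSucc 0, .ofNat 0, .ofNat 0, .ofNat 0, .ofNat 0, .ofNat 1, .ofNat 0, .negSucc 0, .ofNat 0]

/-- a row -/
def r66 : List ℤ := [.ofNat 264188925, .ofNat 765, .ofNat 35805, .negSucc 2477474, .ofNat 135, .ofNat 945,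
    .ofNat 8073, .ofNat 12285, .negSucc 34, .ofNat 25, .negSucc 106, .ofNat 105, .ofNat 0, .negSucc 8, .ofNat 3,
    .ofNat 3, .ofNat 9, .negSucc 14, .ofNat 9, .negSucc 14, .negSucc 26, .ofNat 57, .ofNat 153, .negSucc 86,
    .negSucc 14, .negSucc 14, .negSucc 1574, .ofNat 0, .ofNat 1, .ofNat 1, .ofNat 5, .ofNat 0, .ofNat 0,
    .ofNat 0, .ofNat 0, .negSucc 26, .ofNat 0, .ofNat 0, .ofNat 0, .ofNat 0, .ofNat 1, .ofNat 1, .ofNat 1,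
    .negSucc 2, .ofNat 1, .ofNat 1, .negSucc 10, .ofNat 1, .ofNat 1, .ofNat 1, .negSucc 4, .ofNat 1, .ofNat 1,
    .ofNat 15, .negSucc 2, .ofNat 0, .ofNat 0, .ofNat 0, .ofNat 0, .ofNat 0, .negSucc 0, .ofNat 0, .ofNat 0,
    .ofNat 0, .ofNat 0, .ofNat 0, .ofNat 0, .ofNat 0, .ofNat 0, .negSucc 2, .ofNat 0, .ofNat 0, .ofNat 0,
    .ofNat 0, .ofNat 0, .ofNat 0, .ofNat 1, .negSucc 0, .ofNat 1, .ofNat 0, .ofNat 0, .ofNat 0, .ofNat 0,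
    .ofNat 0, .ofNat 0, .ofNat 0, .ofNat 0, .ofNat 1, .ofNat 0, .ofNat 0, .ofNat 0, .negSucc 62]

/-- a row -/
def r67 : List ℤ := [.ofNat 264536064, .ofNat 0, .negSucc 32767, .ofNat 2555904, .negSucc 215, .ofNat 432,
    .negSucc 3455, .ofNat 22464, .ofNat 0, .ofNat 0, .ofNat 0, .negSucc 511, .ofNat 14, .negSucc 23, .ofNat 0,
    .ofNat 0, .ofNat 0, .negSucc 7, .ofNat 0, .ofNat 0, .ofNat 0, .ofNat 64, .ofNat 192, .ofNat 0, .ofNat 0,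
    .ofNat 64, .negSucc 383, .negSucc 4, .ofNat 0, .ofNat 0, .ofNat 0, .ofNat 0, .negSucc 17, .ofNat 9,
    .ofNat 0, .ofNat 0, .ofNat 0, .ofNat 2, .ofNat 4, .ofNat 1, .ofNat 0, .ofNat 0, .ofNat 0, .ofNat 4,
    .ofNat 0, .ofNat 0, .ofNat 0, .ofNat 0, .ofNat 0, .ofNat 0, .ofNat 0, .ofNat 0, .ofNat 0, .ofNat 16,
    .negSucc 7, .ofNat 0, .negSucc 0, .ofNat 1, .negSucc 0, .ofNat 2, .ofNat 0, .negSucc 0, .ofNat 0, .ofNat 1,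
    .ofNat 0, .negSucc 2, .negSucc 1, .ofNat 0, .ofNat 0, .ofNat 0, .ofNat 0, .negSucc 1, .ofNat 1, .ofNat 1,
    .negSucc 0, .ofNat 0, .ofNat 0, .ofNat 0, .ofNat 0, .ofNat 0, .ofNat 0, .negSucc 0, .negSucc 0, .ofNat 1,
    .ofNat 0, .ofNat 0, .ofNat 1, .ofNat 0, .ofNat 0, .ofNat 1, .ofNat 1, .negSucc 95]

/-- a row -/
def r68 : List ℤ := [.ofNat 264536064, .ofNat 0, .negSucc 32767, .negSucc 2555903, .negSucc 215, .ofNat 432,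
    .negSucc 3455, .ofNat 22464, .ofNat 0, .ofNat 0, .ofNat 0, .ofNat 512, .ofNat 14, .ofNat 24, .ofNat 0,
    .ofNat 0, .ofNat 0, .negSucc 7, .ofNat 0, .ofNat 0, .ofNat 0, .ofNat 64, .negSucc 191, .ofNat 0, .ofNat 0,
    .ofNat 64, .ofNat 384, .negSucc 4, .ofNat 0, .ofNat 0, .ofNat 0, .ofNat 0, .negSucc 17, .ofNat 9, .ofNat 0,
    .ofNat 0, .ofNat 0, .ofNat 2, .negSucc 3, .ofNat 1, .ofNat 0, .ofNat 0, .ofNat 0, .negSucc 3, .ofNat 0,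
    .ofNat 0, .ofNat 0, .ofNat 0, .ofNat 0, .ofNat 0, .ofNat 0, .ofNat 0, .ofNat 0, .negSucc 15, .ofNat 8,
    .ofNat 0, .negSucc 0, .negSucc 0, .negSucc 0, .ofNat 2, .ofNat 0, .negSucc 0, .ofNat 0, .ofNat 1, .ofNat 0,
    .ofNat 3, .negSucc 1, .ofNat 0, .ofNat 0, .ofNat 0, .ofNat 0, .ofNat 2, .ofNat 1, .ofNat 1, .ofNat 1,
    .ofNat 0, .ofNat 0, .ofNat 0, .ofNat 0, .ofNat 0, .ofNat 0, .ofNat 1, .negSucc 0, .negSucc 0, .ofNat 0,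
    .ofNat 0, .negSucc 0, .ofNat 0, .ofNat 0, .negSucc 0, .negSucc 0, .ofNat 96]

/-- a row -/
def r69 : List ℤ := [.ofNat 286274560, .ofNat 1024, .ofNat 11264, .negSucc 2196479, .negSucc 67, .negSucc 1255,
    .negSucc 6655, .ofNat 7384, .ofNat 0, .negSucc 63, .ofNat 0, .negSucc 63, .ofNat 35, .ofNat 24, .ofNat 4,
    .negSucc 7, .ofNat 4, .negSucc 3, .ofNat 16, .ofNat 16, .negSucc 7, .ofNat 32, .ofNat 240, .ofNat 64,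
    .ofNat 64, .ofNat 104, .ofNat 456, .ofNat 5, .ofNat 0, .ofNat 0, .ofNat 0, .negSucc 1, .negSucc 4,
    .negSucc 4, .negSucc 4, .negSucc 13, .negSucc 0, .negSucc 0, .negSucc 4, .ofNat 0, .ofNat 0, .ofNat 2,
    .ofNat 0, .ofNat 2, .ofNat 0, .ofNat 0, .ofNat 0, .ofNat 0, .ofNat 0, .ofNat 0, .negSucc 3, .ofNat 0,
    .ofNat 0, .negSucc 3, .ofNat 8, .ofNat 0, .ofNat 1, .ofNat 1, .negSucc 0, .negSucc 0, .ofNat 0, .ofNat 0,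
    .ofNat 0, .negSucc 0, .ofNat 1, .negSucc 2, .negSucc 0, .negSucc 2, .ofNat 1, .negSucc 1, .ofNat 1,
    .ofNat 1, .negSucc 0, .ofNat 0, .ofNat 0, .ofNat 0, .ofNat 0, .ofNat 0, .ofNat 0, .ofNat 0, .ofNat 1,
    .negSucc 0, .negSucc 0, .ofNat 1, .negSucc 0, .ofNat 0, .negSucc 0, .ofNat 0, .ofNat 0, .ofNat 1, .ofNat 1,
    .ofNat 24]

/-- a row -/
def r70 : List ℤ := [.ofNat 287721720, .negSucc 1799, .ofNat 10296, .ofNat 2316600, .ofNat 0, .negSucc 1457,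
    .negSucc 4373, .ofNat 9477, .ofNat 24, .ofNat 40, .ofNat 72, .negSucc 119, .ofNat 20, .ofNat 0, .ofNat 0,
    .ofNat 0, .ofNat 0, .negSucc 17, .negSucc 17, .negSucc 17, .negSucc 26, .ofNat 90, .negSucc 161,
    .negSucc 53, .ofNat 0, .ofNat 117, .ofNat 405, .negSucc 0, .ofNat 0, .ofNat 4, .ofNat 4, .ofNat 0, .ofNat 0,
    .ofNat 0, .ofNat 0, .ofNat 0, .ofNat 0, .negSucc 3, .ofNat 0, .ofNat 0, .ofNat 0, .negSucc 1, .ofNat 0,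
    .ofNat 0, .ofNat 6, .negSucc 2, .negSucc 2, .ofNat 0, .ofNat 0, .ofNat 6, .ofNat 1, .negSucc 5, .ofNat 0,
    .negSucc 14, .ofNat 6, .ofNat 0, .negSucc 0, .negSucc 0, .ofNat 2, .ofNat 2, .ofNat 0, .ofNat 1, .ofNat 0,
    .ofNat 0, .ofNat 0, .ofNat 0, .ofNat 0, .ofNat 0, .ofNat 0, .ofNat 0, .ofNat 0, .ofNat 0, .negSucc 0,
    .ofNat 0, .ofNat 0, .ofNat 0, .ofNat 1, .ofNat 1, .ofNat 0, .ofNat 0, .ofNat 0, .negSucc 0, .ofNat 2,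
    .ofNat 0, .ofNat 0, .negSucc 0, .ofNat 0, .ofNat 0, .ofNat 0, .negSucc 0, .ofNat 0, .ofNat 0]

/-- a row -/
def r71 : List ℤ := [.ofNat 289103904, .ofNat 2592, .negSucc 7775, .ofNat 2729376, .ofNat 0, .ofNat 0, .ofNat 0,
    .ofNat 19683, .ofNat 0, .negSucc 23, .ofNat 0, .negSucc 215, .negSucc 20, .ofNat 0, .ofNat 0, .ofNat 0,
    .ofNat 0, .ofNat 0, .ofNat 0, .ofNat 0, .ofNat 27, .ofNat 0, .ofNat 0, .ofNat 0, .ofNat 0, .negSucc 80,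
    .negSucc 728, .ofNat 5, .ofNat 0, .negSucc 3, .ofNat 4, .ofNat 0, .ofNat 0, .ofNat 0, .ofNat 0, .ofNat 0,
    .negSucc 2, .negSucc 0, .ofNat 1, .ofNat 1, .ofNat 0, .ofNat 0, .ofNat 0, .ofNat 0, .ofNat 0, .negSucc 8,
    .ofNat 3, .ofNat 0, .ofNat 0, .ofNat 0, .negSucc 2, .ofNat 0, .ofNat 0, .ofNat 9, .ofNat 0, .negSucc 1,
    .ofNat 1, .negSucc 0, .ofNat 3, .ofNat 0, .ofNat 0, .ofNat 0, .ofNat 0, .ofNat 0, .ofNat 0, .ofNat 0,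
    .ofNat 0, .ofNat 0, .ofNat 0, .ofNat 0, .ofNat 1, .negSucc 0, .negSucc 0, .ofNat 1, .ofNat 1, .negSucc 0,
    .negSucc 0, .ofNat 1, .ofNat 0, .ofNat 0, .ofNat 0, .ofNat 1, .negSucc 0, .ofNat 1, .ofNat 0, .ofNat 0,
    .ofNat 0, .ofNat 0, .ofNat 1, .negSucc 0, .negSucc 0, .ofNat 0]

/-- a row -/
def r72 : List ℤ := [.ofNat 313112800, .negSucc 799, .negSucc 12319, .negSucc 800799, .negSucc 70, .negSucc 799,
    .ofNat 13132, .negSucc 7279, .ofNat 32, .ofNat 0, .ofNat 96, .ofNat 0, .ofNat 0, .negSucc 60, .ofNat 1,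
    .negSucc 4, .ofNat 4, .negSucc 7, .negSucc 7, .ofNat 16, .ofNat 16, .ofNat 100, .ofNat 128, .negSucc 67,
    .negSucc 139, .negSucc 79, .ofNat 560, .ofNat 0, .ofNat 0, .ofNat 0, .ofNat 0, .ofNat 1, .ofNat 1,
    .ofNat 10, .ofNat 1, .ofNat 10, .ofNat 0, .ofNat 0, .ofNat 0, .ofNat 0, .negSucc 0, .ofNat 0, .negSucc 3,
    .ofNat 0, .ofNat 0, .ofNat 0, .ofNat 0, .negSucc 2, .ofNat 2, .negSucc 3, .ofNat 0, .ofNat 12, .ofNat 6,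
    .ofNat 0, .ofNat 0, .ofNat 0, .ofNat 0, .ofNat 0, .ofNat 0, .ofNat 0, .ofNat 0, .ofNat 0, .negSucc 0,
    .negSucc 1, .ofNat 1, .ofNat 2, .ofNat 1, .negSucc 6, .ofNat 1, .negSucc 1, .ofNat 0, .ofNat 0, .ofNat 0,
    .ofNat 0, .ofNat 0, .ofNat 0, .ofNat 0, .ofNat 0, .ofNat 0, .ofNat 0, .ofNat 1, .ofNat 0, .ofNat 0,
    .ofNat 0, .ofNat 0, .ofNat 0, .ofNat 0, .ofNat 0, .ofNat 0, .ofNat 0, .ofNat 0, .ofNat 20]

/-- a row -/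
def r73 : List ℤ := [.ofNat 313112800, .negSucc 799, .negSucc 12319, .negSucc 800799, .ofNat 10, .ofNat 10,
    .negSucc 4363, .negSucc 7279, .ofNat 32, .ofNat 0, .ofNat 96, .ofNat 0, .ofNat 0, .ofNat 20, .negSucc 1,
    .negSucc 7, .ofNat 22, .negSucc 25, .negSucc 7, .negSucc 13, .ofNat 16, .negSucc 115, .ofNat 128,
    .ofNat 100, .ofNat 10, .negSucc 79, .ofNat 560, .ofNat 0, .ofNat 0, .ofNat 0, .ofNat 0, .ofNat 1, .ofNat 10,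
    .ofNat 10, .ofNat 10, .ofNat 10, .ofNat 0, .ofNat 0, .ofNat 0, .ofNat 0, .ofNat 2, .ofNat 0, .ofNat 2,
    .ofNat 0, .negSucc 5, .ofNat 0, .ofNat 0, .ofNat 0, .ofNat 2, .negSucc 3, .ofNat 0, .negSucc 11, .ofNat 6,
    .ofNat 0, .ofNat 0, .ofNat 0, .ofNat 0, .ofNat 0, .ofNat 0, .ofNat 0, .ofNat 0, .ofNat 0, .negSucc 0,
    .negSucc 1, .negSucc 1, .ofNat 2, .negSucc 1, .ofNat 2, .negSucc 1, .negSucc 1, .ofNat 0, .ofNat 0,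
    .ofNat 0, .ofNat 0, .ofNat 0, .ofNat 0, .ofNat 0, .ofNat 0, .ofNat 0, .ofNat 0, .ofNat 1, .ofNat 0,
    .ofNat 0, .ofNat 0, .ofNat 0, .ofNat 0, .ofNat 0, .ofNat 0, .ofNat 0, .ofNat 0, .ofNat 0, .negSucc 141]

/-- a row -/
def r74 : List ℤ := [.ofNat 313112800, .ofNat 1760, .ofNat 36960, .ofNat 2402400, .ofNat 64, .negSucc 1339,
    .negSucc 1447, .ofNat 5005, .ofNat 0, .negSucc 39, .negSucc 63, .ofNat 280, .ofNat 0, .negSucc 5,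
    .negSucc 3, .ofNat 14, .negSucc 3, .ofNat 24, .ofNat 32, .negSucc 3, .ofNat 5, .ofNat 24, .negSucc 383,
    .negSucc 39, .negSucc 39, .ofNat 105, .negSucc 734, .ofNat 0, .ofNat 0, .ofNat 4, .negSucc 3, .negSucc 1,
    .ofNat 1, .ofNat 1, .ofNat 1, .negSucc 16, .ofNat 0, .ofNat 0, .ofNat 0, .ofNat 0, .ofNat 0, .ofNat 2,
    .ofNat 0, .negSucc 1, .negSucc 3, .negSucc 6, .ofNat 5, .ofNat 2, .ofNat 0, .ofNat 0, .negSucc 0, .ofNat 8,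
    .ofNat 8, .negSucc 4, .negSucc 7, .ofNat 0, .ofNat 0, .ofNat 0, .ofNat 0, .ofNat 0, .ofNat 0, .ofNat 0,
    .ofNat 0, .negSucc 2, .negSucc 0, .ofNat 3, .negSucc 2, .ofNat 3, .negSucc 0, .negSucc 0, .ofNat 0,
    .ofNat 0, .ofNat 0, .ofNat 0, .ofNat 0, .ofNat 0, .ofNat 1, .negSucc 0, .ofNat 0, .ofNat 0, .ofNat 1,
    .ofNat 0, .ofNat 0, .ofNat 0, .ofNat 0, .ofNat 0, .ofNat 1, .negSucc 0, .ofNat 0, .ofNat 0, .ofNat 0,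
    .ofNat 48]

/-- a row -/
def r75 : List ℤ := [.ofNat 322058880, .ofNat 640, .ofNat 88704, .ofNat 1372800, .negSucc 35, .ofNat 288,
    .negSucc 7487, .negSucc 15911, .ofNat 0, .ofNat 0, .ofNat 0, .ofNat 0, .negSucc 19, .ofNat 12, .ofNat 4,
    .ofNat 4, .negSucc 7, .ofNat 0, .negSucc 7, .negSucc 31, .negSucc 7, .ofNat 144, .negSucc 311, .negSucc 31,
    .ofNat 40, .negSucc 71, .ofNat 1560, .negSucc 3, .ofNat 0, .ofNat 0, .ofNat 0, .ofNat 0, .negSucc 8,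
    .ofNat 0, .ofNat 9, .ofNat 18, .ofNat 0, .ofNat 4, .ofNat 0, .ofNat 0, .ofNat 0, .ofNat 0, .ofNat 0,
    .ofNat 0, .ofNat 0, .ofNat 0, .ofNat 0, .ofNat 0, .ofNat 0, .ofNat 0, .ofNat 0, .ofNat 0, .ofNat 0,
    .ofNat 0, .ofNat 0, .ofNat 0, .ofNat 0, .ofNat 2, .negSucc 1, .negSucc 1, .ofNat 0, .ofNat 0, .ofNat 0,
    .ofNat 0, .ofNat 1, .ofNat 0, .ofNat 3, .negSucc 2, .ofNat 1, .negSucc 1, .ofNat 0, .ofNat 0, .negSucc 0,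
    .ofNat 0, .ofNat 0, .ofNat 0, .ofNat 0, .ofNat 0, .ofNat 0, .ofNat 0, .ofNat 0, .ofNat 0, .negSucc 1,
    .ofNat 0, .ofNat 0, .ofNat 1, .ofNat 0, .ofNat 0, .ofNat 0, .negSucc 0, .ofNat 0, .negSucc 23]

/-- a row -/
def r76 : List ℤ := [.ofNat 336061440, .negSucc 3071, .ofNat 11264, .negSucc 2196479, .ofNat 216, .negSucc 1079,
    .negSucc 1727, .ofNat 2808, .ofNat 0, .ofNat 64, .ofNat 0, .ofNat 64, .ofNat 15, .ofNat 24, .ofNat 0,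
    .ofNat 0, .negSucc 11, .negSucc 3, .negSucc 47, .ofNat 0, .ofNat 24, .ofNat 32, .ofNat 240, .ofNat 0,
    .ofNat 0, .ofNat 104, .ofNat 456, .ofNat 1, .ofNat 0, .ofNat 0, .ofNat 0, .ofNat 0, .negSucc 8, .negSucc 8,
    .ofNat 0, .ofNat 0, .ofNat 3, .negSucc 0, .negSucc 4, .ofNat 0, .ofNat 0, .negSucc 1, .ofNat 0, .negSucc 1,
    .ofNat 0, .ofNat 0, .ofNat 0, .ofNat 0, .ofNat 0, .ofNat 0, .ofNat 4, .ofNat 0, .ofNat 0, .ofNat 4,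
    .negSucc 7, .ofNat 0, .ofNat 1, .ofNat 1, .ofNat 3, .ofNat 0, .ofNat 0, .ofNat 0, .ofNat 0, .negSucc 0,
    .negSucc 2, .negSucc 2, .negSucc 0, .negSucc 2, .ofNat 0, .ofNat 0, .negSucc 0, .negSucc 0, .ofNat 1,
    .ofNat 0, .ofNat 0, .negSucc 0, .ofNat 0, .ofNat 0, .ofNat 0, .ofNat 0, .ofNat 0, .ofNat 1, .negSucc 0,
    .ofNat 1, .ofNat 0, .ofNat 1, .ofNat 1, .ofNat 0, .ofNat 0, .ofNat 1, .negSucc 0, .ofNat 24]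

/-- a row -/
def r77 : List ℤ := [.ofNat 341577600, .ofNat 1920, .negSucc 31359, .negSucc 2038399, .ofNat 114, .negSucc 1019,
    .ofNat 3192, .ofNat 5460, .ofNat 0, .ofNat 0, .ofNat 128, .ofNat 0, .ofNat 0, .negSucc 7, .negSucc 5,
    .ofNat 0, .ofNat 0, .negSucc 3, .ofNat 48, .negSucc 11, .negSucc 11, .negSucc 39, .ofNat 208, .negSucc 71,
    .ofNat 0, .negSucc 219, .ofNat 1540, .ofNat 0, .ofNat 0, .ofNat 0, .ofNat 0, .negSucc 2, .ofNat 6, .ofNat 6,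
    .ofNat 6, .negSucc 20, .ofNat 0, .ofNat 0, .ofNat 0, .ofNat 1, .ofNat 0, .ofNat 0, .ofNat 0, .ofNat 0,
    .negSucc 3, .negSucc 3, .negSucc 3, .ofNat 2, .ofNat 0, .ofNat 0, .ofNat 0, .ofNat 8, .negSucc 15, .ofNat 0,
    .ofNat 0, .ofNat 0, .ofNat 0, .ofNat 0, .ofNat 0, .ofNat 0, .ofNat 0, .ofNat 0, .ofNat 1, .ofNat 2,
    .ofNat 0, .negSucc 1, .ofNat 2, .ofNat 4, .ofNat 0, .ofNat 3, .ofNat 0, .ofNat 0, .ofNat 0, .ofNat 1,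
    .negSucc 0, .ofNat 0, .ofNat 0, .ofNat 0, .ofNat 0, .ofNat 0, .ofNat 0, .ofNat 0, .ofNat 0, .ofNat 0,
    .ofNat 0, .ofNat 0, .ofNat 0, .negSucc 0, .ofNat 0, .ofNat 0, .ofNat 0, .ofNat 64]

/-- a row -/
def r78 : List ℤ := [.ofNat 343529472, .negSucc 2047, .negSucc 22527, .ofNat 2050048, .ofNat 156, .negSucc 383,
    .ofNat 1344, .ofNat 4368, .ofNat 0, .ofNat 0, .ofNat 0, .ofNat 0, .ofNat 22, .negSucc 7, .ofNat 4,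
    .negSucc 7, .negSucc 7, .ofNat 8, .negSucc 31, .ofNat 16, .ofNat 16, .negSucc 63, .negSucc 223, .ofNat 64,
    .ofNat 64, .negSucc 207, .negSucc 1231, .ofNat 6, .ofNat 0, .ofNat 0, .ofNat 0, .negSucc 2, .negSucc 5,
    .negSucc 5, .ofNat 3, .negSucc 5, .ofNat 2, .ofNat 2, .negSucc 1, .ofNat 0, .ofNat 0, .ofNat 0, .ofNat 0,
    .ofNat 0, .ofNat 0, .ofNat 0, .ofNat 0, .ofNat 0, .ofNat 0, .ofNat 0, .ofNat 0, .ofNat 0, .ofNat 0,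
    .ofNat 0, .ofNat 0, .ofNat 0, .negSucc 1, .ofNat 0, .negSucc 1, .ofNat 1, .ofNat 0, .ofNat 0, .ofNat 1,
    .ofNat 2, .negSucc 1, .ofNat 4, .ofNat 2, .negSucc 1, .ofNat 1, .negSucc 1, .ofNat 0, .ofNat 0, .ofNat 0,
    .ofNat 0, .ofNat 0, .ofNat 0, .ofNat 0, .ofNat 0, .ofNat 0, .ofNat 0, .ofNat 0, .ofNat 0, .ofNat 2,
    .negSucc 1, .negSucc 0, .ofNat 1, .ofNat 0, .ofNat 0, .ofNat 0, .ofNat 0, .ofNat 0, .negSucc 79]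

/-- a row -/
def r79 : List ℤ := [.ofNat 352251900, .negSucc 6659, .ofNat 23100, .ofNat 1501500, .negSucc 89, .negSucc 89,
    .ofNat 7119, .negSucc 8189, .negSucc 3, .negSucc 19, .negSucc 19, .ofNat 140, .ofNat 0, .ofNat 30, .ofNat 6,
    .ofNat 6, .ofNat 18, .ofNat 6, .ofNat 63, .ofNat 6, .ofNat 18, .ofNat 15, .negSucc 320, .ofNat 15,
    .negSucc 29, .negSucc 29, .ofNat 210, .ofNat 0, .negSucc 3, .ofNat 0, .ofNat 0, .ofNat 0, .ofNat 0,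
    .negSucc 8, .ofNat 0, .negSucc 8, .ofNat 0, .ofNat 0, .ofNat 0, .ofNat 0, .ofNat 2, .negSucc 1, .ofNat 2,
    .ofNat 2, .negSucc 1, .negSucc 1, .negSucc 1, .negSucc 1, .negSucc 0, .negSucc 0, .negSucc 1, .ofNat 7,
    .ofNat 7, .negSucc 9, .negSucc 12, .ofNat 0, .ofNat 0, .ofNat 0, .ofNat 0, .ofNat 0, .ofNat 0, .ofNat 0,
    .ofNat 0, .ofNat 3, .ofNat 0, .negSucc 2, .ofNat 0, .ofNat 0, .ofNat 0, .ofNat 3, .ofNat 0, .ofNat 0,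
    .ofNat 0, .ofNat 0, .ofNat 0, .ofNat 0, .ofNat 0, .ofNat 0, .negSucc 0, .ofNat 0, .ofNat 0, .ofNat 0,
    .ofNat 0, .ofNat 0, .ofNat 0, .ofNat 0, .negSucc 0, .ofNat 1, .ofNat 0, .ofNat 0, .ofNat 0, .ofNat 66]

/-- a row -/
def r80 : List ℤ := [.ofNat 362316240, .ofNat 1488, .ofNat 27984, .ofNat 720720, .negSucc 161, .ofNat 810,
    .ofNat 4698, .negSucc 14741, .negSucc 47, .negSucc 15, .negSucc 143, .negSucc 335, .ofNat 15, .negSucc 17,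
    .negSucc 5, .negSucc 5, .ofNat 12, .negSucc 5, .ofNat 30, .negSucc 5, .negSucc 5, .negSucc 149, .negSucc 17,
    .negSucc 5, .negSucc 59, .negSucc 5, .ofNat 1386, .ofNat 6, .ofNat 0, .ofNat 0, .ofNat 0, .ofNat 0,
    .ofNat 0, .ofNat 0, .ofNat 0, .ofNat 0, .ofNat 3, .negSucc 0, .negSucc 4, .ofNat 0, .ofNat 0, .ofNat 2,
    .ofNat 0, .ofNat 0, .ofNat 6, .ofNat 6, .ofNat 6, .ofNat 0, .ofNat 0, .ofNat 6, .ofNat 2, .negSucc 5,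
    .ofNat 0, .negSucc 5, .ofNat 6, .ofNat 0, .negSucc 1, .ofNat 0, .ofNat 3, .ofNat 0, .ofNat 0, .ofNat 0,
    .ofNat 0, .ofNat 0, .ofNat 0, .ofNat 0, .ofNat 0, .ofNat 0, .ofNat 0, .ofNat 0, .negSucc 0, .negSucc 0,
    .ofNat 0, .ofNat 0, .ofNat 0, .ofNat 0, .ofNat 0, .ofNat 0, .ofNat 0, .ofNat 0, .ofNat 0, .ofNat 0,
    .negSucc 0, .ofNat 1, .ofNat 0, .ofNat 1, .ofNat 0, .ofNat 0, .ofNat 0, .ofNat 0, .negSucc 0, .ofNat 36]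

/-- a row -/
def r81 : List ℤ := [.ofNat 476702577, .ofNat 2673, .negSucc 75086, .ofNat 1791153, .ofNat 0, .ofNat 0,
    .ofNat 0, .ofNat 0, .negSucc 62, .ofNat 9, .ofNat 81, .negSucc 566, .ofNat 27, .ofNat 0, .ofNat 0, .ofNat 0,
    .ofNat 0, .ofNat 0, .ofNat 0, .ofNat 0, .ofNat 0, .ofNat 0, .ofNat 0, .ofNat 0, .ofNat 0, .ofNat 0,
    .ofNat 0, .negSucc 5, .negSucc 2, .negSucc 2, .negSucc 2, .ofNat 0, .ofNat 0, .ofNat 0, .ofNat 0, .ofNat 0,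
    .ofNat 3, .ofNat 3, .ofNat 3, .negSucc 0, .ofNat 0, .ofNat 0, .ofNat 0, .ofNat 0, .ofNat 0, .ofNat 0,
    .ofNat 0, .ofNat 0, .ofNat 0, .ofNat 0, .ofNat 0, .ofNat 0, .ofNat 0, .ofNat 0, .ofNat 0, .ofNat 0,
    .ofNat 2, .ofNat 0, .ofNat 0, .ofNat 0, .negSucc 0, .ofNat 1, .ofNat 0, .ofNat 0, .ofNat 0, .ofNat 0,
    .ofNat 0, .ofNat 0, .ofNat 0, .ofNat 0, .negSucc 0, .ofNat 3, .ofNat 0, .negSucc 0, .ofNat 1, .ofNat 0,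
    .ofNat 0, .ofNat 0, .ofNat 0, .ofNat 0, .ofNat 0, .ofNat 0, .ofNat 0, .ofNat 0, .ofNat 0, .negSucc 0,
    .ofNat 0, .ofNat 0, .ofNat 0, .ofNat 0, .ofNat 0, .ofNat 0]

/-- a row -/
def r82 : List ℤ := [.ofNat 496897335, .ofNat 567, .ofNat 18711, .ofNat 360855, .ofNat 0, .ofNat 0, .ofNat 0,
    .negSucc 19682, .negSucc 8, .ofNat 51, .negSucc 80, .negSucc 188, .negSucc 14, .ofNat 0, .ofNat 0, .ofNat 0,
    .ofNat 0, .ofNat 0, .ofNat 0, .ofNat 0, .negSucc 26, .ofNat 0, .ofNat 0, .ofNat 0, .ofNat 0, .ofNat 81,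
    .ofNat 729, .ofNat 4, .ofNat 3, .negSucc 4, .negSucc 0, .ofNat 0, .ofNat 0, .ofNat 0, .ofNat 0, .ofNat 0,
    .negSucc 2, .ofNat 1, .ofNat 5, .ofNat 0, .ofNat 0, .ofNat 0, .ofNat 0, .ofNat 0, .ofNat 0, .ofNat 9,
    .negSucc 2, .ofNat 0, .ofNat 0, .ofNat 0, .ofNat 3, .ofNat 0, .ofNat 0, .negSucc 8, .ofNat 0, .negSucc 0,
    .ofNat 0, .negSucc 1, .negSucc 2, .ofNat 0, .ofNat 1, .ofNat 0, .ofNat 0, .ofNat 0, .ofNat 0, .ofNat 0,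
    .ofNat 0, .ofNat 0, .ofNat 0, .ofNat 0, .ofNat 1, .ofNat 1, .ofNat 1, .ofNat 0, .ofNat 0, .negSucc 0,
    .ofNat 1, .negSucc 0, .ofNat 0, .ofNat 1, .ofNat 0, .ofNat 0, .ofNat 1, .negSucc 0, .ofNat 0, .negSucc 0,
    .ofNat 0, .ofNat 0, .negSucc 0, .ofNat 1, .ofNat 1, .ofNat 0]

/-- a row -/
def r83 : List ℤ := [.ofNat 526752072, .negSucc 2231, .negSucc 60983, .ofNat 648648, .ofNat 0, .ofNat 729,
    .negSucc 4373, .negSucc 10205, .negSucc 23, .ofNat 40, .ofNat 72, .ofNat 168, .negSucc 27, .ofNat 0,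
    .ofNat 0, .ofNat 0, .ofNat 9, .ofNat 9, .negSucc 17, .ofNat 9, .ofNat 18, .ofNat 90, .negSucc 161,
    .negSucc 53, .ofNat 81, .negSucc 125, .negSucc 1133, .ofNat 0, .ofNat 0, .ofNat 0, .ofNat 0, .ofNat 0,
    .ofNat 0, .ofNat 0, .ofNat 0, .ofNat 0, .negSucc 1, .negSucc 3, .negSucc 1, .ofNat 0, .ofNat 0, .ofNat 1,
    .negSucc 2, .negSucc 2, .negSucc 2, .ofNat 6, .ofNat 6, .ofNat 0, .ofNat 0, .ofNat 6, .negSucc 1,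
    .negSucc 5, .ofNat 0, .ofNat 6, .ofNat 6, .ofNat 2, .ofNat 0, .ofNat 0, .negSucc 0, .negSucc 0, .ofNat 0,
    .ofNat 0, .ofNat 0, .ofNat 0, .ofNat 0, .ofNat 0, .ofNat 0, .ofNat 0, .ofNat 0, .ofNat 0, .ofNat 0,
    .negSucc 1, .ofNat 0, .ofNat 0, .ofNat 0, .ofNat 0, .ofNat 0, .ofNat 0, .ofNat 0, .ofNat 0, .ofNat 0,
    .ofNat 0, .negSucc 0, .ofNat 1, .ofNat 1, .ofNat 0, .ofNat 0, .ofNat 0, .negSucc 0, .ofNat 0, .ofNat 1,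
    .ofNat 81]

/-- a row -/
def r84 : List ℤ := [.ofNat 528377850, .negSucc 2309, .negSucc 51589, .negSucc 150149, .negSucc 215, .ofNat 270,
    .ofNat 5211, .negSucc 12284, .ofNat 42, .ofNat 50, .ofNat 42, .ofNat 210, .ofNat 0, .ofNat 24, .ofNat 0,
    .ofNat 0, .negSucc 23, .negSucc 1, .ofNat 39, .negSucc 17, .ofNat 3, .negSucc 100, .negSucc 56, .ofNat 27,
    .ofNat 0, .ofNat 115, .negSucc 524, .ofNat 0, .negSucc 1, .ofNat 2, .ofNat 2, .ofNat 0, .ofNat 9,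
    .negSucc 17, .ofNat 0, .ofNat 0, .ofNat 0, .ofNat 0, .ofNat 0, .ofNat 0, .ofNat 0, .ofNat 2, .ofNat 0,
    .ofNat 0, .ofNat 6, .ofNat 3, .ofNat 3, .ofNat 0, .negSucc 2, .negSucc 8, .negSucc 0, .ofNat 3, .negSucc 2,
    .ofNat 15, .ofNat 3, .ofNat 0, .ofNat 0, .ofNat 0, .ofNat 0, .ofNat 0, .ofNat 0, .ofNat 0, .ofNat 0,
    .negSucc 1, .ofNat 3, .ofNat 0, .ofNat 1, .ofNat 3, .ofNat 0, .ofNat 0, .ofNat 0, .ofNat 0, .ofNat 0,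
    .ofNat 0, .ofNat 0, .ofNat 0, .negSucc 0, .negSucc 0, .ofNat 1, .ofNat 0, .ofNat 0, .ofNat 0, .ofNat 0,
    .ofNat 0, .ofNat 0, .ofNat 0, .ofNat 0, .ofNat 0, .ofNat 0, .ofNat 0, .ofNat 0, .negSucc 47]

/-- a row -/
def r85 : List ℤ := [.ofNat 559458900, .ofNat 1620, .negSucc 41579, .negSucc 2702699, .ofNat 0, .ofNat 1215,
    .negSucc 4130, .ofNat 0, .ofNat 52, .negSucc 59, .negSucc 155, .ofNat 420, .ofNat 0, .negSucc 53, .ofNat 0,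
    .ofNat 18, .ofNat 9, .ofNat 27, .negSucc 26, .negSucc 8, .ofNat 0, .negSucc 26, .ofNat 189, .ofNat 45,
    .ofNat 45, .ofNat 0, .ofNat 0, .ofNat 0, .negSucc 3, .ofNat 0, .ofNat 0, .ofNat 0, .ofNat 0, .ofNat 0,
    .ofNat 0, .ofNat 0, .ofNat 0, .ofNat 0, .ofNat 0, .ofNat 0, .negSucc 1, .negSucc 2, .ofNat 1, .ofNat 3,
    .ofNat 3, .ofNat 0, .ofNat 0, .ofNat 0, .ofNat 1, .ofNat 1, .ofNat 0, .negSucc 2, .negSucc 2, .ofNat 0,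
    .negSucc 2, .ofNat 0, .ofNat 0, .ofNat 0, .ofNat 0, .ofNat 0, .ofNat 0, .ofNat 1, .ofNat 0, .ofNat 0,
    .ofNat 0, .ofNat 0, .ofNat 0, .ofNat 0, .ofNat 0, .ofNat 0, .ofNat 0, .ofNat 0, .ofNat 0, .ofNat 0,
    .ofNat 0, .ofNat 0, .ofNat 0, .ofNat 0, .negSucc 0, .ofNat 0, .ofNat 0, .ofNat 0, .ofNat 0, .ofNat 0,
    .ofNat 0, .ofNat 0, .ofNat 0, .ofNat 0, .ofNat 0, .ofNat 0, .ofNat 0, .negSucc 26]

/-- a row -/
def r86 : List ℤ := [.ofNat 1674400, .ofNat 160, .negSucc 1119, .negSucc 72799, .negSucc 85, .negSucc 139,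
    .ofNat 616, .ofNat 3640, .negSucc 31, .ofNat 0, .ofNat 32, .ofNat 0, .ofNat 0, .ofNat 46, .ofNat 10,
    .negSucc 1, .ofNat 4, .negSucc 3, .ofNat 16, .ofNat 4, .negSucc 7, .negSucc 39, .negSucc 223, .negSucc 55,
    .negSucc 19, .negSucc 39, .ofNat 280, .ofNat 0, .ofNat 0, .ofNat 0, .ofNat 0, .negSucc 1, .negSucc 13,
    .ofNat 4, .negSucc 13, .ofNat 22, .ofNat 0, .ofNat 0, .ofNat 0, .ofNat 2, .negSucc 1, .ofNat 0, .ofNat 4,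
    .ofNat 0, .negSucc 3, .ofNat 8, .ofNat 8, .ofNat 2, .ofNat 4, .negSucc 7, .ofNat 0, .ofNat 8, .negSucc 3,
    .ofNat 0, .ofNat 0, .ofNat 0, .ofNat 0, .ofNat 0, .ofNat 0, .ofNat 0, .ofNat 0, .ofNat 2, .negSucc 1,
    .negSucc 3, .negSucc 1, .ofNat 4, .ofNat 2, .negSucc 1, .negSucc 1, .negSucc 1, .ofNat 0, .ofNat 0,
    .ofNat 0, .ofNat 2, .negSucc 1, .ofNat 0, .ofNat 0, .ofNat 0, .ofNat 0, .ofNat 0, .negSucc 1, .ofNat 0,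
    .ofNat 0, .ofNat 0, .ofNat 0, .ofNat 0, .ofNat 0, .ofNat 2, .ofNat 0, .ofNat 0, .ofNat 0, .ofNat 28]

/-- a row -/
def r87 : List ℤ := [.ofNat 1701700, .negSucc 699, .ofNat 1540, .ofNat 100100, .ofNat 52, .negSucc 109,
    .ofNat 214, .ofNat 6370, .ofNat 4, .negSucc 19, .negSucc 11, .ofNat 140, .ofNat 0, .negSucc 15, .negSucc 3,
    .ofNat 8, .ofNat 14, .ofNat 10, .ofNat 38, .ofNat 2, .negSucc 45, .negSucc 25, .ofNat 470, .negSucc 9,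
    .negSucc 9, .ofNat 10, .negSucc 69, .ofNat 0, .negSucc 3, .ofNat 4, .negSucc 3, .negSucc 1, .negSucc 1,
    .negSucc 1, .negSucc 1, .ofNat 52, .ofNat 0, .ofNat 0, .ofNat 0, .ofNat 0, .ofNat 4, .negSucc 1, .negSucc 1,
    .ofNat 2, .negSucc 5, .ofNat 18, .negSucc 5, .ofNat 0, .negSucc 1, .negSucc 1, .negSucc 1, .ofNat 6,
    .ofNat 6, .negSucc 9, .ofNat 14, .ofNat 0, .ofNat 0, .ofNat 0, .ofNat 0, .ofNat 0, .ofNat 0, .ofNat 0,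
    .ofNat 2, .negSucc 1, .ofNat 2, .ofNat 2, .negSucc 1, .ofNat 2, .ofNat 2, .negSucc 3, .ofNat 0, .ofNat 0,
    .ofNat 0, .ofNat 0, .ofNat 0, .negSucc 0, .negSucc 1, .ofNat 2, .ofNat 2, .ofNat 0, .negSucc 1, .ofNat 0,
    .ofNat 0, .ofNat 0, .ofNat 0, .ofNat 0, .ofNat 2, .ofNat 0, .ofNat 0, .ofNat 0, .ofNat 0, .ofNat 38]

/-- a row -/
def r88 : List ℤ := [.ofNat 18217472, .negSucc 1535, .negSucc 3583, .ofNat 512512, .ofNat 140, .ofNat 32,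
    .negSucc 1695, .ofNat 16016, .ofNat 0, .ofNat 0, .ofNat 0, .ofNat 0, .negSucc 27, .ofNat 52, .negSucc 11,
    .ofNat 12, .ofNat 0, .ofNat 16, .ofNat 48, .ofNat 0, .negSucc 47, .negSucc 127, .ofNat 592, .negSucc 95,
    .ofNat 48, .ofNat 16, .negSucc 559, .ofNat 0, .ofNat 0, .ofNat 0, .ofNat 0, .ofNat 2, .negSucc 3,
    .negSucc 3, .negSucc 3, .ofNat 32, .ofNat 4, .negSucc 3, .ofNat 12, .negSucc 1, .ofNat 0, .ofNat 0,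
    .ofNat 0, .ofNat 0, .ofNat 0, .ofNat 0, .ofNat 0, .ofNat 0, .ofNat 0, .ofNat 0, .ofNat 0, .ofNat 0,
    .ofNat 0, .ofNat 0, .ofNat 0, .ofNat 0, .ofNat 0, .ofNat 0, .negSucc 3, .ofNat 2, .ofNat 0, .ofNat 0,
    .negSucc 1, .ofNat 4, .ofNat 0, .ofNat 4, .ofNat 4, .negSucc 7, .ofNat 0, .ofNat 0, .ofNat 0, .ofNat 0,
    .ofNat 0, .ofNat 2, .ofNat 0, .ofNat 0, .ofNat 0, .ofNat 0, .ofNat 0, .ofNat 0, .ofNat 2, .ofNat 0,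
    .negSucc 3, .ofNat 0, .negSucc 1, .ofNat 0, .ofNat 0, .ofNat 0, .ofNat 0, .ofNat 0, .ofNat 0, .ofNat 16]

/-- a row -/
def r89 : List ℤ := [.ofNat 306028800, .negSucc 3839, .ofNat 98560, .negSucc 1478399, .ofNat 108, .ofNat 1080,
    .negSucc 11231, .negSucc 15119, .ofNat 0, .ofNat 0, .ofNat 0, .ofNat 0, .ofNat 0, .ofNat 12, .negSucc 11,
    .negSucc 11, .negSucc 23, .negSucc 7, .ofNat 48, .ofNat 24, .ofNat 48, .ofNat 64, .ofNat 336, .ofNat 96,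
    .negSucc 119, .negSucc 79, .negSucc 1679, .ofNat 0, .ofNat 0, .ofNat 0, .ofNat 0, .ofNat 0, .negSucc 17,
    .ofNat 36, .ofNat 0, .ofNat 0, .ofNat 0, .ofNat 0, .ofNat 0, .ofNat 0, .ofNat 0, .ofNat 0, .ofNat 0,
    .ofNat 0, .ofNat 0, .ofNat 0, .ofNat 0, .ofNat 0, .ofNat 0, .ofNat 0, .ofNat 0, .ofNat 0, .ofNat 0,
    .ofNat 0, .ofNat 0, .negSucc 0, .ofNat 0, .ofNat 0, .ofNat 0, .ofNat 0, .ofNat 0, .ofNat 2, .ofNat 0,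
    .ofNat 4, .ofNat 6, .ofNat 0, .negSucc 1, .ofNat 6, .ofNat 0, .ofNat 0, .ofNat 0, .ofNat 0, .ofNat 0,
    .ofNat 0, .ofNat 0, .ofNat 0, .ofNat 0, .ofNat 0, .ofNat 0, .negSucc 0, .ofNat 0, .ofNat 0, .ofNat 0,
    .ofNat 0, .ofNat 0, .ofNat 0, .ofNat 0, .ofNat 0, .negSucc 0, .ofNat 0, .ofNat 0, .negSucc 23]

/-- a row -/
def r90 : List ℤ := [.ofNat 578054400, .ofNat 6400, .ofNat 98560, .negSucc 1478399, .negSucc 371, .negSucc 1559,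
    .ofNat 9888, .negSucc 28559, .ofNat 0, .ofNat 0, .ofNat 0, .ofNat 0, .ofNat 0, .ofNat 12, .ofNat 4,
    .ofNat 4, .negSucc 7, .negSucc 7, .negSucc 79, .ofNat 40, .negSucc 79, .ofNat 64, .ofNat 336, .negSucc 31,
    .ofNat 40, .negSucc 79, .negSucc 1679, .ofNat 0, .ofNat 0, .ofNat 0, .ofNat 0, .ofNat 0, .ofNat 6,
    .negSucc 11, .ofNat 6, .ofNat 60, .ofNat 0, .ofNat 0, .ofNat 0, .ofNat 0, .ofNat 0, .ofNat 0, .ofNat 0,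
    .ofNat 0, .ofNat 0, .ofNat 0, .ofNat 0, .ofNat 0, .ofNat 0, .ofNat 0, .ofNat 0, .ofNat 0, .ofNat 0,
    .ofNat 0, .ofNat 0, .ofNat 1, .ofNat 0, .ofNat 0, .ofNat 0, .ofNat 0, .ofNat 0, .ofNat 0, .ofNat 0,
    .ofNat 4, .negSucc 1, .ofNat 0, .negSucc 1, .ofNat 6, .negSucc 1, .ofNat 4, .ofNat 0, .ofNat 0, .ofNat 0,
    .ofNat 0, .ofNat 0, .ofNat 0, .ofNat 0, .ofNat 0, .ofNat 0, .negSucc 0, .ofNat 0, .ofNat 0, .ofNat 0,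
    .ofNat 0, .ofNat 0, .ofNat 0, .ofNat 0, .ofNat 0, .ofNat 1, .ofNat 0, .ofNat 0, .negSucc 23]

/-- a row -/
def r91 : List ℤ := [.ofNat 1009254400, .ofNat 0, .ofNat 0, .ofNat 0, .ofNat 448, .negSucc 1279, .negSucc 8191,
    .negSucc 35839, .ofNat 0, .ofNat 0, .ofNat 0, .ofNat 0, .ofNat 0, .ofNat 0, .ofNat 0, .ofNat 0, .ofNat 0,
    .ofNat 0, .ofNat 0, .ofNat 0, .ofNat 0, .ofNat 0, .ofNat 0, .ofNat 0, .ofNat 0, .ofNat 0, .ofNat 0,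
    .ofNat 0, .ofNat 0, .ofNat 0, .ofNat 0, .ofNat 4, .ofNat 16, .ofNat 16, .negSucc 19, .ofNat 16, .ofNat 0,
    .ofNat 0, .ofNat 0, .ofNat 0, .ofNat 0, .ofNat 0, .ofNat 0, .ofNat 0, .ofNat 0, .ofNat 0, .ofNat 0,
    .ofNat 0, .ofNat 0, .ofNat 0, .ofNat 0, .ofNat 0, .ofNat 0, .ofNat 0, .ofNat 0, .negSucc 1, .ofNat 0,
    .ofNat 0, .ofNat 0, .ofNat 0, .ofNat 0, .negSucc 1, .ofNat 0, .ofNat 0, .ofNat 0, .ofNat 0, .ofNat 0,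
    .ofNat 0, .ofNat 0, .ofNat 0, .ofNat 0, .ofNat 0, .ofNat 0, .ofNat 0, .ofNat 0, .ofNat 2, .ofNat 0,
    .ofNat 0, .ofNat 0, .ofNat 0, .negSucc 1, .ofNat 0, .ofNat 0, .ofNat 0, .ofNat 0, .ofNat 0, .ofNat 0,
    .ofNat 0, .ofNat 1, .ofNat 0, .ofNat 0, .ofNat 0]

/-- 86 irreducible characters and 6 sums of two conjugate characters -/
def rows : List (List ℤ) := [r0, r1, r2, r3, r4, r5, r6, r7, r8, r9, r10, r11, r12, r13, r14, r15, r16, r17,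
    r18, r19, r20, r21, r22, r23, r24, r25, r26, r27, r28, r29, r30, r31, r32, r33, r34, r35, r36, r37, r38,
    r39, r40, r41, r42, r43, r44, r45, r46, r47, r48, r49, r50, r51, r52, r53, r54, r55, r56, r57, r58, r59,
    r60, r61, r62, r63, r64, r65, r66, r67, r68, r69, r70, r71, r72, r73, r74, r75, r76, r77, r78, r79, r80,
    r81, r82, r83, r84, r85, r86, r87, r88, r89, r90, r91]

/-- the norms -/
def nm : List ℕ := [1, 1, 1, 1, 1, 1, 1, 1, 1, 1, 1, 1, 1, 1, 1, 1, 1, 1, 1, 1, 1, 1, 1, 1, 1, 1, 1, 1, 1, 1, 1,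
    1, 1, 1, 1, 1, 1, 1, 1, 1, 1, 1, 1, 1, 1, 1, 1, 1, 1, 1, 1, 1, 1, 1, 1, 1, 1, 1, 1, 1, 1, 1, 1, 1, 1, 1, 1,
    1, 1, 1, 1, 1, 1, 1, 1, 1, 1, 1, 1, 1, 1, 1, 1, 1, 1, 1, 2, 2, 2, 2, 2, 2]

/-- the degrees of the 98 irreducible characters -/
def degs : List ℕ := [1, 782, 3588, 5083, 25806, 30888, 60996, 106743, 111826, 274482, 279565, 752675, 789360,
    812889, 837200, 837200, 850850, 850850, 1677390, 1951872, 2236520, 2322540, 3913910, 5533110, 6709560,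
    7468032, 8783424, 9108736, 9108736, 10567557, 10674300, 12077208, 15096510, 17892160, 18812574, 20322225,
    21135114, 21348600, 22644765, 26838240, 28464800, 29354325, 35225190, 37573536, 40840800, 42270228,
    48034350, 48308832, 55740960, 56360304, 56360304, 57254912, 58708650, 58708650, 65875680, 73531392,
    73531392, 78278200, 93933840, 97976320, 133398252, 153014400, 153014400, 166559744, 166559744, 176125950,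
    176125950, 203802885, 207793431, 211351140, 216154575, 216770400, 244563462, 263376036, 264188925,
    264536064, 264536064, 286274560, 287721720, 289027200, 289027200, 289103904, 313112800, 313112800,
    313112800, 322058880, 336061440, 341577600, 343529472, 352251900, 362316240, 476702577, 496897335,
    504627200, 504627200, 526752072, 528377850, 559458900]

/-- the constituents of the rows -/
def cs : List (List (ℕ × ℤ)) := [[(0, 1)], [(1, 1)], [(2, 1)], [(3, 1)], [(4, 1)], [(5, 1)], [(6, 1)], [(7, 1)],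
    [(8, 1)], [(9, 1)], [(10, 1)], [(11, 1)], [(12, 1)], [(13, 1)], [(18, 1)], [(19, 1)], [(20, 1)], [(21, 1)],
    [(22, 1)], [(23, 1)], [(24, 1)], [(25, 1)], [(26, 1)], [(29, 1)], [(30, 1)], [(31, 1)], [(32, 1)], [(33,
    1)], [(34, 1)], [(35, 1)], [(36, 1)], [(37, 1)], [(38, 1)], [(39, 1)], [(40, 1)], [(41, 1)], [(42, 1)],
    [(43, 1)], [(44, 1)], [(45, 1)], [(46, 1)], [(47, 1)], [(48, 1)], [(49, 1)], [(50, 1)], [(51, 1)], [(52,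
    1)], [(53, 1)], [(54, 1)], [(55, 1)], [(56, 1)], [(57, 1)], [(58, 1)], [(59, 1)], [(60, 1)], [(63, 1)],
    [(64, 1)], [(65, 1)], [(66, 1)], [(67, 1)], [(68, 1)], [(69, 1)], [(70, 1)], [(71, 1)], [(72, 1)], [(73,
    1)], [(74, 1)], [(75, 1)], [(76, 1)], [(77, 1)], [(78, 1)], [(81, 1)], [(82, 1)], [(83, 1)], [(84, 1)],
    [(85, 1)], [(86, 1)], [(87, 1)], [(88, 1)], [(89, 1)], [(90, 1)], [(91, 1)], [(92, 1)], [(95, 1)], [(96,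
    1)], [(97, 1)], [(14, 1), (15, 1)], [(16, 1), (17, 1)], [(27, 1), (28, 1)], [(61, 1), (62, 1)], [(79, 1),
    (80, 1)], [(93, 1), (94, 1)]]

/-- the table -/
def R : Rows := ⟨degs, List.zip cs rows⟩

/-- the primes and the nontrivial sections -/
def PL : List (ℕ × ℕ × List ℕ) := [(2, 18, [0, 4, 5, 6, 7, 12, 27, 31, 32, 33, 34, 35, 39, 55, 58, 59, 72]), (3,
    13, [0, 1, 2, 3, 8, 9, 10, 11, 12, 27, 28, 29, 30, 36, 37, 38, 55, 57, 71]), (5, 2, [0, 1, 2, 3, 5, 7, 9,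
    11, 24, 25, 26, 27, 53]), (7, 1, [0, 2, 3, 7, 11, 12, 26]), (11, 1, [0, 2, 3]), (13, 1, [0, 3, 7]), (17, 1,
    [0]), (23, 1, [0])]

/-- the prime powers -/
def PP : List (ℕ × ℕ) := [(2, 18), (3, 13), (5, 2), (7, 1), (11, 1), (13, 1), (17, 1), (23, 1)]

theorem len : D.cntL.length = D.n := by decide +kernel

theorem cnt_pos : ∀ i < D.n, 0 < D.cnt i := by decide +kernel

theorem okPL : okPrimes D PL = true := by decide +kernel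

theorem orth : Orth D rows nm := orth_of_gramB len (by decide +kernel)

theorem okTab : Sm1.okR D R = true := by decide +kernel

theorem okVan : vanB D R PP 4 39 75 = true := by decide +kernel

theorem okOdd : ((List.range R.n).all fun j => R.d j % 2 == 0 || fixB R [] j) = true := by decide +kernel

end Cfsg.Agent.TAB.F23
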