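import Cfsg.Agent.TAB.F23.G1

/-!
# `Fi₂₃` : all the rows are virtual (helper12, TAB; generated by `notes/TAB/F23/gen.py.txt`)
-/

set_option autoImplicit false
set_option maxRecDepth 100000

namespace Cfsg.Agent.TAB.F23

open Cfsg Cfsg.Agent.TAB.Eng Cfsg.Agent.TAB.Use Cfsg.Agent.TAB.Glue

/-- the rows which are used as seeds -/
def ix2 : List ℕ := [1, 2, 3, 4, 5, 22]

/-- a seed -/
def s2_0 : List ℤ := [.negSucc 38574264190175, .ofNat 4225824, .negSucc 62702815, .negSucc 53452260575,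
    .negSucc 1484, .negSucc 23435, .negSucc 93095, .negSucc 71204210, .ofNat 288, .ofNat 5664, .ofNat 288,
    .negSucc 117215, .negSucc 0, .negSucc 44, .negSucc 44, .negSucc 44, .negSucc 179, .negSucc 499, .ofNat 216,
    .negSucc 107, .ofNat 5517, .negSucc 2983, .negSucc 73511, .negSucc 935, .negSucc 395, .ofNat 5629,
    .ofNat 5949, .negSucc 0, .ofNat 0, .ofNat 0, .ofNat 0, .ofNat 0, .negSucc 35, .negSucc 35, .ofNat 0,
    .ofNat 0, .negSucc 0, .negSucc 0, .negSucc 0, .ofNat 0, .ofNat 3, .ofNat 12, .ofNat 0, .ofNat 12, .ofNat 0,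
    .negSucc 146, .negSucc 2, .ofNat 3, .ofNat 0, .ofNat 24, .negSucc 14, .ofNat 24, .ofNat 0, .negSucc 110,
    .negSucc 71, .ofNat 0, .negSucc 0, .negSucc 0, .negSucc 0, .negSucc 0, .ofNat 0, .ofNat 0, .ofNat 0,
    .ofNat 4, .ofNat 0, .ofNat 0, .ofNat 4, .ofNat 0, .ofNat 0, .ofNat 0, .negSucc 0, .negSucc 0, .negSucc 0,
    .ofNat 0, .ofNat 0, .ofNat 0, .ofNat 9, .negSucc 2, .ofNat 0, .ofNat 0, .ofNat 0, .negSucc 0, .negSucc 0,
    .negSucc 0, .negSucc 0, .negSucc 0, .ofNat 0, .ofNat 0, .ofNat 0, .negSucc 0, .negSucc 0, .negSucc 1259]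

/-- a seed -/
def s2_1 : List ℤ := [.negSucc 30403554382577375, .ofNat 16570656, .negSucc 2350595807, .negSucc 2664883574495,
    .ofNat 0, .ofNat 0, .negSucc 20155391, .ofNat 0, .ofNat 2592, .ofNat 10944, .negSucc 7775, .negSucc 191807,
    .negSucc 350, .ofNat 0, .ofNat 0, .ofNat 0, .ofNat 0, .ofNat 0, .ofNat 0, .ofNat 0, .ofNat 0, .ofNat 13824,
    .ofNat 0, .ofNat 0, .ofNat 0, .ofNat 0, .ofNat 0, .negSucc 20, .ofNat 0, .ofNat 72, .negSucc 23, .ofNat 0,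
    .ofNat 0, .ofNat 0, .ofNat 0, .ofNat 0, .negSucc 8, .negSucc 2, .negSucc 20, .ofNat 0, .ofNat 0, .ofNat 0,
    .ofNat 0, .ofNat 0, .ofNat 0, .ofNat 0, .ofNat 0, .ofNat 0, .ofNat 0, .ofNat 0, .ofNat 0, .ofNat 0,
    .ofNat 0, .ofNat 0, .ofNat 0, .ofNat 0, .negSucc 0, .negSucc 2, .ofNat 0, .ofNat 0, .ofNat 0, .ofNat 0,
    .ofNat 0, .ofNat 0, .ofNat 0, .ofNat 0, .ofNat 0, .ofNat 0, .ofNat 0, .ofNat 0, .negSucc 0, .negSucc 2,
    .ofNat 0, .ofNat 0, .ofNat 0, .ofNat 0, .ofNat 0, .ofNat 0, .ofNat 0, .ofNat 0, .ofNat 0, .negSucc 0,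
    .ofNat 0, .ofNat 0, .ofNat 0, .negSucc 0, .ofNat 0, .ofNat 0, .ofNat 0, .ofNat 0, .ofNat 0, .ofNat 0]

/-- the program for the seeds -/
def slp2 : List (List ℤ × Sm1.Op) := [(s2_0, .del 5 2), (s2_1, .coad 30 3)]

/-- the seeds -/
noncomputable def seeds2 : List (List ℤ) := (ix2.map (ntd rows []) ++ seeds1) ++ slp2.map Prod.fst

theorem ok_slp2 : Sm1.chkSlp D true slp2 (ix2.map (ntd rows []) ++ seeds1) = true := by decide +kernel

/-- the levels -/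
def lv2 : List Lv := [⟨0, 2, 1, [], true⟩, ⟨1, 2, 1, [], true⟩, ⟨2, 2, 1, [], true⟩, ⟨3, 2, 1, [], true⟩, ⟨4, 2,
    1, [], true⟩, ⟨5, 2, 1, [], true⟩, ⟨6, 2, 1, [], true⟩, ⟨9, 2, 1, [], true⟩, ⟨10, 2, 1, [], true⟩, ⟨12, 2,
    1, [], true⟩, ⟨13, 2, 1, [], true⟩, ⟨15, 2, 1, [], true⟩, ⟨16, 2, 1, [], true⟩, ⟨17, 2, 1, [], true⟩, ⟨18,
    2, 1, [], true⟩, ⟨19, 2, 1, [], true⟩, ⟨20, 2, 1, [], true⟩, ⟨21, 2, 1, [], true⟩, ⟨22, 2, 1, [], true⟩,
    ⟨23, 2, 1, [], true⟩, ⟨24, 2, 1, [], true⟩, ⟨25, 2, 1, [], true⟩, ⟨26, 2, 1, [], true⟩, ⟨27, 2, 1, [],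
    true⟩, ⟨28, 2, 1, [], true⟩, ⟨31, 2, 1, [], true⟩, ⟨35, 2, 1, [], true⟩, ⟨36, 2, 1, [], true⟩, ⟨39, 2, 1,
    [], true⟩, ⟨40, 2, 1, [], true⟩, ⟨43, 2, 1, [], true⟩, ⟨44, 2, 1, [], true⟩, ⟨45, 2, 1, [], true⟩, ⟨46, 2,
    1, [], true⟩, ⟨48, 2, 1, [], true⟩, ⟨49, 2, 1, [], true⟩, ⟨50, 2, 1, [], true⟩, ⟨51, 2, 1, [], true⟩, ⟨52,
    2, 1, [], true⟩, ⟨53, 2, 1, [], true⟩, ⟨54, 2, 1, [], true⟩, ⟨55, 2, 1, [], true⟩, ⟨56, 2, 1, [], true⟩,
    ⟨61, 2, 1, [], true⟩, ⟨62, 2, 1, [], true⟩, ⟨63, 2, 1, [], true⟩, ⟨64, 2, 1, [], true⟩, ⟨65, 2, 1, [],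
    true⟩, ⟨67, 2, 1, [], true⟩, ⟨68, 2, 1, [], true⟩, ⟨69, 2, 1, [], true⟩, ⟨70, 2, 1, [], true⟩, ⟨72, 2, 1,
    [], true⟩, ⟨73, 2, 1, [], true⟩, ⟨75, 2, 1, [], true⟩, ⟨76, 2, 1, [], true⟩, ⟨77, 2, 1, [], true⟩, ⟨78, 2,
    1, [], true⟩, ⟨79, 2, 1, [], true⟩, ⟨80, 2, 1, [], true⟩, ⟨81, 2, 1, [], true⟩, ⟨83, 2, 1, [], true⟩, ⟨84,
    2, 1, [], true⟩, ⟨85, 2, 1, [], true⟩, ⟨86, 1, 1, [], true⟩, ⟨88, 1, 1, [], true⟩, ⟨89, 1, 1, [], true⟩,
    ⟨90, 1, 1, [], true⟩, ⟨91, 1, 1, [], true⟩, ⟨7, 2, 8, [], true⟩, ⟨8, 2, 1, [1], true⟩, ⟨11, 2, 1, [7],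
    true⟩, ⟨14, 2, 1, [1], true⟩, ⟨29, 2, 1, [7], true⟩, ⟨30, 2, 1, [7], true⟩, ⟨32, 2, 1, [7], true⟩, ⟨47, 2,
    1, [1], true⟩, ⟨57, 2, 1, [1], true⟩, ⟨58, 2, 1, [1], true⟩, ⟨59, 2, 1, [1], true⟩, ⟨60, 2, 1, [1], true⟩,
    ⟨66, 2, 1, [7], true⟩, ⟨82, 2, 1, [7], true⟩, ⟨87, 1, 1, [2], true⟩, ⟨33, 2, 2, [4], true⟩, ⟨34, 2, 1, [1,
    0], true⟩, ⟨37, 2, 1, [1, 0], true⟩, ⟨38, 2, 1, [1, 0], true⟩, ⟨41, 2, 1, [1, 4], true⟩, ⟨42, 2, 1, [1, 4],
    true⟩, ⟨71, 2, 1, [1, 4], true⟩, ⟨74, 2, 1, [1, 0], true⟩]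

/-- certificates -/
def c2_2_0 : ℕ × ℕ × List Cert := (2, 18, [⟨0, [.one, .gen 0 1 0, .mul 0 0, .mul 1 0, .gen 1 1 0, .mul 3 0, .mul
    1 1, .gen 2 1 0, .mul 6 0, .gen 3 1 0, .mul 8 0, .gen 4 1 0, .gen 31 1 0, .lin [(4033, 10), (67113, 9),
    (28750, 8), (228345, 7), (30066, 6), (53094, 4), (15286, 3), (217329, 2), (113260, 1)], .lin [(94103, 10),
    (236346, 9), (126154, 8), (196142, 7), (78632, 5), (66448, 4), (222408, 3), (106742, 2)], .lin [(14538, 10),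
    (152481, 9), (139825, 8), (85636, 6), (37208, 5), (22718, 4), (84140, 3)], .lin [(258047, 11), (8194, 6),
    (4097, 4)], .lin [(3509, 10), (229381, 8), (4687, 7), (32765, 6), (18727, 5)], .lin [(78995, 17), (78995,
    10), (135752, 8), (115273, 7), (183149, 6)], .lin [(170394, 9), (176947, 8)], .lin [(98310, 8), (169301,
    7)], .lin [(1, 9)], .lin [(1, 12)], .lin [(262143, 15)]], [(11, 1), (8, 2), (9, 4), (10, 32), (5, 8), (7,
    64), (4, 16), (6, 64), (0, 128), (1, 4096), (2, 2048)]⟩,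
⟨4, [.one, .gen 0 1 0, .gen 1 1 0, .mul 1 0, .mul 1 1, .mul 2 1, .lin [(81313, 5), (245153, 4), (26700, 3),
    (26700, 2), (154131, 1), (252435, 0)], .lin [(174763, 6), (174760, 5), (87384, 4), (87380, 3), (1, 2)], .lin
    [(87381, 7), (218453, 6), (43691, 5), (174763, 4)], .lin [(131073, 7), (131071, 6)], .lin [(131073, 9),
    (131071, 8)], .lin [(1, 10)]], [(4, 1), (5, 2), (0, 2), (1, 4), (2, 8), (3, 16)]⟩,
⟨6, [.gen 0 1 0, .mul 0 0, .mul 1 0, .gen 1 1 0, .mul 3 0, .mul 4 0, .mul 2 2, .mul 3 2, .mul 4 1, .gen 2 1 0,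
    .mul 0 0, .gen 3 1 0, .lin [(61681, 10), (95486, 9), (134174, 8), (64960, 7), (4328, 6), (60717, 5), (94048,
    4), (53148, 3), (24732, 2), (75745, 1), (59554, 0)], .lin [(14583, 10), (236572, 9), (106474, 8), (141761,
    7), (187450, 6), (56751, 5), (71737, 4), (201968, 3), (78576, 2), (197568, 1)], .lin [(77293, 10), (151529,
    9), (53082, 8), (165254, 7), (81609, 6), (127344, 5), (255712, 4), (135586, 3), (189835, 2)], .lin [(243460,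
    10), (82821, 9), (22572, 8), (8546, 7), (97885, 6), (58244, 5), (116535, 4), (213416, 3)], .lin [(104929,
    11), (101551, 9), (240107, 8), (124003, 7), (176748, 6), (189590, 5), (142662, 4)], .lin [(86267, 10),
    (176992, 9), (96298, 8), (108782, 7), (168076, 6), (5573, 5)], .lin [(85263, 10), (124717, 9), (137295, 8),
    (196542, 7), (39454, 6)], .lin [(1, 10), (65620, 9), (229419, 8), (1, 7)], .lin [(2, 10), (1, 9)], .lin
    [(131071, 11)], .lin [(262143, 10)]], [(10, 1), (5, 2), (8, 8), (9, 2), (6, 4), (7, 8), (1, 8), (3, 64), (2,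
    16), (0, 64), (4, 1024)]⟩,
⟨7, [.one, .gen 0 1 0, .mul 0 0, .gen 2 1 0, .mul 2 0, .mul 1 1, .mul 2 0, .gen 3 1 0, .gen 5 1 0, .mul 5 0,
    .gen 5 1 1, .lin [(178892, 10), (72867, 9), (59615, 8), (252323, 7), (181015, 6), (136712, 5), (206058, 4),
    (237158, 3)], .lin [(262143, 11), (174762, 10), (174763, 9)], .lin [(74027, 12), (48668, 11), (208752, 9),
    (108109, 7), (75284, 5), (211207, 4), (82277, 3)], .lin [(194668, 13), (138150, 12), (142947, 10), (60398,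
    8), (26031, 6)], .lin [(114691, 14), (203888, 13), (105590, 11), (194787, 9), (10922, 6)], .lin [(136534,
    15), (112867, 14), (36410, 12), (12743, 10)], .lin [(207531, 16), (207531, 13), (54613, 8)], .lin [(1, 17),
    (1, 14)], .lin [(65539, 18), (21845, 8)], .lin [(1, 19)]], [(8, 1), (9, 4), (6, 2), (7, 8), (4, 4), (5, 16),
    (0, 8), (1, 64), (2, 64), (3, 512)]⟩,
⟨33, [.one, .gen 1 1 0, .mul 0 0, .gen 3 1 0, .lin [(65545, 3), (4, 2), (196603, 1), (4, 0)], .lin [(183501, 4),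
    (183501, 3), (52429, 1)], .lin [(131073, 5), (131071, 4)], .lin [(1, 6)]], [(2, 1), (3, 2), (0, 2), (1,
    8)]⟩,
⟨34, [.one, .gen 3 1 0, .lin [(131075, 1), (131071, 0)], .lin [(1, 2)]], [(0, 1), (1, 2)]⟩])

/-- certificates -/
def c2_3_0 : ℕ × ℕ × List Cert := (3, 13, [⟨0, [.one, .gen 0 1 0, .mul 0 0, .mul 1 0, .gen 1 1 0, .mul 3 0, .mul
    1 1, .gen 2 1 0, .mul 3 0, .gen 3 1 0, .lin [(19924, 9), (736986, 8), (1048683, 7), (331621, 6), (1198920,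
    5), (1198920, 4)], .lin [(1317941, 10), (1001209, 9), (905582, 8), (1242161, 6), (498144, 5), (1116026, 4),
    (372009, 3), (478297, 2)], .lin [(1335983, 11), (1033357, 10), (1291697, 9), (465011, 7), (996452, 6)], .lin
    [(728273, 12), (1456546, 11), (1495907, 10), (1446699, 8), (1190821, 6), (826689, 5), (295248, 3)], .lin
    [(59050, 13), (206675, 12), (1564798, 11), (1417173, 9), (177150, 6)], .lin [(1417177, 14), (531438, 13),
    (1062885, 10), (708584, 7), (1240031, 5)], .lin [(1, 14), (1594322, 11), (1, 8)], .lin [(797161, 16),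
    (797161, 15), (797162, 12)], .lin [(1, 17), (1, 16)], .lin [(1, 18)]], [(10, 1), (5, 3), (6, 3), (7, 9), (8,
    9), (9, 27), (1, 81), (2, 243), (4, 729), (0, 2187)]⟩,
⟨1, [.one, .gen 0 1 0, .mul 0 0, .mul 1 0, .gen 1 1 0, .mul 3 0, .mul 4 0, .mul 5 0, .gen 2 1 0, .mul 7 0, .mul
    5 1, .gen 3 1 0, .lin [(1467040, 11), (85818, 10), (891246, 9), (1209586, 8), (755171, 7), (421413, 6),
    (1282938, 5), (1085255, 4)], .lin [(1328594, 12), (1490983, 11), (1011218, 10), (1380270, 9), (398580, 8),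
    (36905, 7), (701207, 6), (915259, 4), (383818, 3)], .lin [(364129, 13), (1180977, 12), (1513134, 11),
    (696286, 10), (1195743, 9), (1395033, 8), (199290, 7)], .lin [(531445, 14), (2, 13), (1594321, 12),
    (1062881, 10), (797161, 9), (797162, 8)], .lin [(1116026, 15), (558013, 14), (1036310, 13)], .lin [(531441,
    16), (797162, 15), (1062882, 12), (797161, 11), (797161, 8), (797162, 6)], .lin [(974309, 17), (442868, 16),
    (620014, 13), (1151455, 12)], .lin [(1, 18), (1, 17)], .lin [(1, 15), (1594322, 11), (1, 8)], .lin [(531442,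
    20), (531442, 16), (1062881, 12)], .lin [(2, 21), (1, 17)], .lin [(1, 22)]], [(9, 1), (10, 3), (11, 3), (1,
    3), (3, 3), (5, 9), (6, 9), (0, 9), (2, 27), (4, 81), (7, 27), (8, 243)]⟩,
⟨10, [.one, .gen 0 1 0, .mul 0 0, .mul 1 0, .gen 1 1 0, .mul 3 0, .gen 3 1 0, .gen 5 1 0, .lin [(661843, 7),
    (1443009, 6), (214050, 5), (1027207, 4), (1550034, 3), (1550034, 2)], .lin [(1047698, 8), (1579139, 7),
    (516257, 4), (1047698, 3)], .lin [(1594322, 9), (797161, 8), (797162, 7)], .lin [(1594321, 10), (1594322,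
    9), (1594322, 6), (1, 4)], .lin [(930022, 11), (930022, 7), (996452, 4)], .lin [(1, 12), (1, 11)], .lin
    [(1062884, 13), (1062881, 9)], .lin [(1, 14)]], [(3, 1), (7, 3), (1, 3), (2, 3), (4, 3), (5, 9), (0, 9), (6,
    81)]⟩])

/-- the certificates for the relations -/
def CL2 : List (ℕ × ℕ × List Cert) := [c2_2_0, c2_3_0]

theorem ok_c2_2_0 : chkX D seeds2 rows (rels lv2 []) c2_2_0 = true := by decide +kernel

theorem ok_c2_3_0 : chkX D seeds2 rows (rels lv2 []) c2_3_0 = true := by decide +kernel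

theorem ok_CL2 : ∀ y ∈ CL2, chkX D seeds2 rows (rels lv2 []) y = true :=
  List.forall_mem_cons.2 ⟨ok_c2_2_0, List.forall_mem_cons.2 ⟨ok_c2_3_0, List.forall_mem_nil _⟩⟩

theorem ok_all2 : (PL.all fun x => x.2.2.all fun t => Co.hasC CL0 x.1 t || Co.hasC CL2 x.1 t) = true := by
  decide +kernel

theorem ok_lv2 : okG D rows nm lv2 2 2 true = true := by decide +kernel

variable {G : Type} [Group G] [Finite G] {T : TD G D}

theorem virt_seeds2 (h : Hyp T) : ∀ v ∈ seeds2, Virt T (nth v) :=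
  Sm1.virt_chkSlp h.slp slp2 (List.forall_mem_append.2 ⟨virt_ix (virt_lv1 h) (by decide +kernel), virt_seeds1 h⟩)
    ok_slp2

/-- **all the rows are generalized characters** -/
theorem rows_of (h : Hyp T) : ∀ r ∈ rows, Virt T (nth r) :=
  virt_all (glue h.1 orth ok_lv2 (virt_combs h.1.1 okPL (good0 h) (virt_seeds2 h) ok_CL2 ok_all2))
    (by decide +kernel)

/-- **the table** -/
theorem tab_of (h : Hyp T) : Tab T R :=
  Sm1.tab_of_cls h.1 (fun _ hr => rows_of h _ (List.of_mem_zip hr).2) okTab h.2.2.2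

end Cfsg.Agent.TAB.F23
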