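import Cfsg.Agent.TAB.F23.Tab
import Cfsg.Agent.TAB.Sm1.Slp

/-!
# `Fi₂₃` : seeds, and the sections in which they generate everything (helper12, TAB; generated by `notes/TAB/F23/gen.py.txt`)
-/

set_option autoImplicit false
set_option maxRecDepth 100000

namespace Cfsg.Agent.TAB.F23

open Cfsg Cfsg.Agent.TAB.Eng Cfsg.Agent.TAB.Use Cfsg.Agent.TAB.Glue

/-- the trivial character -/
def ones : List ℤ := List.replicate 92 1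

/-- a seed -/
def s1_0 : List ℤ := [.ofNat 1003052241, .ofNat 33489, .ofNat 483025, .ofNat 12327121, .ofNat 729, .ofNat 18225,
    .ofNat 104976, .ofNat 123201, .ofNat 49, .ofNat 961, .ofNat 1521, .ofNat 3969, .ofNat 441, .ofNat 1,
    .ofNat 9, .ofNat 81, .ofNat 81, .ofNat 121, .ofNat 144, .ofNat 225, .ofNat 225, .ofNat 400, .ofNat 784,
    .ofNat 1296, .ofNat 2025, .ofNat 2209, .ofNat 16129, .ofNat 100, .ofNat 9, .ofNat 49, .ofNat 49, .ofNat 9,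
    .ofNat 81, .ofNat 324, .ofNat 0, .ofNat 0, .ofNat 9, .ofNat 25, .ofNat 121, .ofNat 4, .ofNat 1, .ofNat 1,
    .ofNat 1, .ofNat 9, .ofNat 9, .ofNat 9, .ofNat 9, .ofNat 9, .ofNat 16, .ofNat 16, .ofNat 49, .ofNat 144,
    .ofNat 144, .ofNat 225, .ofNat 0, .ofNat 9, .ofNat 4, .ofNat 16, .ofNat 36, .ofNat 0, .ofNat 1, .ofNat 0,
    .ofNat 1, .ofNat 4, .ofNat 9, .ofNat 16, .ofNat 25, .ofNat 49, .ofNat 0, .ofNat 0, .ofNat 1, .ofNat 9,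
    .ofNat 1, .ofNat 4, .ofNat 4, .ofNat 0, .ofNat 1, .ofNat 1, .ofNat 0, .ofNat 1, .ofNat 0, .ofNat 0,
    .ofNat 4, .ofNat 4, .ofNat 0, .ofNat 0, .ofNat 0, .ofNat 0, .ofNat 0, .ofNat 1, .ofNat 0, .ofNat 1369]

/-- a seed -/
def s1_1 : List ℤ := [.ofNat 457223956474752, .ofNat 1883520, .ofNat 817496064, .ofNat 0, .ofNat 27000,
    .ofNat 2399760, .ofNat 14390784, .ofNat 129263472, .ofNat 864, .ofNat 0, .ofNat 84672, .ofNat 0,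
    .ofNat 6552, .ofNat 0, .ofNat 72, .ofNat 0, .ofNat 0, .ofNat 432, .ofNat 6912, .ofNat 144, .ofNat 432,
    .ofNat 0, .ofNat 0, .ofNat 13824, .ofNat 0, .ofNat 69120, .ofNat 0, .ofNat 320, .ofNat 24, .ofNat 0,
    .ofNat 0, .ofNat 12, .ofNat 1440, .ofNat 720, .ofNat 0, .ofNat 0, .ofNat 0, .ofNat 24, .ofNat 0, .ofNat 16,
    .ofNat 0, .ofNat 0, .ofNat 0, .ofNat 0, .ofNat 0, .ofNat 72, .ofNat 24, .ofNat 0, .ofNat 0, .ofNat 0,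
    .ofNat 0, .ofNat 0, .ofNat 0, .ofNat 0, .ofNat 0, .ofNat 12, .ofNat 0, .ofNat 0, .ofNat 72, .ofNat 0,
    .ofNat 0, .ofNat 0, .ofNat 0, .ofNat 0, .ofNat 0, .ofNat 0, .ofNat 0, .ofNat 0, .ofNat 0, .ofNat 0,
    .ofNat 0, .ofNat 0, .ofNat 2, .ofNat 0, .ofNat 0, .ofNat 0, .ofNat 0, .ofNat 0, .ofNat 0, .ofNat 0,
    .ofNat 0, .ofNat 0, .ofNat 0, .ofNat 0, .ofNat 0, .ofNat 0, .ofNat 0, .ofNat 0, .ofNat 0, .ofNat 0,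
    .ofNat 0, .ofNat 0]

/-- a seed -/
def s1_2 : List ℤ := [.ofNat 5427196831140561, .ofNat 29040849, .ofNat 913030353, .ofNat 708399458001,
    .ofNat 52488, .ofNat 0, .ofNat 113374080, .ofNat 0, .ofNat 3249, .ofNat 9441, .ofNat 54513, .ofNat 276129,
    .ofNat 2961, .ofNat 648, .ofNat 0, .ofNat 0, .ofNat 0, .ofNat 0, .ofNat 2592, .ofNat 0, .ofNat 0,
    .ofNat 50112, .ofNat 629856, .ofNat 0, .ofNat 0, .ofNat 0, .ofNat 0, .ofNat 120, .ofNat 9, .ofNat 57,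
    .ofNat 57, .ofNat 0, .ofNat 0, .ofNat 0, .ofNat 0, .ofNat 0, .ofNat 9, .ofNat 33, .ofNat 201, .ofNat 4,
    .ofNat 0, .ofNat 0, .ofNat 0, .ofNat 0, .ofNat 0, .ofNat 0, .ofNat 0, .ofNat 0, .ofNat 0, .ofNat 0,
    .ofNat 0, .ofNat 0, .ofNat 0, .ofNat 0, .ofNat 0, .ofNat 9, .ofNat 4, .ofNat 18, .ofNat 0, .ofNat 0,
    .ofNat 1, .ofNat 0, .ofNat 0, .ofNat 0, .ofNat 0, .ofNat 0, .ofNat 0, .ofNat 0, .ofNat 0, .ofNat 0,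
    .ofNat 1, .ofNat 9, .ofNat 0, .ofNat 4, .ofNat 4, .ofNat 0, .ofNat 0, .ofNat 0, .ofNat 0, .ofNat 1,
    .ofNat 0, .ofNat 0, .ofNat 0, .ofNat 0, .ofNat 0, .ofNat 0, .ofNat 0, .ofNat 0, .ofNat 0, .ofNat 0,
    .ofNat 0, .ofNat 0]

/-- a seed -/
def s1_3 : List ℤ := [.negSucc 501510284, .negSucc 908, .negSucc 225676, .negSucc 6147724, .negSucc 350,
    .negSucc 9044, .negSucc 52325, .negSucc 61424, .ofNat 67, .negSucc 132, .negSucc 668, .negSucc 1636,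
    .negSucc 209, .ofNat 13, .ofNat 9, .negSucc 26, .ofNat 27, .ofNat 7, .ofNat 90, .negSucc 44, .ofNat 63,
    .negSucc 37, .negSucc 229, .negSucc 485, .negSucc 944, .negSucc 928, .negSucc 7888, .negSucc 44, .negSucc 0,
    .negSucc 4, .negSucc 4, .negSucc 2, .negSucc 35, .negSucc 152, .ofNat 0, .ofNat 0, .ofNat 6, .negSucc 1,
    .negSucc 49, .negSucc 0, .ofNat 1, .ofNat 5, .ofNat 7, .ofNat 1, .ofNat 3, .ofNat 3, .ofNat 3, .negSucc 2,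
    .negSucc 1, .ofNat 10, .negSucc 0, .negSucc 53, .negSucc 65, .negSucc 88, .ofNat 10, .negSucc 2, .ofNat 3,
    .negSucc 2, .negSucc 14, .ofNat 0, .ofNat 1, .ofNat 0, .ofNat 1, .ofNat 7, .ofNat 0, .ofNat 1, .negSucc 7,
    .negSucc 19, .ofNat 0, .ofNat 0, .ofNat 2, .negSucc 1, .ofNat 0, .negSucc 0, .negSucc 0, .ofNat 0, .ofNat 1,
    .ofNat 1, .ofNat 2, .ofNat 1, .ofNat 0, .ofNat 1, .ofNat 1, .ofNat 1, .ofNat 0, .ofNat 0, .ofNat 1,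
    .ofNat 0, .ofNat 0, .ofNat 0, .ofNat 1, .negSucc 616]

/-- a seed -/
def s1_4 : List ℤ := [.ofNat 162280574337025, .ofNat 1327105, .ofNat 306561025, .ofNat 107602919425, .ofNat 1,
    .ofNat 419905, .ofNat 1, .ofNat 38211265, .ofNat 1, .ofNat 2305, .ofNat 1, .ofNat 48385, .ofNat 0, .ofNat 1,
    .ofNat 1, .ofNat 1, .ofNat 1, .ofNat 1, .ofNat 1, .ofNat 1, .ofNat 1, .ofNat 1, .ofNat 1, .ofNat 1,
    .ofNat 5185, .ofNat 5185, .ofNat 653185, .ofNat 25, .ofNat 1, .ofNat 1, .ofNat 1, .ofNat 1, .ofNat 1,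
    .ofNat 1, .ofNat 1, .ofNat 1, .ofNat 0, .ofNat 0, .ofNat 0, .ofNat 1, .ofNat 1, .ofNat 1, .ofNat 1,
    .ofNat 1, .ofNat 1, .ofNat 1, .ofNat 1, .ofNat 1, .ofNat 1, .ofNat 1, .ofNat 1, .ofNat 1, .ofNat 1,
    .ofNat 145, .ofNat 1, .ofNat 1, .ofNat 1, .ofNat 1, .ofNat 0, .ofNat 0, .ofNat 1, .ofNat 1, .ofNat 1,
    .ofNat 1, .ofNat 1, .ofNat 1, .ofNat 1, .ofNat 1, .ofNat 1, .ofNat 1, .ofNat 0, .ofNat 0, .ofNat 1,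
    .ofNat 1, .ofNat 1, .ofNat 1, .ofNat 1, .ofNat 1, .ofNat 1, .ofNat 1, .ofNat 1, .ofNat 1, .ofNat 0,
    .ofNat 0, .ofNat 0, .ofNat 0, .ofNat 1, .ofNat 1, .ofNat 1, .ofNat 1, .ofNat 0, .ofNat 1]

/-- a seed -/
def s1_5 : List ℤ := [.negSucc 81385377085725093802124, .negSucc 1206338444, .negSucc 69183772438924,
    .negSucc 661513157822058124, .negSucc 350, .negSucc 3798040724, .negSucc 52325, .negSucc 2347126952624,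
    .ofNat 67, .negSucc 306564, .negSucc 668, .negSucc 79206244, .ofNat 0, .ofNat 13, .ofNat 9, .negSucc 26,
    .ofNat 27, .ofNat 7, .ofNat 90, .negSucc 44, .ofNat 63, .negSucc 37, .negSucc 229, .negSucc 485,
    .negSucc 4899824, .negSucc 4816864, .negSucc 5152976464, .negSucc 1124, .negSucc 0, .negSucc 4, .negSucc 4,
    .negSucc 2, .negSucc 35, .negSucc 152, .ofNat 0, .ofNat 0, .ofNat 0, .ofNat 0, .ofNat 0, .negSucc 0,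
    .ofNat 1, .ofNat 5, .ofNat 7, .ofNat 1, .ofNat 3, .ofNat 3, .ofNat 3, .negSucc 2, .negSucc 1, .ofNat 10,
    .negSucc 0, .negSucc 53, .negSucc 65, .negSucc 12904, .ofNat 10, .negSucc 2, .ofNat 3, .negSucc 2, .ofNat 0,
    .ofNat 0, .ofNat 1, .ofNat 0, .ofNat 1, .ofNat 7, .ofNat 0, .ofNat 1, .negSucc 7, .negSucc 19, .ofNat 0,
    .ofNat 0, .ofNat 0, .ofNat 0, .ofNat 0, .negSucc 0, .negSucc 0, .ofNat 0, .ofNat 1, .ofNat 1, .ofNat 2,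
    .ofNat 1, .ofNat 0, .ofNat 1, .ofNat 0, .ofNat 0, .ofNat 0, .ofNat 0, .ofNat 1, .ofNat 0, .ofNat 0,
    .ofNat 0, .ofNat 0, .negSucc 616]

/-- a seed -/
def s1_6 : List ℤ := [.negSucc 82494137415197947459724, .negSucc 11240581004, .negSucc 69753447070604,
    .negSucc 678491014961501324, .negSucc 17495, .ofNat 0, .negSucc 52907903, .ofNat 0, .ofNat 1539,
    .negSucc 303524, .negSucc 16604, .negSucc 87842564, .ofNat 0, .ofNat 648, .ofNat 0, .ofNat 0, .ofNat 0,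
    .ofNat 0, .ofNat 0, .ofNat 0, .ofNat 0, .negSucc 1727, .negSucc 139967, .ofNat 0, .ofNat 0, .ofNat 0,
    .ofNat 0, .negSucc 1124, .ofNat 15, .ofNat 3, .ofNat 3, .ofNat 0, .ofNat 0, .ofNat 0, .ofNat 0, .ofNat 0,
    .ofNat 0, .ofNat 0, .ofNat 0, .negSucc 0, .ofNat 0, .ofNat 0, .ofNat 0, .ofNat 0, .ofNat 0, .ofNat 0,
    .ofNat 0, .ofNat 0, .ofNat 0, .ofNat 0, .ofNat 0, .ofNat 0, .ofNat 0, .ofNat 0, .ofNat 72, .negSucc 2,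
    .ofNat 3, .negSucc 2, .ofNat 0, .ofNat 0, .ofNat 1, .ofNat 0, .ofNat 0, .ofNat 0, .ofNat 0, .ofNat 0,
    .ofNat 0, .ofNat 0, .ofNat 0, .ofNat 0, .ofNat 0, .ofNat 0, .ofNat 0, .negSucc 0, .negSucc 0, .ofNat 0,
    .ofNat 0, .ofNat 0, .ofNat 0, .ofNat 1, .ofNat 0, .ofNat 1, .ofNat 0, .ofNat 0, .ofNat 0, .ofNat 0,
    .ofNat 0, .ofNat 0, .ofNat 0, .ofNat 0, .ofNat 0, .ofNat 0]

/-- a seed -/
def s1_7 : List ℤ := [.ofNat 2388384600192, .ofNat 97920, .ofNat 25546752, .ofNat 0, .ofNat 4428, .ofNat 163080,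
    .ofNat 648000, .ofNat 6059664, .ofNat 288, .ofNat 0, .ofNat 12096, .ofNat 0, .ofNat 1092, .ofNat 0,
    .ofNat 36, .ofNat 0, .ofNat 0, .ofNat 216, .ofNat 1152, .ofNat 72, .ofNat 144, .ofNat 0, .ofNat 0,
    .ofNat 1728, .ofNat 0, .ofNat 8640, .ofNat 0, .ofNat 80, .ofNat 24, .ofNat 0, .ofNat 0, .ofNat 6,
    .ofNat 288, .ofNat 144, .ofNat 0, .ofNat 0, .ofNat 0, .ofNat 12, .ofNat 0, .ofNat 8, .ofNat 0, .ofNat 0,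
    .ofNat 0, .ofNat 0, .ofNat 0, .ofNat 72, .ofNat 24, .ofNat 0, .ofNat 0, .ofNat 0, .ofNat 0, .ofNat 0,
    .ofNat 0, .ofNat 0, .ofNat 0, .ofNat 6, .ofNat 0, .ofNat 0, .ofNat 24, .ofNat 0, .ofNat 0, .ofNat 0,
    .ofNat 0, .ofNat 0, .ofNat 0, .ofNat 0, .ofNat 0, .ofNat 0, .ofNat 0, .ofNat 0, .ofNat 0, .ofNat 0,
    .ofNat 2, .ofNat 0, .ofNat 0, .ofNat 0, .ofNat 0, .ofNat 0, .ofNat 0, .ofNat 0, .ofNat 0, .ofNat 0,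
    .ofNat 0, .ofNat 0, .ofNat 0, .ofNat 0, .ofNat 0, .ofNat 0, .ofNat 0, .ofNat 0, .ofNat 0, .ofNat 0]

/-- a seed -/
def s1_8 : List ℤ := [.ofNat 12895196032, .ofNat 9600, .ofNat 811008, .ofNat 0, .ofNat 1000, .ofNat 13744,
    .ofNat 37504, .ofNat 354160, .ofNat 96, .ofNat 0, .ofNat 1728, .ofNat 0, .ofNat 232, .ofNat 0, .ofNat 24,
    .ofNat 0, .ofNat 0, .ofNat 144, .ofNat 240, .ofNat 48, .ofNat 48, .ofNat 144, .ofNat 0, .ofNat 288,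
    .ofNat 0, .ofNat 1152, .ofNat 0, .ofNat 26, .ofNat 24, .ofNat 0, .ofNat 0, .ofNat 4, .ofNat 64, .ofNat 46,
    .ofNat 28, .ofNat 82, .ofNat 0, .ofNat 8, .ofNat 0, .ofNat 4, .ofNat 0, .ofNat 0, .ofNat 0, .ofNat 0,
    .ofNat 0, .ofNat 72, .ofNat 24, .ofNat 0, .ofNat 0, .ofNat 24, .ofNat 0, .ofNat 0, .ofNat 0, .ofNat 0,
    .ofNat 0, .ofNat 4, .ofNat 2, .ofNat 0, .ofNat 10, .ofNat 4, .ofNat 0, .ofNat 1, .ofNat 0, .ofNat 6,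
    .ofNat 0, .ofNat 0, .ofNat 0, .ofNat 0, .ofNat 0, .ofNat 6, .ofNat 0, .ofNat 0, .ofNat 2, .ofNat 0,
    .ofNat 0, .ofNat 1, .ofNat 0, .ofNat 0, .ofNat 0, .ofNat 0, .ofNat 1, .ofNat 0, .ofNat 2, .ofNat 0,
    .ofNat 0, .ofNat 1, .ofNat 0, .ofNat 0, .ofNat 1, .ofNat 0, .ofNat 0, .ofNat 0]

/-- a seed -/
def s1_9 : List ℤ := [.ofNat 132393252657591, .ofNat 2803383, .ofNat 61541559, .ofNat 21892685751, .ofNat 17496,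
    .ofNat 0, .ofNat 7558272, .ofNat 0, .ofNat 1287, .ofNat 1791, .ofNat 9639, .ofNat 50463, .ofNat 441,
    .ofNat 648, .ofNat 0, .ofNat 0, .ofNat 0, .ofNat 0, .ofNat 864, .ofNat 0, .ofNat 0, .ofNat 12096,
    .ofNat 116640, .ofNat 0, .ofNat 0, .ofNat 0, .ofNat 0, .ofNat 30, .ofNat 3, .ofNat 15, .ofNat 15, .ofNat 0,
    .ofNat 0, .ofNat 0, .ofNat 0, .ofNat 0, .ofNat 3, .ofNat 9, .ofNat 51, .ofNat 2, .ofNat 0, .ofNat 0,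
    .ofNat 0, .ofNat 0, .ofNat 0, .ofNat 0, .ofNat 0, .ofNat 0, .ofNat 0, .ofNat 0, .ofNat 0, .ofNat 0,
    .ofNat 0, .ofNat 0, .ofNat 0, .ofNat 3, .ofNat 2, .ofNat 6, .ofNat 0, .ofNat 0, .ofNat 1, .ofNat 0,
    .ofNat 0, .ofNat 0, .ofNat 0, .ofNat 0, .ofNat 0, .ofNat 0, .ofNat 0, .ofNat 0, .ofNat 1, .ofNat 3,
    .ofNat 0, .ofNat 2, .ofNat 2, .ofNat 0, .ofNat 0, .ofNat 0, .ofNat 0, .ofNat 1, .ofNat 0, .ofNat 0,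
    .ofNat 0, .ofNat 0, .ofNat 0, .ofNat 0, .ofNat 0, .ofNat 0, .ofNat 0, .ofNat 0, .ofNat 0, .ofNat 0]

/-- a seed -/
def s1_10 : List ℤ := [.ofNat 4439485318401, .ofNat 435969, .ofNat 5046273, .ofNat 4180267521, .ofNat 5832,
    .ofNat 0, .ofNat 1772928, .ofNat 0, .ofNat 801, .ofNat 801, .ofNat 2529, .ofNat 16353, .ofNat 351,
    .ofNat 648, .ofNat 0, .ofNat 0, .ofNat 0, .ofNat 0, .ofNat 1728, .ofNat 0, .ofNat 0, .ofNat 3456,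
    .ofNat 23328, .ofNat 0, .ofNat 0, .ofNat 0, .ofNat 0, .ofNat 21, .ofNat 9, .ofNat 9, .ofNat 9, .ofNat 0,
    .ofNat 0, .ofNat 0, .ofNat 0, .ofNat 648, .ofNat 9, .ofNat 3, .ofNat 21, .ofNat 1, .ofNat 0, .ofNat 0,
    .ofNat 0, .ofNat 0, .ofNat 0, .ofNat 0, .ofNat 0, .ofNat 0, .ofNat 0, .ofNat 0, .ofNat 0, .ofNat 0,
    .ofNat 72, .ofNat 0, .ofNat 72, .ofNat 3, .ofNat 1, .ofNat 3, .ofNat 0, .ofNat 0, .ofNat 1, .ofNat 1,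
    .ofNat 0, .ofNat 0, .ofNat 0, .ofNat 0, .ofNat 0, .ofNat 0, .ofNat 0, .ofNat 0, .ofNat 1, .ofNat 3,
    .ofNat 0, .ofNat 1, .ofNat 1, .ofNat 1, .ofNat 0, .ofNat 0, .ofNat 0, .ofNat 1, .ofNat 0, .ofNat 1,
    .ofNat 0, .ofNat 0, .ofNat 0, .ofNat 1, .ofNat 0, .ofNat 0, .ofNat 0, .ofNat 0, .ofNat 0, .ofNat 0]

/-- a seed -/
def s1_11 : List ℤ := [.ofNat 168350817359872, .ofNat 2488320, .ofNat 0, .ofNat 0, .ofNat 18496, .ofNat 538624,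
    .ofNat 8855488, .ofNat 41749696, .ofNat 2304, .ofNat 0, .ofNat 0, .ofNat 0, .ofNat 1072, .ofNat 0, .ofNat 0,
    .ofNat 0, .ofNat 0, .ofNat 0, .ofNat 0, .ofNat 0, .ofNat 1728, .ofNat 0, .ofNat 0, .ofNat 5184, .ofNat 0,
    .ofNat 0, .ofNat 0, .ofNat 56, .ofNat 0, .ofNat 0, .ofNat 0, .ofNat 4, .ofNat 64, .ofNat 208, .ofNat 28,
    .ofNat 568, .ofNat 0, .ofNat 0, .ofNat 0, .ofNat 4, .ofNat 0, .ofNat 0, .ofNat 0, .ofNat 0, .ofNat 0,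
    .ofNat 0, .ofNat 0, .ofNat 0, .ofNat 0, .ofNat 0, .ofNat 0, .ofNat 0, .ofNat 0, .ofNat 0, .ofNat 0,
    .ofNat 4, .ofNat 0, .ofNat 0, .ofNat 16, .ofNat 4, .ofNat 0, .ofNat 1, .ofNat 0, .ofNat 0, .ofNat 0,
    .ofNat 0, .ofNat 0, .ofNat 0, .ofNat 0, .ofNat 0, .ofNat 0, .ofNat 0, .ofNat 2, .ofNat 0, .ofNat 0,
    .ofNat 1, .ofNat 0, .ofNat 0, .ofNat 0, .ofNat 0, .ofNat 1, .ofNat 0, .ofNat 0, .ofNat 0, .ofNat 0,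
    .ofNat 1, .ofNat 0, .ofNat 0, .ofNat 1, .ofNat 0, .ofNat 0, .ofNat 0]

/-- a seed -/
def s1_12 : List ℤ := [.ofNat 3407892061109175, .ofNat 3981495, .ofNat 1532805815, .ofNat 1183632117175,
    .ofNat 27, .ofNat 135, .ofNat 324, .ofNat 229267935, .ofNat 7, .ofNat 2335, .ofNat 39, .ofNat 145215,
    .ofNat 0, .ofNat 1, .ofNat 3, .ofNat 9, .ofNat 9, .ofNat 11, .ofNat 12, .ofNat 15, .ofNat 15, .ofNat 20,
    .ofNat 28, .ofNat 36, .ofNat 45, .ofNat 10415, .ofNat 1306495, .ofNat 10, .ofNat 3, .ofNat 7, .ofNat 7,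
    .ofNat 3, .ofNat 9, .ofNat 18, .ofNat 0, .ofNat 0, .ofNat 0, .ofNat 0, .ofNat 0, .ofNat 2, .ofNat 1,
    .ofNat 1, .ofNat 1, .ofNat 3, .ofNat 3, .ofNat 3, .ofNat 3, .ofNat 3, .ofNat 4, .ofNat 4, .ofNat 7,
    .ofNat 12, .ofNat 12, .ofNat 15, .ofNat 0, .ofNat 3, .ofNat 2, .ofNat 4, .ofNat 0, .ofNat 0, .ofNat 1,
    .ofNat 0, .ofNat 1, .ofNat 2, .ofNat 3, .ofNat 4, .ofNat 5, .ofNat 7, .ofNat 0, .ofNat 0, .ofNat 0,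
    .ofNat 0, .ofNat 1, .ofNat 2, .ofNat 2, .ofNat 0, .ofNat 1, .ofNat 1, .ofNat 0, .ofNat 1, .ofNat 0,
    .ofNat 0, .ofNat 0, .ofNat 0, .ofNat 0, .ofNat 0, .ofNat 0, .ofNat 0, .ofNat 0, .ofNat 1, .ofNat 0,
    .ofNat 37]

/-- a seed -/
def s1_13 : List ℤ := [.ofNat 6014977355002752, .ofNat 9348480, .ofNat 846692352, .ofNat 0, .ofNat 23328,
    .ofNat 0, .ofNat 69797376, .ofNat 0, .ofNat 864, .ofNat 0, .ofNat 15552, .ofNat 0, .ofNat 2052, .ofNat 0,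
    .ofNat 0, .ofNat 0, .ofNat 0, .ofNat 0, .ofNat 1728, .ofNat 0, .ofNat 0, .ofNat 10368, .ofNat 0, .ofNat 0,
    .ofNat 0, .ofNat 0, .ofNat 0, .ofNat 66, .ofNat 24, .ofNat 0, .ofNat 0, .ofNat 0, .ofNat 0, .ofNat 0,
    .ofNat 0, .ofNat 648, .ofNat 0, .ofNat 12, .ofNat 0, .ofNat 4, .ofNat 0, .ofNat 0, .ofNat 0, .ofNat 0,
    .ofNat 0, .ofNat 0, .ofNat 0, .ofNat 0, .ofNat 0, .ofNat 0, .ofNat 0, .ofNat 0, .ofNat 0, .ofNat 0,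
    .ofNat 0, .ofNat 6, .ofNat 2, .ofNat 0, .ofNat 0, .ofNat 0, .ofNat 0, .ofNat 1, .ofNat 0, .ofNat 0,
    .ofNat 0, .ofNat 0, .ofNat 0, .ofNat 0, .ofNat 0, .ofNat 0, .ofNat 0, .ofNat 0, .ofNat 0, .ofNat 0,
    .ofNat 0, .ofNat 1, .ofNat 0, .ofNat 0, .ofNat 0, .ofNat 0, .ofNat 0, .ofNat 0, .ofNat 0, .ofNat 0,
    .ofNat 0, .ofNat 1, .ofNat 0, .ofNat 0, .ofNat 0, .ofNat 0, .ofNat 0, .ofNat 0]

/-- a seed -/
def s1_14 : List ℤ := [.ofNat 681578412215500800, .ofNat 53084160, .ofNat 0, .ofNat 0, .ofNat 0,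
    .ofNat 12597120, .ofNat 0, .ofNat 0, .ofNat 0, .ofNat 0, .ofNat 0, .ofNat 0, .ofNat 0, .ofNat 0, .ofNat 0,
    .ofNat 0, .ofNat 1728, .ofNat 0, .ofNat 0, .ofNat 0, .ofNat 0, .ofNat 0, .ofNat 0, .ofNat 0, .ofNat 0,
    .ofNat 0, .ofNat 0, .ofNat 0, .ofNat 0, .ofNat 0, .ofNat 0, .ofNat 0, .ofNat 0, .ofNat 0, .ofNat 0,
    .ofNat 0, .ofNat 0, .ofNat 0, .ofNat 0, .ofNat 0, .ofNat 0, .ofNat 0, .ofNat 0, .ofNat 0, .ofNat 0,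
    .ofNat 0, .ofNat 0, .ofNat 0, .ofNat 0, .ofNat 0, .ofNat 0, .ofNat 0, .ofNat 0, .ofNat 0, .ofNat 0,
    .ofNat 0, .ofNat 0, .ofNat 0, .ofNat 0, .ofNat 0, .ofNat 0, .ofNat 0, .ofNat 0, .ofNat 0, .ofNat 0,
    .ofNat 0, .ofNat 0, .ofNat 0, .ofNat 0, .ofNat 0, .ofNat 0, .ofNat 0, .ofNat 0, .ofNat 0, .ofNat 0,
    .ofNat 0, .ofNat 0, .ofNat 0, .ofNat 0, .ofNat 0, .ofNat 0, .ofNat 0, .ofNat 0, .ofNat 0, .ofNat 0,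
    .ofNat 0, .ofNat 0, .ofNat 0, .ofNat 0, .ofNat 0, .ofNat 0, .ofNat 0]

/-- a seed -/
def s1_15 : List ℤ := [.ofNat 511183809161625600, .ofNat 39813120, .ofNat 0, .ofNat 0, .ofNat 0, .ofNat 0,
    .ofNat 0, .ofNat 0, .ofNat 0, .ofNat 0, .ofNat 82944, .ofNat 0, .ofNat 0, .ofNat 0, .ofNat 0, .ofNat 0,
    .ofNat 0, .ofNat 0, .ofNat 0, .ofNat 0, .ofNat 0, .ofNat 0, .ofNat 0, .ofNat 0, .ofNat 0, .ofNat 0,
    .ofNat 0, .ofNat 0, .ofNat 0, .ofNat 192, .ofNat 0, .ofNat 0, .ofNat 0, .ofNat 0, .ofNat 0, .ofNat 0,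
    .ofNat 0, .ofNat 0, .ofNat 0, .ofNat 0, .ofNat 0, .ofNat 0, .ofNat 0, .ofNat 0, .ofNat 0, .ofNat 0,
    .ofNat 0, .ofNat 0, .ofNat 0, .ofNat 0, .ofNat 0, .ofNat 0, .ofNat 0, .ofNat 0, .ofNat 0, .ofNat 0,
    .ofNat 0, .ofNat 0, .ofNat 0, .ofNat 0, .ofNat 0, .ofNat 0, .ofNat 0, .ofNat 0, .ofNat 0, .ofNat 0,
    .ofNat 0, .ofNat 0, .ofNat 0, .ofNat 0, .ofNat 0, .ofNat 0, .ofNat 0, .ofNat 0, .ofNat 0, .ofNat 0,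
    .ofNat 0, .ofNat 0, .ofNat 0, .ofNat 0, .ofNat 0, .ofNat 0, .ofNat 0, .ofNat 0, .ofNat 0, .ofNat 0,
    .ofNat 0, .ofNat 0, .ofNat 0, .ofNat 0, .ofNat 0, .ofNat 0]

/-- a seed -/
def s1_16 : List ℤ := [.ofNat 340789206107750400, .ofNat 26542080, .ofNat 0, .ofNat 0, .ofNat 157464, .ofNat 0,
    .ofNat 0, .ofNat 0, .ofNat 6144, .ofNat 0, .ofNat 0, .ofNat 0, .ofNat 0, .ofNat 0, .ofNat 216, .ofNat 0,
    .ofNat 0, .ofNat 0, .ofNat 0, .ofNat 0, .ofNat 0, .ofNat 0, .ofNat 0, .ofNat 0, .ofNat 0, .ofNat 0,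
    .ofNat 0, .ofNat 0, .ofNat 0, .ofNat 0, .ofNat 0, .ofNat 0, .ofNat 0, .ofNat 0, .ofNat 0, .ofNat 0,
    .ofNat 0, .ofNat 0, .ofNat 0, .ofNat 0, .ofNat 24, .ofNat 0, .ofNat 0, .ofNat 0, .ofNat 0, .ofNat 0,
    .ofNat 0, .ofNat 0, .ofNat 0, .ofNat 0, .ofNat 0, .ofNat 0, .ofNat 0, .ofNat 0, .ofNat 0, .ofNat 0,
    .ofNat 0, .ofNat 0, .ofNat 0, .ofNat 0, .ofNat 0, .ofNat 0, .ofNat 0, .ofNat 0, .ofNat 0, .ofNat 0,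
    .ofNat 0, .ofNat 0, .ofNat 0, .ofNat 0, .ofNat 0, .ofNat 0, .ofNat 0, .ofNat 0, .ofNat 0, .ofNat 0,
    .ofNat 0, .ofNat 0, .ofNat 0, .ofNat 0, .ofNat 0, .ofNat 0, .ofNat 0, .ofNat 0, .ofNat 0, .ofNat 0,
    .ofNat 0, .ofNat 0, .ofNat 0, .ofNat 0, .ofNat 0, .ofNat 0]

/-- a seed -/
def s1_17 : List ℤ := [.ofNat 340789206107750400, .ofNat 26542080, .ofNat 0, .ofNat 0, .ofNat 0, .ofNat 0,
    .ofNat 0, .ofNat 2292675840, .ofNat 0, .ofNat 0, .ofNat 55296, .ofNat 0, .ofNat 0, .ofNat 0, .ofNat 0,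
    .ofNat 0, .ofNat 0, .ofNat 0, .ofNat 0, .ofNat 0, .ofNat 6912, .ofNat 0, .ofNat 0, .ofNat 0, .ofNat 0,
    .ofNat 0, .ofNat 0, .ofNat 0, .ofNat 0, .ofNat 0, .ofNat 0, .ofNat 0, .ofNat 0, .ofNat 0, .ofNat 0,
    .ofNat 0, .ofNat 0, .ofNat 0, .ofNat 0, .ofNat 0, .ofNat 0, .ofNat 0, .ofNat 0, .ofNat 0, .ofNat 0,
    .ofNat 1152, .ofNat 0, .ofNat 0, .ofNat 0, .ofNat 0, .ofNat 0, .ofNat 0, .ofNat 0, .ofNat 0, .ofNat 0,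
    .ofNat 0, .ofNat 0, .ofNat 0, .ofNat 0, .ofNat 0, .ofNat 0, .ofNat 0, .ofNat 0, .ofNat 0, .ofNat 0,
    .ofNat 0, .ofNat 0, .ofNat 0, .ofNat 0, .ofNat 0, .ofNat 0, .ofNat 0, .ofNat 0, .ofNat 0, .ofNat 0,
    .ofNat 0, .ofNat 0, .ofNat 0, .ofNat 0, .ofNat 0, .ofNat 0, .ofNat 0, .ofNat 0, .ofNat 0, .ofNat 0,
    .ofNat 0, .ofNat 0, .ofNat 0, .ofNat 0, .ofNat 0, .ofNat 0, .ofNat 0]

/-- a seed -/
def s1_18 : List ℤ := [.ofNat 340789206107750400, .ofNat 26542080, .ofNat 0, .ofNat 0, .ofNat 157464, .ofNat 0,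
    .ofNat 0, .ofNat 0, .ofNat 0, .ofNat 0, .ofNat 55296, .ofNat 0, .ofNat 0, .ofNat 0, .ofNat 216, .ofNat 0,
    .ofNat 0, .ofNat 0, .ofNat 0, .ofNat 0, .ofNat 0, .ofNat 0, .ofNat 0, .ofNat 0, .ofNat 0, .ofNat 0,
    .ofNat 0, .ofNat 0, .ofNat 0, .ofNat 0, .ofNat 0, .ofNat 0, .ofNat 0, .ofNat 0, .ofNat 0, .ofNat 0,
    .ofNat 0, .ofNat 0, .ofNat 0, .ofNat 0, .ofNat 0, .ofNat 0, .ofNat 0, .ofNat 0, .ofNat 0, .ofNat 0,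
    .ofNat 0, .ofNat 72, .ofNat 0, .ofNat 0, .ofNat 0, .ofNat 0, .ofNat 0, .ofNat 0, .ofNat 0, .ofNat 0,
    .ofNat 0, .ofNat 0, .ofNat 0, .ofNat 0, .ofNat 0, .ofNat 0, .ofNat 0, .ofNat 0, .ofNat 0, .ofNat 0,
    .ofNat 0, .ofNat 0, .ofNat 0, .ofNat 0, .ofNat 0, .ofNat 0, .ofNat 0, .ofNat 0, .ofNat 0, .ofNat 0,
    .ofNat 0, .ofNat 0, .ofNat 0, .ofNat 0, .ofNat 0, .ofNat 0, .ofNat 0, .ofNat 0, .ofNat 0, .ofNat 0,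
    .ofNat 0, .ofNat 0, .ofNat 0, .ofNat 0, .ofNat 0, .ofNat 0]

/-- a seed -/
def s1_19 : List ℤ := [.ofNat 185885021513318400, .ofNat 0, .ofNat 0, .ofNat 5869250150400, .ofNat 0, .ofNat 0,
    .ofNat 0, .ofNat 0, .ofNat 0, .ofNat 0, .ofNat 0, .ofNat 0, .ofNat 0, .ofNat 0, .ofNat 0, .ofNat 0,
    .ofNat 0, .ofNat 0, .ofNat 0, .ofNat 0, .ofNat 0, .ofNat 0, .ofNat 0, .ofNat 0, .ofNat 0, .ofNat 0,
    .ofNat 0, .ofNat 0, .ofNat 0, .ofNat 0, .ofNat 0, .ofNat 0, .ofNat 0, .ofNat 0, .ofNat 0, .ofNat 0,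
    .ofNat 0, .ofNat 0, .ofNat 0, .ofNat 20, .ofNat 0, .ofNat 0, .ofNat 0, .ofNat 0, .ofNat 0, .ofNat 0,
    .ofNat 0, .ofNat 0, .ofNat 0, .ofNat 0, .ofNat 0, .ofNat 0, .ofNat 0, .ofNat 0, .ofNat 0, .ofNat 0,
    .ofNat 0, .ofNat 0, .ofNat 0, .ofNat 0, .ofNat 0, .ofNat 0, .ofNat 0, .ofNat 0, .ofNat 0, .ofNat 0,
    .ofNat 0, .ofNat 0, .ofNat 0, .ofNat 0, .ofNat 0, .ofNat 0, .ofNat 0, .ofNat 0, .ofNat 10, .ofNat 0,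
    .ofNat 0, .ofNat 0, .ofNat 0, .ofNat 0, .ofNat 0, .ofNat 0, .ofNat 0, .ofNat 0, .ofNat 0, .ofNat 0,
    .ofNat 0, .ofNat 0, .ofNat 0, .ofNat 0, .ofNat 0, .ofNat 0]

/-- a seed -/
def s1_20 : List ℤ := [.ofNat 151461869381222400, .ofNat 0, .ofNat 0, .ofNat 0, .ofNat 0, .ofNat 0,
    .ofNat 120932352, .ofNat 0, .ofNat 0, .ofNat 0, .ofNat 0, .ofNat 0, .ofNat 0, .ofNat 0, .ofNat 0, .ofNat 0,
    .ofNat 0, .ofNat 0, .ofNat 0, .ofNat 0, .ofNat 0, .ofNat 0, .ofNat 0, .ofNat 0, .ofNat 0, .ofNat 0,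
    .ofNat 0, .ofNat 0, .ofNat 0, .ofNat 0, .ofNat 0, .ofNat 0, .ofNat 0, .ofNat 0, .ofNat 0, .ofNat 3888,
    .ofNat 0, .ofNat 0, .ofNat 0, .ofNat 0, .ofNat 0, .ofNat 0, .ofNat 0, .ofNat 0, .ofNat 0, .ofNat 0,
    .ofNat 0, .ofNat 0, .ofNat 0, .ofNat 0, .ofNat 0, .ofNat 0, .ofNat 0, .ofNat 0, .ofNat 0, .ofNat 0,
    .ofNat 0, .ofNat 0, .ofNat 0, .ofNat 0, .ofNat 0, .ofNat 0, .ofNat 0, .ofNat 0, .ofNat 0, .ofNat 0,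
    .ofNat 0, .ofNat 0, .ofNat 0, .ofNat 0, .ofNat 0, .ofNat 0, .ofNat 0, .ofNat 0, .ofNat 0, .ofNat 0,
    .ofNat 0, .ofNat 0, .ofNat 0, .ofNat 0, .ofNat 18, .ofNat 0, .ofNat 0, .ofNat 0, .ofNat 0, .ofNat 0,
    .ofNat 0, .ofNat 0, .ofNat 0, .ofNat 0, .ofNat 0, .ofNat 0]

/-- a seed -/
def s1_21 : List ℤ := [.ofNat 113596402035916800, .ofNat 0, .ofNat 2043740160, .ofNat 0, .ofNat 0, .ofNat 0,
    .ofNat 90699264, .ofNat 0, .ofNat 0, .ofNat 0, .ofNat 0, .ofNat 322560, .ofNat 0, .ofNat 0, .ofNat 0,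
    .ofNat 0, .ofNat 0, .ofNat 0, .ofNat 0, .ofNat 0, .ofNat 0, .ofNat 20736, .ofNat 0, .ofNat 0, .ofNat 0,
    .ofNat 0, .ofNat 0, .ofNat 0, .ofNat 0, .ofNat 0, .ofNat 0, .ofNat 0, .ofNat 0, .ofNat 972, .ofNat 0,
    .ofNat 0, .ofNat 0, .ofNat 0, .ofNat 0, .ofNat 0, .ofNat 0, .ofNat 0, .ofNat 0, .ofNat 0, .ofNat 0,
    .ofNat 0, .ofNat 0, .ofNat 0, .ofNat 0, .ofNat 0, .ofNat 0, .ofNat 0, .ofNat 0, .ofNat 0, .ofNat 288,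
    .ofNat 0, .ofNat 0, .ofNat 0, .ofNat 0, .ofNat 0, .ofNat 0, .ofNat 0, .ofNat 0, .ofNat 36, .ofNat 0,
    .ofNat 0, .ofNat 0, .ofNat 0, .ofNat 0, .ofNat 0, .ofNat 0, .ofNat 0, .ofNat 0, .ofNat 0, .ofNat 0,
    .ofNat 0, .ofNat 0, .ofNat 0, .ofNat 0, .ofNat 0, .ofNat 0, .ofNat 0, .ofNat 0, .ofNat 0, .ofNat 0,
    .ofNat 0, .ofNat 12, .ofNat 0, .ofNat 0, .ofNat 0, .ofNat 0, .ofNat 0]

/-- the program for the seeds -/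
def slp1 : List (List ℤ × Sm1.Op) := [(s1_0, .mul 0 0), (s1_1, .coad 2 2), (s1_2, .coad 2 3), (s1_3, .del 0 2),
    (s1_4, .coad 1 5), (s1_5, .mul 5 6), (s1_6, .coad 7 3), (s1_7, .coad 0 2), (s1_8, .coad 1 2), (s1_9, .coad 0
    3), (s1_10, .coad 1 3), (s1_11, .coad 1 4), (s1_12, .coad 0 5), (s1_13, .coad 1 6), (s1_14, .cyc 16),
    (s1_15, .cyc 29), (s1_16, .cyc 40), (s1_17, .cyc 45), (s1_18, .cyc 47), (s1_19, .cyc 74), (s1_20, .cyc 80),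
    (s1_21, .cyc 86)]

/-- the seeds -/
def seeds1 : List (List ℤ) := [sd1, ones] ++ slp1.map Prod.fst

/-- certificates -/
def c0_2_0 : ℕ × ℕ × List Cert := (2, 18, [⟨5, [.gen 0 1 0, .mul 0 0, .mul 1 0, .mul 2 0, .mul 3 0, .mul 4 0,
    .mul 5 0, .gen 0 1 1, .mul 7 0, .mul 8 0, .mul 9 0, .mul 3 3, .mul 4 3, .gen 0 1 2, .mul 13 0, .lin [(77779,
    9), (181211, 8), (8658, 7), (115138, 6), (2268, 5), (115964, 4), (175661, 3), (162789, 2), (82158, 1),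
    (89150, 0)], .lin [(88333, 9), (18407, 8), (204537, 7), (212949, 6), (252613, 5), (245744, 4), (232275, 3),
    (145580, 2), (89086, 1)], .lin [(226883, 9), (115367, 8), (26353, 7), (9101, 6), (80152, 5), (29912, 4),
    (103836, 3), (178716, 2)], .lin [(211591, 9), (212632, 8), (212789, 7), (114240, 6), (128632, 5), (124876,
    4), (117232, 3)], .lin [(91973, 9), (171523, 8), (68786, 7), (249470, 6), (101291, 5), (113581, 4)], .lin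
    [(19943, 9), (125334, 8), (231780, 7), (245634, 6), (29251, 5)], .lin [(225735, 9), (36409, 8), (55827, 7),
    (206317, 6)], .lin [(103929, 9), (222858, 8), (153215, 7)], .lin [(218453, 9), (43691, 8)], .lin [(29127,
    9)]], [(5, 1), (7, 2), (6, 2), (8, 4), (1, 4), (2, 8), (0, 8), (3, 64), (4, 16), (9, 128)]⟩,
⟨12, [.one, .gen 0 1 0, .gen 12 1 0, .mul 1 0, .mul 1 1, .mul 2 1, .lin [(256009, 5), (141483, 4), (40716, 3),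
    (172036, 2), (205563, 1), (232769, 0)], .lin [(232773, 6), (213930, 5), (262138, 4), (103454, 3), (236281,
    2)], .lin [(53677, 7), (244251, 6), (33705, 5), (192655, 4)], .lin [(6355, 7), (255789, 6)], .lin [(262143,
    9), (1, 8)], .lin [(1, 10)]], [(4, 1), (5, 2), (0, 2), (1, 4), (2, 8), (3, 16)]⟩,
⟨27, [.one, .gen 0 1 0, .gen 4 1 0, .mul 1 0, .lin [(115352, 2), (99612, 1), (52429, 0)], .lin [(125829, 3),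
    (103110, 2)], .lin [(2, 5), (160199, 3)], .lin [(1, 6)]], [(2, 1), (3, 2), (0, 2), (1, 8)]⟩,
⟨31, [.one, .gen 0 1 0, .lin [(131075, 1), (131071, 0)], .lin [(1, 2)]], [(0, 1), (1, 2)]⟩,
⟨32, [.one, .gen 0 1 0, .gen 0 1 1, .mul 1 0, .lin [(144, 3), (262096, 2), (262127, 1), (1, 0)], .lin [(262126,
    4), (6, 3), (1, 2)], .lin [(131075, 5), (218453, 4)], .lin [(1, 6)]], [(0, 1), (1, 2), (2, 4), (3, 8)]⟩,
⟨35, [.one, .gen 10 1 0, .mul 0 0, .lin [(212706, 1), (233975, 0)], .lin [(236569, 2)], .lin [(1, 4)]], [(2, 1),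
    (0, 2), (1, 8)]⟩])

/-- certificates -/
def c0_2_1 : ℕ × ℕ × List Cert := (2, 18, [⟨39, [.one, .gen 10 1 0, .gen 21 1 0, .lin [(262143, 1), (52429, 0)],
    .lin [(4, 3), (196607, 2)], .lin [(1, 4)]], [(0, 1), (1, 4), (2, 2)]⟩,
⟨55, [.one, .gen 0 1 0, .lin [(131075, 1), (131071, 0)], .lin [(1, 2)]], [(0, 1), (1, 2)]⟩,
⟨58, [.one, .gen 0 1 0, .mul 0 0, .gen 10 1 0, .lin [(174766, 2), (240297, 1), (4, 0)], .lin [(52429, 1)], .lin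
    [(2, 5), (131071, 4)], .lin [(1, 6)]], [(2, 1), (3, 2), (0, 2), (1, 8)]⟩,
⟨59, [.one, .gen 0 3 0, .lin [(43693, 1), (160199, 0)], .lin [(1, 2)]], [(0, 1), (1, 2)]⟩,
⟨72, [.one, .gen 3 1 0, .lin [(2, 1), (131071, 0)], .lin [(1, 2)]], [(0, 1), (1, 2)]⟩])

/-- certificates -/
def c0_3_0 : ℕ × ℕ × List Cert := (3, 13, [⟨2, [.one, .gen 0 1 0, .mul 0 0, .mul 1 0, .gen 10 1 0, .mul 3 0,
    .mul 1 1, .lin [(388258, 6), (656097, 5), (283626, 4), (1074592, 3), (1328436, 2), (508905, 1)], .lin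
    [(981716, 7), (4420, 6), (1043987, 5), (1068810, 3), (386939, 1)], .lin [(228899, 8), (96961, 7), (1438229,
    6), (299313, 4)], .lin [(633641, 9), (511001, 8), (521221, 5)], .lin [(1594321, 10), (1, 9)], .lin [(1,
    11)]], [(4, 1), (5, 3), (1, 3), (3, 27), (0, 27), (2, 729)]⟩,
⟨3, [.gen 0 1 0, .mul 0 0, .mul 1 0, .mul 2 0, .mul 3 0, .gen 11 1 0, .mul 5 0, .gen 0 2 0, .mul 0 0, .gen 0 1
    1, .lin [(1443420, 7), (1036638, 6), (531441, 5), (1059962, 4), (503014, 3), (1185354, 2), (1573182, 1),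
    (905418, 0)], .lin [(462465, 8), (343566, 7), (468747, 6), (744698, 4), (1547673, 3), (1291084, 2), (617247,
    1)], .lin [(825483, 8), (1090437, 7), (598560, 5), (1400520, 4), (383162, 3), (344211, 2)], .lin [(655696,
    9), (443969, 8), (478353, 6), (164886, 5), (571088, 3)], .lin [(202253, 11), (180652, 9), (935247, 6),
    (625358, 4)], .lin [(596319, 10), (332668, 7), (1429436, 5)], .lin [(664301, 6)], .lin [(1, 12)]], [(4, 1),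
    (5, 3), (6, 3), (1, 9), (3, 27), (7, 81), (0, 243), (2, 19683)]⟩,
⟨8, [.one, .gen 0 1 0, .mul 0 0, .gen 10 1 0, .gen 18 1 0, .lin [(1594315, 4), (10, 3), (1594321, 2), (332151,
    1)], .lin [(1062881, 5), (531442, 4), (564656, 2)], .lin [(1328478, 6), (265848, 5), (66430, 2)], .lin
    [(1328606, 7), (265720, 6)], .lin [(1, 8)]], [(0, 1), (1, 3), (2, 3), (3, 3), (4, 9)]⟩,
⟨9, [.one, .gen 0 1 0, .mul 0 0, .lin [(1383959, 2), (354296, 1), (1450391, 0)], .lin [(1009741, 3), (584585,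
    2)], .lin [(1, 4)]], [(0, 1), (1, 3), (2, 9)]⟩,
⟨11, [.one, .gen 0 1 0, .mul 0 0, .mul 1 0, .gen 23 1 0, .lin [(623862, 4), (1439820, 3), (677349, 2), (654013,
    1), (745173, 0)], .lin [(904833, 5), (275796, 4), (1047560, 3), (854619, 1)], .lin [(398580, 6), (1461463,
    5), (498226, 2)], .lin [(1, 6)], .lin [(1, 8)]], [(4, 1), (1, 3), (2, 3), (0, 9), (3, 81)]⟩,
⟨12, [.one, .gen 0 1 0, .mul 0 0, .lin [(9, 2), (1556361, 1), (1024922, 0)], .lin [(956598, 3), (106288, 2)],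
    .lin [(1, 4)]], [(0, 1), (1, 3), (2, 9)]⟩,
⟨27, [.one, .gen 3 1 0, .lin [(371009, 1), (1408820, 0)], .lin [(1, 2)]], [(0, 1), (1, 3)]⟩,
⟨28, [.one, .gen 0 1 0, .lin [(3, 1), (1062881, 0)], .lin [(1, 2)]], [(0, 1), (1, 3)]⟩])

/-- certificates -/
def c0_3_1 : ℕ × ℕ × List Cert := (3, 13, [⟨29, [.one, .gen 0 1 0, .lin [(1328606, 1), (265720, 0)], .lin [(1,
    2)]], [(0, 1), (1, 3)]⟩,
⟨30, [.one, .gen 0 1 0, .lin [(1328606, 1), (265720, 0)], .lin [(1, 2)]], [(0, 1), (1, 3)]⟩,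
⟨36, [.one, .gen 0 1 0, .lin [(3, 1), (1062881, 0)], .lin [(1, 2)]], [(0, 1), (1, 3)]⟩,
⟨37, [.one, .gen 0 1 0, .lin [(1062887, 1), (1062881, 0)], .lin [(1, 2)]], [(0, 1), (1, 3)]⟩,
⟨38, [.one, .gen 4 1 0, .lin [(3, 1), (705944, 0)], .lin [(1, 2)]], [(0, 1), (1, 3)]⟩,
⟨55, [.one, .gen 0 1 0, .lin [(3, 1), (1062881, 0)], .lin [(1, 2)]], [(0, 1), (1, 3)]⟩,
⟨57, [.one, .gen 0 1 0, .lin [(531445, 1), (1062881, 0)], .lin [(1, 2)]], [(0, 1), (1, 3)]⟩,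
⟨71, [.one, .gen 0 1 0, .lin [(3, 1), (1062881, 0)], .lin [(1, 2)]], [(0, 1), (1, 3)]⟩])

/-- certificates -/
def c0_5_0 : ℕ × ℕ × List Cert := (5, 2, [⟨0, [.one, .lin [(1, 0)]], [(0, 1)]⟩,
⟨1, [.one, .gen 0 1 0, .lin [(23, 1), (19, 0)], .lin [(1, 2)]], [(0, 1), (1, 5)]⟩,
⟨2, [.one, .gen 0 1 0, .lin [(15, 1), (13, 0)], .lin [(1, 2)]], [(0, 1), (1, 5)]⟩,
⟨3, [.one, .lin [(1, 0)]], [(0, 1)]⟩,
⟨5, [.one, .gen 0 1 0, .lin [(5, 1), (17, 0)], .lin [(1, 2)]], [(0, 1), (1, 5)]⟩,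
⟨7, [.one, .gen 0 1 0, .lin [(24, 1), (1, 0)], .lin [(1, 2)]], [(0, 1), (1, 5)]⟩,
⟨9, [.one, .gen 0 1 0, .lin [(11, 1), (19, 0)], .lin [(1, 2)]], [(0, 1), (1, 5)]⟩,
⟨11, [.one, .gen 0 1 0, .lin [(4, 1), (17, 0)], .lin [(1, 2)]], [(0, 1), (1, 5)]⟩,
⟨24, [.one, .gen 0 1 0, .lin [(5, 1), (1, 0)], .lin [(1, 2)]], [(0, 1), (1, 5)]⟩,
⟨25, [.one, .gen 0 1 0, .lin [(3, 1), (1, 0)], .lin [(1, 2)]], [(0, 1), (1, 5)]⟩,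
⟨26, [.one, .gen 14 1 0, .lin [(5, 1), (1, 0)], .lin [(1, 2)]], [(0, 1), (1, 5)]⟩,
⟨27, [.one, .gen 0 1 0, .lin [(5, 1), (17, 0)], .lin [(1, 2)]], [(0, 1), (1, 5)]⟩,
⟨53, [.one, .gen 0 1 0, .lin [(5, 1), (13, 0)], .lin [(1, 2)]], [(0, 1), (1, 5)]⟩])

/-- certificates -/
def c0_7_0 : ℕ × ℕ × List Cert := (7, 1, [⟨0, [.one, .lin [(1, 0)]], [(0, 1)]⟩,
⟨2, [.one, .lin [(1, 0)]], [(0, 1)]⟩,
⟨3, [.one, .lin [(1, 0)]], [(0, 1)]⟩,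
⟨7, [.one, .lin [(1, 0)]], [(0, 1)]⟩,
⟨11, [.one, .lin [(1, 0)]], [(0, 1)]⟩,
⟨12, [.one, .lin [(1, 0)]], [(0, 1)]⟩,
⟨26, [.one, .lin [(1, 0)]], [(0, 1)]⟩])

/-- certificates -/
def c0_11_0 : ℕ × ℕ × List Cert := (11, 1, [⟨0, [.one, .lin [(1, 0)]], [(0, 1)]⟩,
⟨2, [.one, .lin [(1, 0)]], [(0, 1)]⟩,
⟨3, [.one, .lin [(1, 0)]], [(0, 1)]⟩])

/-- certificates -/
def c0_13_0 : ℕ × ℕ × List Cert := (13, 1, [⟨0, [.one, .lin [(1, 0)]], [(0, 1)]⟩,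
⟨3, [.one, .lin [(1, 0)]], [(0, 1)]⟩,
⟨7, [.one, .lin [(1, 0)]], [(0, 1)]⟩])

/-- certificates -/
def c0_17_0 : ℕ × ℕ × List Cert := (17, 1, [⟨0, [.one, .lin [(1, 0)]], [(0, 1)]⟩])

/-- certificates -/
def c0_23_0 : ℕ × ℕ × List Cert := (23, 1, [⟨0, [.one, .lin [(1, 0)]], [(0, 1)]⟩])

/-- the certificates for the rows -/
def CL0 : List (ℕ × ℕ × List Cert) := [c0_2_0, c0_2_1, c0_3_0, c0_3_1, c0_5_0, c0_7_0, c0_11_0, c0_13_0, c0_17_0, c0_23_0]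

theorem ok_slp1 : Sm1.chkSlp D true slp1 [sd1, ones] = true := by decide +kernel

theorem ok_c0_2_0 : chkP D c0_2_0.1 c0_2_0.2.1 (c0_2_0.1 ^ c0_2_0.2.1) seeds1 c0_2_0.2.2 rows = true := by decide +kernel

theorem ok_c0_2_1 : chkP D c0_2_1.1 c0_2_1.2.1 (c0_2_1.1 ^ c0_2_1.2.1) seeds1 c0_2_1.2.2 rows = true := by decide +kernel

theorem ok_c0_3_0 : chkP D c0_3_0.1 c0_3_0.2.1 (c0_3_0.1 ^ c0_3_0.2.1) seeds1 c0_3_0.2.2 rows = true := by decide +kernel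

theorem ok_c0_3_1 : chkP D c0_3_1.1 c0_3_1.2.1 (c0_3_1.1 ^ c0_3_1.2.1) seeds1 c0_3_1.2.2 rows = true := by decide +kernel

theorem ok_c0_5_0 : chkP D c0_5_0.1 c0_5_0.2.1 (c0_5_0.1 ^ c0_5_0.2.1) seeds1 c0_5_0.2.2 rows = true := by decide +kernel

theorem ok_c0_7_0 : chkP D c0_7_0.1 c0_7_0.2.1 (c0_7_0.1 ^ c0_7_0.2.1) seeds1 c0_7_0.2.2 rows = true := by decide +kernel

theorem ok_c0_11_0 : chkP D c0_11_0.1 c0_11_0.2.1 (c0_11_0.1 ^ c0_11_0.2.1) seeds1 c0_11_0.2.2 rows = true := by decide +kernel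

theorem ok_c0_13_0 : chkP D c0_13_0.1 c0_13_0.2.1 (c0_13_0.1 ^ c0_13_0.2.1) seeds1 c0_13_0.2.2 rows = true := by decide +kernel

theorem ok_c0_17_0 : chkP D c0_17_0.1 c0_17_0.2.1 (c0_17_0.1 ^ c0_17_0.2.1) seeds1 c0_17_0.2.2 rows = true := by decide +kernel

theorem ok_c0_23_0 : chkP D c0_23_0.1 c0_23_0.2.1 (c0_23_0.1 ^ c0_23_0.2.1) seeds1 c0_23_0.2.2 rows = true := by decide +kernel

theorem ok_CL0 : ∀ y ∈ CL0, chkP D y.1 y.2.1 (y.1 ^ y.2.1) seeds1 y.2.2 rows = true :=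
  List.forall_mem_cons.2 ⟨ok_c0_2_0,
  List.forall_mem_cons.2 ⟨ok_c0_2_1,
  List.forall_mem_cons.2 ⟨ok_c0_3_0,
  List.forall_mem_cons.2 ⟨ok_c0_3_1,
  List.forall_mem_cons.2 ⟨ok_c0_5_0,
  List.forall_mem_cons.2 ⟨ok_c0_7_0,
  List.forall_mem_cons.2 ⟨ok_c0_11_0,
  List.forall_mem_cons.2 ⟨ok_c0_13_0,
  List.forall_mem_cons.2 ⟨ok_c0_17_0,
  List.forall_mem_cons.2 ⟨ok_c0_23_0,
  List.forall_mem_nil _⟩⟩⟩⟩⟩⟩⟩⟩⟩⟩

theorem ones_eq : ∀ t < D.n, 1 = nth ones t := by decide +kernel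

variable {G : Type} [Group G] {T : TD G D}

theorem Hyp.slp (h : Hyp T) : Sm1.Hyp T true := Sm1.Hyp.true h.1 h.2.1 cnt_pos

variable [Finite G]

theorem virt_seeds1 (h : Hyp T) : ∀ v ∈ seeds1, Virt T (nth v) :=
  Sm1.virt_chkSlp h.slp slp1 (List.forall_mem_cons.2 ⟨h.2.2.1,
    List.forall_mem_singleton.2 ((Virt.const 1).congr ones_eq)⟩) ok_slp1

theorem good0 (h : Hyp T) (l s : ℕ) (hc : Co.hasC CL0 l s = true) : ∀ r ∈ rows, Eng.Good T l s (nth r) :=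
  Co.good_of_certs h.1.1 (virt_seeds1 h) ok_CL0 hc

end Cfsg.Agent.TAB.F23
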