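import Cfsg.Agent.TAB.F23.C0

/-!
# `Fi₂₃` : 69 rows are virtual (helper12, TAB; generated by `notes/TAB/F23/gen.py.txt`)
-/

set_option autoImplicit false
set_option maxRecDepth 100000

namespace Cfsg.Agent.TAB.F23

open Cfsg Cfsg.Agent.TAB.Eng Cfsg.Agent.TAB.Use Cfsg.Agent.TAB.Glue

/-- the levels -/
def lv1 : List Lv := [⟨0, 2, 1, [], true⟩, ⟨49, 2, 6, [], true⟩, ⟨50, 2, 1, [5], true⟩, ⟨55, 2, 1, [1], true⟩,
    ⟨56, 2, 1, [1], true⟩, ⟨67, 2, 3, [0], true⟩, ⟨68, 2, 1, [2, 0], true⟩, ⟨78, 2, 6, [0, 0], true⟩, ⟨53, 2, 1,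
    [3, 2, 2], true⟩, ⟨91, 1, 1, [2, 2, 2], true⟩, ⟨20, 2, 72, [0, 0, 0], true⟩, ⟨23, 2, 1, [69, 3, 1, 0],
    true⟩, ⟨24, 2, 1, [55, 3, 2, 3], true⟩, ⟨75, 2, 1, [2, 4, 2, 2], true⟩, ⟨88, 1, 1, [20, 2, 1, 4], true⟩,
    ⟨89, 1, 1, [20, 2, 1, 0], true⟩, ⟨90, 1, 1, [20, 4, 1, 4], true⟩, ⟨15, 2, 2, [36, 0, 1, 4], true⟩, ⟨21, 2,
    1, [1, 70, 0, 2, 2], true⟩, ⟨45, 2, 1, [1, 38, 2, 2, 5], true⟩, ⟨69, 2, 1, [1, 70, 0, 2, 2], true⟩, ⟨76, 2,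
    1, [1, 38, 2, 2, 5], true⟩, ⟨77, 2, 1, [1, 36, 2, 0, 0], true⟩, ⟨3, 2, 6, [0, 18, 0, 0, 0], true⟩, ⟨2, 2, 1,
    [2, 1, 31, 2, 0, 0], true⟩, ⟨6, 2, 1, [4, 0, 17, 4, 1, 5], true⟩, ⟨10, 2, 1, [3, 0, 57, 4, 0, 0], true⟩,
    ⟨18, 2, 1, [5, 1, 11, 5, 1, 3], true⟩, ⟨19, 2, 1, [3, 0, 30, 3, 0, 3], true⟩, ⟨26, 2, 1, [2, 1, 49, 3, 2,
    5], true⟩, ⟨39, 2, 1, [2, 0, 63, 5, 2, 0], true⟩, ⟨43, 2, 1, [1, 1, 25, 2, 1, 2], true⟩, ⟨44, 2, 1, [3, 1,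
    49, 5, 1, 0], true⟩, ⟨54, 2, 1, [3, 0, 0, 3, 0, 3], true⟩, ⟨65, 2, 1, [3, 1, 54, 3, 2, 2], true⟩, ⟨86, 1, 1,
    [2, 0, 56, 2, 0, 0], true⟩, ⟨1, 2, 2, [2, 0, 22, 0, 1, 0], true⟩, ⟨5, 2, 1, [1, 0, 0, 0, 0, 0, 0], true⟩,
    ⟨12, 2, 1, [1, 4, 0, 45, 5, 0, 3], true⟩, ⟨17, 2, 1, [1, 5, 0, 45, 2, 1, 3], true⟩, ⟨25, 2, 1, [1, 5, 1, 8,
    1, 0, 2], true⟩, ⟨35, 2, 1, [1, 1, 0, 28, 0, 1, 3], true⟩, ⟨36, 2, 1, [1, 5, 1, 61, 1, 1, 3], true⟩, ⟨48, 2,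
    1, [1, 0, 0, 17, 5, 0, 0], true⟩, ⟨51, 2, 1, [1, 5, 0, 24, 5, 2, 5], true⟩, ⟨62, 2, 1, [1, 2, 1, 38, 4, 0,
    5], true⟩, ⟨73, 2, 1, [1, 2, 0, 3, 2, 2, 3], true⟩, ⟨83, 2, 1, [1, 1, 0, 32, 3, 2, 3], true⟩, ⟨84, 2, 1, [1,
    5, 0, 48, 5, 1, 3], true⟩, ⟨85, 2, 1, [1, 2, 1, 50, 4, 0, 5], true⟩, ⟨4, 2, 2, [0, 0, 0, 20, 0, 2, 0],
    true⟩, ⟨9, 2, 1, [1, 0, 1, 0, 47, 2, 2, 0], true⟩, ⟨13, 2, 1, [1, 1, 2, 1, 71, 3, 1, 2], true⟩, ⟨16, 2, 1,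
    [1, 1, 0, 0, 20, 3, 1, 3], true⟩, ⟨28, 2, 1, [1, 0, 0, 1, 61, 3, 0, 2], true⟩, ⟨31, 2, 1, [1, 1, 5, 1, 66,
    3, 1, 3], true⟩, ⟨40, 2, 1, [1, 1, 2, 0, 57, 1, 0, 3], true⟩, ⟨46, 2, 1, [1, 1, 3, 0, 1, 5, 0, 0], true⟩,
    ⟨52, 2, 1, [1, 1, 5, 1, 8, 0, 0, 3], true⟩, ⟨61, 2, 1, [1, 1, 4, 0, 56, 2, 1, 3], true⟩, ⟨63, 2, 1, [1, 0,
    2, 0, 36, 5, 1, 1], true⟩, ⟨64, 2, 1, [1, 1, 4, 1, 9, 3, 2, 2], true⟩, ⟨70, 2, 1, [1, 0, 0, 0, 19, 3, 1, 3],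
    true⟩, ⟨72, 2, 1, [1, 1, 4, 0, 69, 2, 1, 2], true⟩, ⟨79, 2, 1, [1, 1, 1, 1, 1, 5, 2, 0], true⟩, ⟨80, 2, 1,
    [1, 1, 1, 1, 0, 3, 2, 5], true⟩, ⟨81, 2, 1, [1, 1, 1, 0, 57, 0, 0, 0], true⟩, ⟨7, 2, 16, [0, 0, 2, 0, 38, 4,
    2, 4], false⟩, ⟨11, 2, 1, [15, 0, 1, 5, 1, 59, 4, 2, 4], false⟩, ⟨29, 2, 1, [15, 0, 0, 4, 0, 35, 3, 2, 3],
    false⟩, ⟨32, 2, 1, [15, 1, 0, 0, 1, 12, 2, 2, 5], false⟩, ⟨59, 2, 1, [1, 1, 1, 4, 1, 35, 5, 0, 3], false⟩,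
    ⟨60, 2, 1, [1, 1, 0, 5, 1, 63, 4, 2, 0], false⟩, ⟨66, 2, 1, [15, 1, 1, 4, 1, 14, 2, 1, 5], false⟩, ⟨82, 2,
    1, [15, 0, 1, 4, 1, 14, 0, 1, 2], false⟩, ⟨87, 1, 1, [2, 0, 0, 2, 0, 30, 2, 2, 2], false⟩, ⟨8, 2, 2, [2, 0,
    0, 0, 0, 8, 4, 2, 4], false⟩, ⟨14, 2, 1, [1, 2, 1, 0, 2, 1, 3, 2, 0, 1], false⟩, ⟨22, 2, 1, [1, 1, 1, 0, 3,
    1, 69, 3, 1, 4], true⟩, ⟨27, 2, 1, [1, 1, 0, 0, 3, 0, 51, 4, 0, 4], true⟩, ⟨30, 2, 1, [1, 0, 1, 0, 2, 0, 61,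
    0, 2, 1], false⟩, ⟨47, 2, 1, [1, 2, 0, 0, 0, 1, 10, 2, 1, 0], false⟩, ⟨57, 2, 1, [1, 2, 1, 0, 5, 1, 26, 1,
    2, 5], false⟩, ⟨58, 2, 1, [1, 2, 1, 0, 3, 1, 26, 1, 2, 1], false⟩, ⟨33, 2, 4, [0, 8, 0, 0, 0, 0, 8, 2, 1,
    4], false⟩, ⟨34, 2, 1, [1, 1, 1, 0, 0, 5, 0, 41, 2, 2, 0], false⟩, ⟨37, 2, 1, [1, 1, 1, 1, 0, 5, 0, 47, 4,
    0, 5], false⟩, ⟨38, 2, 1, [1, 1, 1, 0, 0, 1, 1, 35, 5, 2, 0], false⟩, ⟨41, 2, 1, [3, 0, 8, 0, 0, 2, 1, 18,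
    5, 1, 1], false⟩, ⟨42, 2, 1, [3, 0, 8, 0, 0, 4, 1, 12, 1, 2, 1], false⟩, ⟨71, 2, 1, [3, 0, 8, 1, 0, 4, 1,
    50, 5, 1, 4], false⟩, ⟨74, 2, 1, [1, 1, 1, 0, 0, 3, 0, 53, 2, 0, 3], false⟩]

/-- certificates -/
def c1_2_0 : ℕ × ℕ × List Cert := (2, 18, [⟨0, [.gen 0 1 0, .mul 0 0, .mul 1 0, .gen 3 1 0, .mul 3 0, .mul 4 0,
    .gen 4 1 0, .mul 6 0, .mul 1 1, .gen 8 1 0, .gen 9 1 0, .gen 11 1 0, .gen 12 1 0, .gen 17 1 0, .lin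
    [(253619, 11), (9319, 9), (10380, 8), (99788, 7), (223702, 6), (64456, 5), (110225, 4), (126037, 3),
    (159588, 2), (137198, 1)], .lin [(195323, 10), (79605, 9), (224252, 8), (77848, 7), (261700, 6), (67220, 5),
    (132666, 4), (6444, 3), (148968, 2)], .lin [(258479, 10), (90569, 9), (161834, 8), (38911, 7), (82011, 6),
    (119559, 5), (201093, 4), (212014, 3)], .lin [(101557, 10), (101458, 9), (39375, 8), (226595, 7), (240526,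
    6), (261637, 5), (55810, 4)], .lin [(103508, 10), (125393, 9), (69527, 8), (72642, 7), (209255, 6), (16605,
    5)], .lin [(30105, 11), (9016, 9), (12503, 8), (18271, 7), (204752, 6)], .lin [(12747, 10), (143819, 8),
    (105578, 7)], .lin [(185688, 10), (218464, 9), (43680, 8), (173397, 7)], .lin [(174763, 11), (174764, 10),
    (87380, 9)], .lin [(218453, 11), (43691, 10)], .lin [(1, 11)]], [(11, 1), (8, 2), (9, 8), (10, 64), (5, 8),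
    (7, 64), (4, 16), (6, 64), (0, 128), (1, 4096), (2, 2048)]⟩,
⟨4, [.one, .gen 0 1 0, .mul 0 0, .gen 4 1 0, .mul 2 0, .gen 9 1 0, .gen 0 1 1, .lin [(32769, 6), (218452, 5),
    (10923, 4), (84577, 3), (112031, 2)], .lin [(226370, 7), (198612, 6), (63697, 4), (105252, 2), (99306, 1)],
    .lin [(131071, 8), (218454, 7), (56419, 3), (174763, 2)], .lin [(57307, 4)], .lin [(262143, 10), (1, 9)],
    .lin [(1, 11)]], [(4, 1), (5, 2), (0, 4), (1, 4), (2, 8), (3, 16)]⟩,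
⟨6, [.one, .gen 0 1 0, .gen 4 1 0, .mul 1 0, .gen 8 1 0, .mul 3 0, .gen 9 1 0, .gen 10 1 0, .mul 6 0, .mul 1 1,
    .gen 12 1 0, .gen 15 1 0, .gen 0 3 0, .gen 0 1 1, .lin [(7206, 10), (260779, 8), (81816, 7), (155444, 5),
    (61474, 4), (41600, 2)], .lin [(260757, 8), (63692, 6), (207838, 5), (44726, 3)], .lin [(201394, 15),
    (189858, 14), (62224, 13), (247519, 11), (258094, 8), (197958, 5), (125148, 4), (145922, 3), (204708, 2)],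
    .lin [(250262, 14), (17823, 5)], .lin [(84145, 15)], .lin [(189326, 17), (111654, 14), (192239, 11), (8738,
    8), (81556, 6), (8738, 5)], .lin [(50973, 18), (245153, 15), (109227, 9), (189326, 7), (109227, 6)], .lin
    [(144179, 20), (134276, 10), (154665, 8), (89129, 7)], .lin [(233017, 11)], .lin [(104858, 10), (235929,
    9)], .lin [(174763, 11)]], [(10, 1), (5, 4), (8, 8), (9, 4), (6, 4), (7, 8), (1, 32), (3, 64), (2, 16), (0,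
    64), (4, 1024)]⟩,
⟨7, [.one, .gen 3 1 0, .mul 0 0, .gen 9 1 0, .gen 14 1 0, .mul 3 0, .mul 2 1, .mul 2 2, .mul 3 0, .gen 6 1 0,
    .gen 0 3 0, .gen 3 1 1, .lin [(168482, 11), (230965, 10), (91295, 9), (183695, 8), (160722, 7), (16997, 6),
    (183759, 5), (251614, 4), (205614, 3)], .lin [(42657, 12), (69324, 11), (233522, 9), (160033, 8), (139350,
    7), (169419, 5), (157375, 4), (256948, 3)], .lin [(56436, 13), (243007, 12), (215745, 10), (98480, 9),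
    (101796, 6), (95588, 4), (99468, 3)], .lin [(68347, 14), (147456, 13), (4724, 10), (249935, 7), (38623, 5),
    (23237, 4)], .lin [(185662, 15), (5461, 14), (131096, 11), (16381, 8), (191149, 6)], .lin [(233017, 15)],
    .lin [(1, 17), (37448, 13), (224695, 10)], .lin [(87381, 18), (174763, 14)], .lin [(131084, 19), (54613,
    8)], .lin [(1, 20)]], [(8, 1), (9, 8), (6, 2), (7, 16), (4, 8), (5, 16), (0, 8), (1, 64), (2, 64), (3,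
    512)]⟩,
⟨33, [.one, .gen 0 1 0, .gen 10 1 0, .gen 0 3 0, .lin [(78761, 2), (36219, 1), (7473, 0)], .lin [(79783, 2)],
    .lin [(4, 5), (196607, 4)], .lin [(1, 6)]], [(2, 1), (3, 4), (0, 2), (1, 8)]⟩,
⟨34, [.one, .gen 10 1 0, .lin [(4, 1), (234057, 0)], .lin [(1, 2)]], [(0, 1), (1, 4)]⟩])

/-- certificates -/
def c1_3_0 : ℕ × ℕ × List Cert := (3, 13, [⟨0, [.one, .gen 0 1 0, .mul 0 0, .mul 1 0, .gen 3 1 0, .mul 3 0, .gen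
    9 1 0, .gen 10 1 0, .mul 6 0, .gen 12 1 0, .gen 13 1 0, .gen 22 1 0, .lin [(1496961, 11), (1446329, 10),
    (1106486, 9), (429991, 8), (1488057, 7), (1542207, 6), (396996, 5), (405957, 4), (75868, 3), (1257237, 2),
    (1077963, 1), (631557, 0)], .lin [(718011, 12), (617328, 11), (1545934, 10), (1208156, 8), (1230842, 6),
    (1338613, 5), (525387, 3), (1425809, 2), (957987, 1)], .lin [(518094, 13), (1152825, 12), (251596, 11),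
    (1159511, 9), (866726, 7), (1234179, 6), (1499838, 4), (1054107, 2)], .lin [(149457, 14), (1079892, 13),
    (117288, 12), (428547, 10), (393243, 7), (162892, 5), (855585, 3)], .lin [(409009, 15), (745605, 14),
    (299106, 13), (1514998, 11), (1295015, 8), (1499655, 4)], .lin [(1594322, 16), (387821, 15), (380816, 14),
    (414594, 12), (1, 9)], .lin [(1276559, 16), (68557, 15), (426604, 13)], .lin [(797157, 18), (265722, 17),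
    (398581, 7)], .lin [(1, 18)], .lin [(1, 20)]], [(10, 1), (5, 3), (6, 9), (7, 27), (8, 27), (9, 27), (1, 81),
    (2, 243), (4, 729), (0, 2187)]⟩,
⟨1, [.one, .gen 0 1 0, .mul 0 0, .mul 1 0, .mul 2 0, .gen 9 1 0, .mul 4 0, .mul 5 0, .mul 2 2, .gen 10 1 0, .mul
    8 0, .mul 9 0, .mul 2 2, .gen 16 1 0, .gen 0 1 1, .lin [(1530927, 13), (796083, 12), (338704, 11), (667045,
    10), (896445, 9), (67104, 8), (1069690, 7), (1138014, 6), (1378869, 4), (1287898, 3)], .lin [(229545, 15),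
    (436614, 14), (324580, 13), (222746, 12), (603399, 10), (1282471, 9), (901365, 6), (166245, 5), (646934, 3),
    (1138356, 1)], .lin [(572373, 15), (158955, 14), (119614, 13), (46062, 11), (67788, 10), (694584, 7),
    (569871, 6), (947118, 4)], .lin [(998796, 16), (963425, 15), (99322, 14), (283884, 12), (1480919, 11),
    (1231725, 8), (1259889, 7), (60433, 5), (82115, 4)], .lin [(1336608, 17), (350736, 16), (502213, 15),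
    (1484718, 13), (1247336, 12), (575283, 8)], .lin [(819305, 14), (215898, 10), (603407, 9), (495458, 7)],
    .lin [(1345210, 15), (921718, 10)], .lin [(200544, 21), (1443915, 20), (1142264, 16), (1544187, 7)], .lin
    [(251735, 22), (1006941, 21), (335647, 8)], .lin [(797162, 14)], .lin [(3, 24), (1062881, 23)], .lin [(1,
    25)]], [(9, 1), (10, 3), (11, 3), (1, 3), (3, 9), (5, 9), (6, 9), (0, 27), (2, 27), (4, 81), (7, 27), (8,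
    243)]⟩,
⟨10, [.one, .gen 0 1 0, .mul 0 0, .gen 3 1 0, .mul 0 0, .gen 19 1 0, .gen 20 1 0, .gen 0 2 0, .mul 0 0, .lin
    [(1527912, 7), (221433, 6), (116220, 5), (969466, 4), (280248, 3), (1361817, 2), (199287, 1)], .lin
    [(100179, 8), (52861, 3), (313431, 2), (502124, 1)], .lin [(66432, 9), (741803, 4), (1262172, 3)], .lin
    [(398582, 10), (664301, 4)], .lin [(460859, 7)], .lin [(531442, 12), (66430, 10)], .lin [(3, 14), (1062881,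
    13)], .lin [(1, 15)]], [(3, 1), (7, 3), (1, 3), (2, 9), (4, 3), (5, 9), (0, 9), (6, 81)]⟩])

/-- the certificates for the relations -/
def CL1 : List (ℕ × ℕ × List Cert) := [c1_2_0, c1_3_0]

theorem ok_c1_2_0 : chkX D seeds1 rows (rels lv1 []) c1_2_0 = true := by decide +kernel

theorem ok_c1_3_0 : chkX D seeds1 rows (rels lv1 []) c1_3_0 = true := by decide +kernel

theorem ok_CL1 : ∀ y ∈ CL1, chkX D seeds1 rows (rels lv1 []) y = true :=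
  List.forall_mem_cons.2 ⟨ok_c1_2_0, List.forall_mem_cons.2 ⟨ok_c1_3_0, List.forall_mem_nil _⟩⟩

theorem ok_all1 : (PL.all fun x => x.2.2.all fun t => Co.hasC CL0 x.1 t || Co.hasC CL1 x.1 t) = true := by
  decide +kernel

theorem ok_lv1 : okG D rows nm lv1 2 2 false = true := by decide +kernel

variable {G : Type} [Group G] [Finite G] {T : TD G D}

theorem virt_lv1 (h : Hyp T) : ∀ l ∈ lv1, l.tg = true → Virt T (nth (ntd rows [] l.j)) :=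
  glue h.1 orth ok_lv1 (virt_combs h.1.1 okPL (good0 h) (virt_seeds1 h) ok_CL1 ok_all1)

end Cfsg.Agent.TAB.F23
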